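import Cfsg.Agent.Mrg.Omega.NOThreeL.Star
import Cfsg.Agent.Mrg.Omega.NOThreeL.RTwo
import Cfsg.Agent.Mrg.Omega.NOThreeL.RStr.Act
import Cfsg.Agent.Mrg.Omega.NOThreeL.AOne
import Cfsg.Agent.Mrg.Omega.NOThreeL.RA.Base
import Cfsg.Agent.Mrg.Omega.NOThreeL.RA.End
import Cfsg.Agent.Mrg.Omega.NOThreeL.RBig.AxRInst
import Cfsg.Agent.Mrg.Omega.All.Basic
import Cfsg.Agent.Lib.CoprimeAbelian
import Cfsg.Agent.Mrg.Omega.NOThreeL.RBig.Sym

-- merged: Cfsg.Agent.Mrg.Omega.NOThreeL.RSplit.Base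
section

/-!
# NO-3L, box R ∩ (A), `q > 2`, `V_P` split over `E = C_Z(P)` (#19602, helper797): the group level

`M : NatK F S P (zl S P) D k`, `D : Hyp M V₀`: `V = zl S P = V₀ × E`, `V₀` normal in `P`, `E ≤ C(P)`.

* `nn M V₀ i`, `rr M V₀ i` : the factors `N_i` of `V₀` and their `S`-lines `R_i`;
* `Hyp.exists_beta` : `U = zl S H` (`PairA S P H`) acts on `N_i` as the root elements `β u i`;
* `Hyp.rt` : the instance of `Root.Rt` over the `H`-module `U`.
-/

set_option autoImplicit false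
set_option linter.unusedSectionVars false

namespace Cfsg.Agent.Omega.NOThreeL.RSplit

open Subgroup Cfsg Cfsg.Agent.Omega.MinPar
open Cfsg.Agent.ZN (zc zl o2)
open Cfsg.Agent.Omega.Frame Cfsg.Agent.Omega.FrameNOFF
open Cfsg.Agent.Omega.Node.NO3L Cfsg.Agent.Omega.NOThreeL.Basic
open Cfsg.Agent.Omega.NoFF.Basic (conj_conj mem_conj conj_le_iff conj_le_centralizer comm_symm comm_mono)
open Cfsg.Agent.Omega.NOThreeL.Pair (conj_eq_of_mem conj_le_normalizer zl_abel)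
open Cfsg.Agent.MinSimple.VModule (zl_le zc_le_zl le_normalizer_zl zc_le o2_isPGroup le_normalizer_o2 le_o2
  normalizer_le_normalizer_zc mem_zc)
open Cfsg.Agent.Omega.FFThm (Off NatK ActsSL)
open Cfsg.Agent.Omega.NatPair (ap ap_mul ap_one ap_inv_ap)
open Cfsg.Agent.Lib.SL2Mat
open Cfsg.Agent.Omega.NOThreeL.RAOne (ap_up' ap_lo')
open Cfsg.Agent.Omega.NOThreeL.RStr (exists_up)
open scoped Pointwise

universe u

variable {G : Type u} [Group G] {F : Type} [Field F] {k : ℕ}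

/-- the factor `N_i` of `V₀` -/
def nn {S P D : Subgroup G} (M : NatK F S P (zl S P) D k) (V₀ : Subgroup G) (i : Fin k) : Subgroup G where
  carrier := {v | v ∈ V₀ ∧ v ∈ zl S P ∧ ∀ j, j ≠ i → M.e v j = 0}
  one_mem' := ⟨one_mem _, one_mem _, fun j _ => by rw [RStr.e_one M]; rfl⟩
  mul_mem' := by
    rintro a b ⟨ha, ha', ha''⟩ ⟨hb, hb', hb''⟩
    refine ⟨mul_mem ha hb, mul_mem ha' hb', fun j hj => ?_⟩
    rw [M.mul a ha' b hb', Pi.add_apply, ha'' j hj, hb'' j hj, add_zero]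
  inv_mem' := by
    rintro a ⟨ha, ha', ha''⟩
    refine ⟨inv_mem ha, inv_mem ha', fun j hj => ?_⟩
    rw [RStr.e_inv M ha', Pi.neg_apply, ha'' j hj, neg_zero]

/-- the `S`-line `R_i` of `N_i` -/
def rr {S P D : Subgroup G} (M : NatK F S P (zl S P) D k) (V₀ : Subgroup G) (i : Fin k) : Subgroup G where
  carrier := {v | v ∈ nn M V₀ i ∧ M.e v i 1 = 0}
  one_mem' := ⟨one_mem _, by rw [RStr.e_one M]; rfl⟩
  mul_mem' := by
    rintro a b ⟨ha, ha'⟩ ⟨hb, hb'⟩
    refine ⟨mul_mem ha hb, ?_⟩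
    rw [M.mul a ha.2.1 b hb.2.1, Pi.add_apply, Pi.add_apply, ha', hb', add_zero]
  inv_mem' := by
    rintro a ⟨ha, ha'⟩
    refine ⟨inv_mem ha, ?_⟩
    rw [RStr.e_inv M ha.2.1, Pi.neg_apply, Pi.neg_apply, ha', neg_zero]

theorem mem_nn {S P D : Subgroup G} {M : NatK F S P (zl S P) D k} {V₀ : Subgroup G} {i : Fin k} {v : G} :
    v ∈ nn M V₀ i ↔ v ∈ V₀ ∧ v ∈ zl S P ∧ ∀ j, j ≠ i → M.e v j = 0 := Iff.rfl

theorem mem_rr {S P D : Subgroup G} {M : NatK F S P (zl S P) D k} {V₀ : Subgroup G} {i : Fin k} {v : G} :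
    v ∈ rr M V₀ i ↔ v ∈ nn M V₀ i ∧ M.e v i 1 = 0 := Iff.rfl

/-- `D` is normal in `P` -/
theorem PD {S P D : Subgroup G} (M : NatK F S P (zl S P) D k) (hDV : D ≤ zl S P) : P ≤ normalizer (D : Set G) := by
  have con : ∀ {g v : G}, g ∈ P → v ∈ zl S P → g * v * g⁻¹ ∈ zl S P := fun hg hv =>
    (mem_normalizer_iff.1 (le_normalizer_zl _ _ hg) _).1 hv
  have ker' : ∀ g ∈ P, ∀ v ∈ zl S P, M.e (g * v * g⁻¹) = 0 ↔ M.e v = 0 := by
    intro g hg v hv
    obtain ⟨σ, hσ⟩ := M.perm g hg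
    constructor
    · intro h
      funext i
      exact (hσ v hv i).1 (congrFun h _)
    · intro h
      funext i
      obtain ⟨j, rfl⟩ := σ.surjective i
      exact (hσ v hv j).2 (congrFun h j)
  intro g hg
  rw [mem_normalizer_iff]
  intro x
  constructor
  · intro hx
    have hxW := hDV hx
    rw [← M.ker _ (con hg hxW), ker' g hg x hxW]
    exact (M.ker x hxW).2 hx
  · intro hx
    have hxW : x ∈ zl S P := (mem_normalizer_iff.1 (le_normalizer_zl _ _ hg) _).2 (hDV hx)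
    rw [← M.ker x hxW, ← ker' g hg x hxW]
    exact (M.ker _ (con hg hxW)).2 hx

theorem quad [Finite G] {S : Sylow 2 G} {P H : Subgroup G} (hc : IsCharacteristicTwoType G)
    (hPH : PairA (S : Subgroup G) P H) : AFour.Quad (S : Subgroup G) P (zl (S : Subgroup G) H) where
  SP := hPH.par.le
  VS := IsParS.zl_le_S hc hPH.par
  US := IsLong.zl_le_S hc hPH.long
  SU := hPH.long.loc.le.trans (le_normalizer_zl _ _)
  ab := fun u hu v hv => mem_centralizer_iff.1 ((zl_abel hc S hPH.long.loc).1 hv) u hu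
  sq := fun u hu => by
    have h1 := (mem_zc.1 (hPH.long.loc.zl_le S hc hu)).2.2
    rwa [pow_two] at h1

/-- The hypotheses on `P`: `V = V₀ × D` with `V₀` normal in `P`, `|F| > 2`. -/
structure Hyp [Finite G] {S : Sylow 2 G} {P D : Subgroup G}
    (M : NatK F (S : Subgroup G) P (zl (S : Subgroup G) P) D k) (V₀ : Subgroup G) : Prop where
  hc : IsCharacteristicTwoType G
  data : DataLow (S : Subgroup G)
  par : IsParS (S : Subgroup G) P
  DV : D ≤ zl (S : Subgroup G) P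
  V0V : V₀ ≤ zl (S : Subgroup G) P
  PV0 : P ≤ normalizer (V₀ : Set G)
  disj : V₀ ⊓ D = ⊥
  sup : zl (S : Subgroup G) P ≤ V₀ ⊔ D
  big : 2 < Nat.card F
  kpos : 0 < k

namespace Hyp

variable [Finite G] {S : Sylow 2 G} {P H D V₀ : Subgroup G}
variable {M : NatK F (S : Subgroup G) P (zl (S : Subgroup G) P) D k} (h : Hyp M V₀)
include h

/-! ### elementary facts -/

theorem commV {x y : G} (hx : x ∈ zl (S : Subgroup G) P) (hy : y ∈ zl (S : Subgroup G) P) : x * y = y * x :=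
  mem_centralizer_iff.mp ((zl_abel h.hc S h.par.isLoc).1 hy) x hx

theorem sqV {x : G} (hx : x ∈ zl (S : Subgroup G) P) : x * x = 1 := by
  have h := (zl_abel h.hc S h.par.isLoc).2 x hx
  rwa [pow_two] at h

theorem inv_V {x : G} (hx : x ∈ zl (S : Subgroup G) P) : x⁻¹ = x := inv_eq_of_mul_eq_one_left (h.sqV hx)

theorem SP : (S : Subgroup G) ≤ P := h.par.le

theorem VS : zl (S : Subgroup G) P ≤ (S : Subgroup G) := IsParS.zl_le_S h.hc h.par

theorem VP : zl (S : Subgroup G) P ≤ P := h.VS.trans h.SP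

omit h in
theorem conV {g v : G} (hg : g ∈ P) (hv : v ∈ zl (S : Subgroup G) P) : g * v * g⁻¹ ∈ zl (S : Subgroup G) P :=
  (mem_normalizer_iff.1 (le_normalizer_zl _ _ hg) _).1 hv

theorem conV0 {g v : G} (hg : g ∈ P) (hv : v ∈ V₀) : g * v * g⁻¹ ∈ V₀ :=
  (mem_normalizer_iff.1 (h.PV0 hg) _).1 hv

theorem exists_mul {v : G} (hv : v ∈ zl (S : Subgroup G) P) : ∃ w ∈ V₀, ∃ d ∈ D, v = w * d := by
  have h1 := h.sup hv
  have h2 : V₀ ≤ normalizer (D : Set G) := h.V0V.trans (h.VP.trans (PD M h.DV))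
  have h3 : v ∈ ((V₀ : Set G) * (D : Set G)) := by
    rw [← coe_mul_of_left_le_normalizer_right _ _ h2]
    exact h1
  obtain ⟨w, hw, d, hd, rfl⟩ := Set.mem_mul.1 h3
  exact ⟨w, hw, d, hd, rfl⟩

/-- `e` is injective on `V₀` -/
theorem inj {v w : G} (hv : v ∈ V₀) (hw : w ∈ V₀) (he : M.e v = M.e w) : v = w := by
  have h1 : v * w⁻¹ ∈ D := by
    rw [← M.ker _ (mul_mem (h.V0V hv) (inv_mem (h.V0V hw))), M.mul _ (h.V0V hv) _ (inv_mem (h.V0V hw)),
      RStr.e_inv M (h.V0V hw), he, add_neg_cancel]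
  have h2 : v * w⁻¹ ∈ V₀ ⊓ D := mem_inf.2 ⟨mul_mem hv (inv_mem hw), h1⟩
  rw [h.disj, mem_bot] at h2
  exact mul_inv_eq_one.1 h2

/-- `e` is surjective on `V₀` -/
theorem surj (x : Fin k → Fin 2 → F) : ∃ v ∈ V₀, M.e v = x := by
  obtain ⟨v, hv, hx⟩ := M.surj x
  obtain ⟨w, hw, d, hd, rfl⟩ := h.exists_mul hv
  refine ⟨w, hw, ?_⟩
  rw [← hx, M.mul _ (h.V0V hw) _ (h.DV hd), (M.ker d (h.DV hd)).2 hd, add_zero]

theorem exists_nn (i : Fin k) (x : Fin 2 → F) : ∃ v ∈ nn M V₀ i, M.e v = Pi.single i x := by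
  obtain ⟨v, hv, hx⟩ := h.surj (Pi.single i x)
  exact ⟨v, ⟨hv, h.V0V hv, fun j hj => by rw [hx, Pi.single_eq_of_ne hj]⟩, hx⟩

theorem exists_rr (i : Fin k) (x : F) : ∃ v ∈ rr M V₀ i, M.e v = Pi.single i ![x, 0] := by
  obtain ⟨v, hv, hx⟩ := h.exists_nn i ![x, 0]
  exact ⟨v, ⟨hv, by rw [hx, Pi.single_eq_same]; rfl⟩, hx⟩

omit h in
theorem nn_le_V (i : Fin k) : nn M V₀ i ≤ zl (S : Subgroup G) P := fun _ hv => hv.2.1

omit h in
theorem nn_le_V0 (i : Fin k) : nn M V₀ i ≤ V₀ := fun _ hv => hv.1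

omit h in
theorem rr_le_nn (i : Fin k) : rr M V₀ i ≤ nn M V₀ i := fun _ hv => hv.1

omit h in
theorem e_nn {i : Fin k} {v : G} (hv : v ∈ nn M V₀ i) : M.e v = Pi.single i (M.e v i) := by
  funext j
  by_cases hj : j = i
  · subst hj
    rw [Pi.single_eq_same]
  · rw [Pi.single_eq_of_ne hj, hv.2.2 j hj]

/-- `D ≤ C(P)` -/
theorem D_le_cent : D ≤ centralizer (P : Set G) := by
  have hPD := PD M h.DV
  -- `D' = C_D(S)` is centralised by `P`
  set D' := D ⊓ centralizer ((S : Subgroup G) : Set G) with hD'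
  have h1 : P ≤ centralizer (D' : Set G) := by
    refine M.gen _ (fun s hs => ?_) fun g hg A hA => ?_
    · rw [mem_centralizer_iff]
      rintro d ⟨_, hd⟩
      exact (mem_centralizer_iff.1 hd s hs).symm
    · rw [mem_centralizer_iff]
      rintro d ⟨hd, _⟩
      exact (hA.2 d hd).symm
  -- `V ≤ V₀ D'`
  have h2 : zl (S : Subgroup G) P ≤ V₀ ⊔ D' := by
    refine zl_le (fun z hz => ?_) ?_
    · obtain ⟨w, hw, d, hd, rfl⟩ := h.exists_mul (zc_le_zl _ _ hz)
      refine mul_mem (mem_sup_left hw) (mem_sup_right (mem_inf.2 ⟨hd, ?_⟩))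
      rw [mem_centralizer_iff]
      intro s hs
      have h3 : s * (w * d) * s⁻¹ = w * d := by
        rw [(mem_zc.1 hz).2.1 s hs, mul_inv_cancel_right]
      have h4 : (s * w * s⁻¹) * (s * d * s⁻¹) = w * d := by rw [← h3]; group
      have h5 : s * w * s⁻¹ ∈ V₀ := h.conV0 (h.SP hs) hw
      have h6 : s * d * s⁻¹ ∈ D := (mem_normalizer_iff.1 (hPD (h.SP hs)) _).1 hd
      have h7 : w⁻¹ * (s * w * s⁻¹) = d * (s * d * s⁻¹)⁻¹ := by
        rw [eq_mul_inv_iff_mul_eq, mul_assoc, h4]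
        group
      have h8 : d * (s * d * s⁻¹)⁻¹ ∈ V₀ ⊓ D := mem_inf.2 ⟨by rw [← h7]; exact mul_mem (inv_mem hw) h5,
        mul_mem hd (inv_mem h6)⟩
      rw [h.disj, mem_bot, mul_inv_eq_one] at h8
      exact (mul_inv_eq_iff_eq_mul.1 h8.symm)
    · intro g hg
      have hD1 : g ∈ normalizer (D' : Set G) := by
        rw [mem_normalizer_iff]
        intro x
        constructor
        · intro hx
          rw [← mem_centralizer_iff.1 (h1 hg) x hx, mul_inv_cancel_right]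
          exact hx
        · intro hx
          have h3 := mem_centralizer_iff.1 (h1 hg) _ hx
          have h4 : g * x * g⁻¹ = x := by
            have h5 : (g * x * g⁻¹) * g = g * (g * x * g⁻¹) := h3
            have h6 : g * x = g * (g * x * g⁻¹) := by rw [← h5]; group
            exact (mul_left_cancel h6).symm
          rwa [h4] at hx
      refine RTransv.mem_normalizer_of_conj ?_
      rw [smul_sup, conj_eq_of_mem (h.PV0 hg), conj_eq_of_mem hD1]
  intro d hd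
  have h3 := h2 (h.DV hd)
  have h4 : V₀ ≤ normalizer (D' : Set G) := h.V0V.trans (h.VP.trans (h1.trans (centralizer_le_normalizer _)))
  have h5 : d ∈ ((V₀ : Set G) * (D' : Set G)) := by
    rw [← coe_mul_of_left_le_normalizer_right _ _ h4]
    exact h3
  obtain ⟨w, hw, d', hd', rfl⟩ := Set.mem_mul.1 h5
  have h6 : w ∈ V₀ ⊓ D := mem_inf.2 ⟨hw, by
    have := mul_mem hd (inv_mem hd'.1)
    rwa [mul_inv_cancel_right] at this⟩
  rw [h.disj, mem_bot] at h6
  rw [h6, one_mul, mem_centralizer_iff]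
  intro p hp
  exact (mem_centralizer_iff.1 (h1 hp) d' hd').symm

theorem D_le_zc : D ≤ zc (S : Subgroup G) := by
  intro d hd
  rw [mem_zc]
  refine ⟨h.VS (h.DV hd), fun s hs => mem_centralizer_iff.1 (h.D_le_cent hd) s (h.SP hs), ?_⟩
  rw [pow_two, h.sqV (h.DV hd)]

/-! ### The action of `U` -/

variable (E : PairA (S : Subgroup G) P H)
include E

theorem US : zl (S : Subgroup G) H ≤ (S : Subgroup G) := IsLong.zl_le_S h.hc E.long

theorem UP : zl (S : Subgroup G) H ≤ P := (h.US E).trans h.SP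

theorem VH : zl (S : Subgroup G) P ≤ H := h.VS.trans E.long.loc.le

theorem commU {x y : G} (hx : x ∈ zl (S : Subgroup G) H) (hy : y ∈ zl (S : Subgroup G) H) : x * y = y * x :=
  mem_centralizer_iff.mp ((zl_abel h.hc S E.long.loc).1 hy) x hx

theorem sqU {x : G} (hx : x ∈ zl (S : Subgroup G) H) : x * x = 1 := by
  have h := (zl_abel h.hc S E.long.loc).2 x hx
  rwa [pow_two] at h

/-- the module -/
theorem nrm : Nrm H (zl (S : Subgroup G) H) := ⟨fun _ hu _ hv => h.commU E hu hv, le_normalizer_zl _ _⟩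

/-- **The root coordinates of `U`.** -/
theorem exists_beta [CharP F 2] : ∃ β : G → Fin k → F,
    (∀ u ∈ zl (S : Subgroup G) H, ∀ v ∈ zl (S : Subgroup G) P, ∀ i,
      M.e (u * v * u⁻¹) i = ![M.e v i 0 + β u i * M.e v i 1, M.e v i 1]) ∧
    ∀ u ∈ zl (S : Subgroup G) H, ∀ w ∈ zl (S : Subgroup G) H, β (u * w) = β u + β w := by
  classical
  have h0 : ∀ u ∈ zl (S : Subgroup G) H, ∃ b : Fin k → F, ∀ v ∈ zl (S : Subgroup G) P, ∀ i,
      M.e (u * v * u⁻¹) i = ![M.e v i 0 + b i * M.e v i 1, M.e v i 1] := by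
    intro u hu
    obtain ⟨b, hb⟩ := exists_up (quad h.hc E) M hu
    exact ⟨b, fun v hv i => by rw [hb v hv i, ap_up']⟩
  choose! β hβ using h0
  refine ⟨β, hβ, fun u hu w hw => ?_⟩
  funext i
  obtain ⟨v, hv, he⟩ := h.exists_nn i ![0, 1]
  have hvV := nn_le_V i hv
  have e0 : M.e v i = ![0, 1] := by rw [he, Pi.single_eq_same]
  have h1 := hβ (u * w) (mul_mem hu hw) v hvV i
  have h2 := hβ u hu _ (conV (h.UP E hw) hvV) i
  rw [hβ w hw v hvV i, e0] at h2
  rw [e0] at h1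
  have e1 : u * w * v * (u * w)⁻¹ = u * (w * v * w⁻¹) * u⁻¹ := by group
  rw [e1, h2] at h1
  have h3 := congrFun h1 0
  simp at h3
  rw [Pi.add_apply, ← h3]
  ring


omit E

/-! ### Conjugation -/

omit [Finite G] h in
theorem smul_centralizer (g : G) (K : Subgroup G) :
    MulAut.conj g • centralizer (K : Set G) = centralizer ((MulAut.conj g • K : Subgroup G) : Set G) := by
  ext x
  rw [mem_conj, mem_centralizer_iff, mem_centralizer_iff]
  constructor
  · intro h y hy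
    have hy' : y ∈ MulAut.conj g • K := hy
    rw [mem_conj] at hy'
    have h1 := congrArg (fun t => g * t * g⁻¹) (h _ hy')
    simpa [mul_assoc] using h1
  · intro h y hy
    have h1 := h (g * y * g⁻¹) (by
      change g * y * g⁻¹ ∈ MulAut.conj g • K
      rw [mem_conj]
      have e : g⁻¹ * (g * y * g⁻¹) * g = y := by group
      rwa [e])
    have h2 := congrArg (fun t => g⁻¹ * t * g) h1
    simpa [mul_assoc] using h2

/-- `P` permutes the factors -/
theorem conj_nn_le {g : G} (hg : g ∈ P) (i : Fin k) {v : G} (hv : v ∈ nn M V₀ i) :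
    g * v * g⁻¹ ∈ nn M V₀ (RStr.sg M hg i) := by
  refine ⟨h.conV0 hg hv.1, conV hg hv.2.1, fun j hj => ?_⟩
  obtain ⟨l, rfl⟩ := (RStr.sg M hg).surjective j
  rw [RStr.sg_spec M hg hv.2.1]
  exact hv.2.2 l fun hl => hj (by rw [hl])

theorem conj_nn {g : G} (hg : g ∈ P) (i : Fin k) : MulAut.conj g • nn M V₀ i = nn M V₀ (RStr.sg M hg i) := by
  ext v
  rw [mem_conj]
  constructor
  · intro hv
    have := h.conj_nn_le hg i hv
    have e : g * (g⁻¹ * v * g) * g⁻¹ = v := by group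
    rwa [e] at this
  · intro hv
    have hv1 : g⁻¹ * v * g ∈ V₀ := by
      have := h.conV0 (inv_mem hg) hv.1
      rwa [inv_inv] at this
    have hv2 := h.V0V hv1
    refine ⟨hv1, hv2, fun j hj => ?_⟩
    rw [← RStr.sg_spec M hg hv2]
    have e : g * (g⁻¹ * v * g) * g⁻¹ = v := by group
    rw [e]
    exact hv.2.2 _ fun h1 => hj ((RStr.sg M hg).injective h1)

theorem conj_rr {s : G} (hs : s ∈ (S : Subgroup G)) (i : Fin k) :
    MulAut.conj s • rr M V₀ i = rr M V₀ (RStr.sg M (h.SP hs) i) := by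
  ext v
  rw [mem_conj, mem_rr, mem_rr, ← h.conj_nn (h.SP hs) i, mem_conj]
  refine and_congr_right fun hv => ?_
  have h1 := RStr.e_conj_line M h.SP hs hv.2.1 i
  have e : s * (s⁻¹ * v * s) * s⁻¹ = v := by group
  rw [e] at h1
  exact h1.symm

/-- `S` is transitive on the factors -/
theorem exists_S (i j : Fin k) : ∃ s, ∃ hs : s ∈ (S : Subgroup G), RStr.sg M (h.SP hs) i = j := by
  obtain ⟨s, hs, h1⟩ := M.trans i j
  refine ⟨s, hs, ?_⟩
  obtain ⟨l, hl⟩ := (RStr.sg M (h.SP hs)).surjective j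
  by_cases hli : l = i
  · rw [← hli, hl]
  · exfalso
    obtain ⟨v, hv, he⟩ := h.exists_nn i ![1, 0]
    have h2 := RStr.sg_spec M (h.SP hs) hv.2.1 l
    rw [hl, h1 v hv.2.1] at h2
    have h3 := h2.2 (hv.2.2 l hli)
    rw [he, Pi.single_eq_same] at h3
    have h4 := congrFun h3 0
    exact one_ne_zero h4

/-! ### The action on `N_i` -/

variable [CharP F 2]
include E

theorem U_nn {u v : G} (hu : u ∈ zl (S : Subgroup G) H) {i : Fin k} (hv : v ∈ nn M V₀ i) :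
    u * v * u⁻¹ ∈ nn M V₀ i := by
  obtain ⟨β, hβ, -⟩ := h.exists_beta E
  refine ⟨h.conV0 (h.UP E hu) hv.1, conV (h.UP E hu) hv.2.1, fun j hj => ?_⟩
  rw [hβ u hu v hv.2.1, hv.2.2 j hj]
  funext l
  fin_cases l <;> simp

theorem cm_aux {β : G → Fin k → F} (hβ : ∀ u ∈ zl (S : Subgroup G) H, ∀ v ∈ zl (S : Subgroup G) P, ∀ i,
      M.e (u * v * u⁻¹) i = ![M.e v i 0 + β u i * M.e v i 1, M.e v i 1])
    {u v : G} (hu : u ∈ zl (S : Subgroup G) H) {i : Fin k} (hv : v ∈ nn M V₀ i) :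
    v * u * v⁻¹ * u⁻¹ ∈ nn M V₀ i ∧ M.e (v * u * v⁻¹ * u⁻¹) = Pi.single i ![β u i * M.e v i 1, 0] := by
  have h1 := h.U_nn E hu hv
  have e1 : v * u * v⁻¹ * u⁻¹ = v * (u * v * u⁻¹) := by
    have e2 : v * u * v⁻¹ * u⁻¹ = v * (u * v⁻¹ * u⁻¹) := by group
    rw [e2, h.inv_V hv.2.1]
  have h2 : v * u * v⁻¹ * u⁻¹ ∈ nn M V₀ i := by rw [e1]; exact mul_mem hv h1
  refine ⟨h2, ?_⟩
  rw [e_nn h2, e1, M.mul _ hv.2.1 _ h1.2.1, Pi.add_apply, hβ u hu v hv.2.1]
  congr 1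
  funext l
  fin_cases l
  · change M.e v i 0 + (M.e v i 0 + β u i * M.e v i 1) = β u i * M.e v i 1
    rw [← add_assoc, CharTwo.add_self_eq_zero, zero_add]
  · change M.e v i 1 + M.e v i 1 = 0
    exact CharTwo.add_self_eq_zero _

theorem mem_cent_iff {β : G → Fin k → F} (hβ : ∀ u ∈ zl (S : Subgroup G) H, ∀ v ∈ zl (S : Subgroup G) P, ∀ i,
      M.e (u * v * u⁻¹) i = ![M.e v i 0 + β u i * M.e v i 1, M.e v i 1])
    {u : G} (hu : u ∈ zl (S : Subgroup G) H) {i : Fin k} :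
    u ∈ centralizer (nn M V₀ i : Set G) ↔ β u i = 0 := by
  constructor
  · intro hc
    obtain ⟨v, hv, he⟩ := h.exists_nn i ![0, 1]
    have h1 := (h.cm_aux E hβ hu hv).2
    have h2 : v * u * v⁻¹ * u⁻¹ = 1 := by
      rw [mem_centralizer_iff.1 hc v hv]; group
    rw [h2, RStr.e_one M, he] at h1
    have h3 := congrFun (congrFun h1 i) 0
    simp at h3
    exact h3.symm
  · intro h0
    rw [mem_centralizer_iff]
    intro v hv
    obtain ⟨h1, h2⟩ := h.cm_aux E hβ hu hv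
    have h3 : v * u * v⁻¹ * u⁻¹ = 1 := by
      refine h.inj h1.1 (one_mem _) ?_
      rw [h2, RStr.e_one M, h0, zero_mul]
      funext j l
      by_cases hj : j = i
      · subst hj
        rw [Pi.single_eq_same]
        fin_cases l <;> rfl
      · rw [Pi.single_eq_of_ne hj]
        rfl
    exact commutatorElement_eq_one_iff_mul_comm.1 h3

/-- `[v, u] ∈ R_i` for `v ∈ N_i`, `u ∈ U` -/
theorem cm_mem {u v : G} (hu : u ∈ zl (S : Subgroup G) H) {i : Fin k} (hv : v ∈ nn M V₀ i) :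
    v * u * v⁻¹ * u⁻¹ ∈ rr M V₀ i := by
  obtain ⟨β, hβ, -⟩ := h.exists_beta E
  obtain ⟨h1, h2⟩ := h.cm_aux E hβ hu hv
  refine ⟨h1, ?_⟩
  rw [h2, Pi.single_eq_same]
  rfl

/-- `[N_i, u] = R_i` for `u ∈ U - C(N_i)` -/
theorem exists_cm {u r : G} (hu : u ∈ zl (S : Subgroup G) H) {i : Fin k}
    (huc : u ∉ centralizer (nn M V₀ i : Set G)) (hr : r ∈ rr M V₀ i) :
    ∃ v ∈ nn M V₀ i, v * u * v⁻¹ * u⁻¹ = r := by
  obtain ⟨β, hβ, -⟩ := h.exists_beta E
  rw [h.mem_cent_iff E hβ hu] at huc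
  obtain ⟨v, hv, he⟩ := h.exists_nn i ![0, (β u i)⁻¹ * M.e r i 0]
  obtain ⟨h1, h2⟩ := h.cm_aux E hβ hu hv
  refine ⟨v, hv, h.inj h1.1 hr.1.1 ?_⟩
  rw [h2, he, Pi.single_eq_same]
  refine Eq.trans ?_ (e_nn hr.1).symm
  congr 1
  funext l
  fin_cases l
  · change β u i * ((β u i)⁻¹ * M.e r i 0) = M.e r i 0
    rw [mul_inv_cancel_left₀ huc]
  · exact hr.2.symm

/-- every factor is moved by `U` -/
theorem exists_u (i : Fin k) : ∃ u ∈ zl (S : Subgroup G) H, u ∉ centralizer (nn M V₀ i : Set G) := by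
  by_contra hcon
  push Not at hcon
  -- all factors
  have h1 : ∀ j, ∀ u ∈ zl (S : Subgroup G) H, u ∈ centralizer (nn M V₀ j : Set G) := by
    intro j u hu
    obtain ⟨s, hs, rfl⟩ := h.exists_S i j
    rw [← h.conj_nn (h.SP hs) i, ← smul_centralizer, mem_conj]
    refine hcon _ ?_
    have := (mem_normalizer_iff.1 (le_normalizer_zl (S : Subgroup G) H (E.long.loc.le (inv_mem hs))) u).1 hu
    rwa [inv_inv] at this
  obtain ⟨β, hβ, -⟩ := h.exists_beta E
  apply E.ne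
  rw [le_centralizer_iff]
  intro u hu
  rw [mem_centralizer_iff]
  intro v hv
  obtain ⟨w, hw, d, hd, rfl⟩ := h.exists_mul hv
  have h2 : u * w * u⁻¹ = w := by
    refine h.inj (h.conV0 (h.UP E hu) hw) hw ?_
    funext i
    rw [hβ u hu w (h.V0V hw), (h.mem_cent_iff E hβ hu).1 (h1 i u hu)]
    funext l
    fin_cases l <;> simp
  have h3 : d * u = u * d := (mem_centralizer_iff.1 (h.D_le_cent hd) u (h.UP E hu)).symm
  have h4 : w * u = u * w := by
    rw [mul_inv_eq_iff_eq_mul] at h2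
    exact h2.symm
  rw [mul_assoc, h3, ← mul_assoc, h4, mul_assoc]

/-- `R_i ≤ U` -/
theorem rr_le_U (i : Fin k) : rr M V₀ i ≤ zl (S : Subgroup G) H := by
  intro r hr
  obtain ⟨u, hu, huc⟩ := h.exists_u E i
  obtain ⟨v, hv, rfl⟩ := h.exists_cm E hu huc hr
  exact mul_mem ((mem_normalizer_iff.1 (le_normalizer_zl (S : Subgroup G) H (h.VH E hv.2.1)) u).1 hu) (inv_mem hu)

omit [CharP F 2] E in
theorem rr_le_cent (i j : Fin k) : rr M V₀ i ≤ centralizer (nn M V₀ j : Set G) := by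
  intro r hr
  rw [mem_centralizer_iff]
  intro v hv
  exact h.commV hv.2.1 hr.1.2.1

/-! ### The instance -/

/-- **Root groups.** -/
theorem rt : Root.Rt (H := H) (M := (h.nrm E).Mod) (fun i => (nn M V₀ i).subgroupOf H)
    (fun i => (h.nrm E).ad (centralizer (nn M V₀ i : Set G))) (fun i => (h.nrm E).ad (rr M V₀ i)) where
  char2 m := Nrm.ext (h.sqU E (Nrm.val_mem _ m))
  fix i t ht u hu := by
    refine Nrm.ext ?_
    have h1 := mem_centralizer_iff.1 (Nrm.mem_ad.1 hu) t (mem_subgroupOf.1 ht)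
    rw [Nrm.val_smul, h1, mul_inv_cancel_right]
  quad i t ht u := by
    rw [Nrm.mem_ad, Nrm.val_sub, Nrm.val_smul]
    exact h.cm_mem E (Nrm.val_mem _ u) (mem_subgroupOf.1 ht)
  full i u hu r hr := by
    obtain ⟨v, hv, he⟩ := h.exists_cm E (Nrm.val_mem _ u) hu (Nrm.mem_ad.1 hr)
    refine ⟨⟨v, h.VH E hv.2.1⟩, mem_subgroupOf.2 hv, Nrm.ext ?_⟩
    rw [Nrm.val_smul, Nrm.val_add, h.commU E (Nrm.val_mem _ u) (Nrm.val_mem _ r), ← he]
    group
  le i j := Nrm.ad_mono (h.rr_le_cent i j)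
  trans i j := by
    obtain ⟨s, hs, rfl⟩ := h.exists_S i j
    refine ⟨⟨s, E.long.loc.le hs⟩, ?_⟩
    rw [Nrm.smul_ad, smul_centralizer, h.conj_nn (h.SP hs)]

/-! ### Orders -/

omit [CharP F 2] E in
theorem card_rr (i : Fin k) : Nat.card (rr M V₀ i) = Nat.card F := by
  refine Nat.card_congr (Equiv.ofBijective (fun r : rr M V₀ i => M.e r i 0) ⟨?_, ?_⟩)
  · rintro ⟨a, ha⟩ ⟨b, hb⟩ hab
    refine Subtype.ext (h.inj ha.1.1 hb.1.1 ?_)
    rw [e_nn ha.1, e_nn hb.1]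
    congr 1
    funext l
    fin_cases l
    · exact hab
    · exact ha.2.trans hb.2.symm
  · intro x
    obtain ⟨v, hv, he⟩ := h.exists_rr i x
    refine ⟨⟨v, hv⟩, ?_⟩
    change M.e v i 0 = x
    rw [he, Pi.single_eq_same]
    rfl

theorem card_R (i : Fin k) : Nat.card ((h.nrm E).ad (rr M V₀ i)) = Nat.card F := by
  rw [Nrm.card_ad (h.rr_le_U E i), h.card_rr]

omit [CharP F 2] E in
theorem finite_F : Finite F := by
  have h1 := h.card_rr ⟨0, h.kpos⟩
  have h2 : 0 < Nat.card (rr M V₀ (⟨0, h.kpos⟩ : Fin k)) := Nat.card_pos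
  rw [h1] at h2
  exact (Nat.card_pos_iff.1 h2).2

theorem big' (i : Fin k) : 2 < Nat.card ((h.nrm E).ad (rr M V₀ i)) := by
  rw [h.card_R E]
  exact h.big

theorem card_quot_le (i j : Fin k) :
    Nat.card ((h.nrm E).Mod ⧸ (h.nrm E).ad (centralizer (nn M V₀ j : Set G))) ≤
      Nat.card ((h.nrm E).ad (rr M V₀ i)) := by
  rw [h.card_R E]
  obtain ⟨β, hβ, hadd⟩ := h.exists_beta E
  have hF := h.finite_F
  let φ : (h.nrm E).Mod →+ F := AddMonoidHom.mk' (fun m => β ((h.nrm E).val m) j) fun a b => by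
    rw [Nrm.val_add, hadd _ (Nrm.val_mem _ a) _ (Nrm.val_mem _ b), Pi.add_apply]
  have hker : φ.ker = (h.nrm E).ad (centralizer (nn M V₀ j : Set G)) := by
    ext m
    rw [AddMonoidHom.mem_ker, Nrm.mem_ad, h.mem_cent_iff E hβ (Nrm.val_mem _ m)]
    rfl
  rw [← hker]
  exact Nat.card_le_card_of_injective _ (QuotientAddGroup.kerLift_injective φ)

end Hyp

end Cfsg.Agent.Omega.NOThreeL.RSplit

end

-- merged: Cfsg.Agent.Mrg.Omega.NOThreeL.RSplit.Three
section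

section


/-!
# NO-3L, box R ∩ (A), `q > 2`, `V_P` split (#19602, helper797): (1), (3), (4)

`h : Hyp M V₀`, `E : PairA S P H`, `MinA S P H` : `H` is moreover minimal; `h.Ax E i = C_U(N_i)`, `h.R E i = R_i`,
`TH M V₀ H i = N_i` in the `H`-module `U`.

* `Hyp.sit` : for `z ∈ Z` not fixed by `N = ⟨V^H⟩` and `H` minimal, the situation `RBig.Trans.Sit`;
* **`Hyp.three`** (3) : `1 ≠ z₀ ∈ V₀ ∩ Z` implies `V ≤ O₂(C_G(z₀))`;
* `Hyp.noff` : `t` centralises a full vector of `R`: `[V, V^t] = 1`;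
* **`Hyp.ex`** : `Root.Ex` for every `H`; `Hyp.exact` : THEOREM EXACT WITH RADICAL.
-/

set_option autoImplicit false
set_option linter.unusedSectionVars false

namespace Cfsg.Agent.Omega.NOThreeL.RSplit

open Subgroup Cfsg Cfsg.Agent.Omega.MinPar
open Cfsg.Agent.ZN (zc zl o2)
open Cfsg.Agent.Omega.Frame Cfsg.Agent.Omega.FrameNOFF
open Cfsg.Agent.Omega.Node.NO3L Cfsg.Agent.Omega.NOThreeL.Basic
open Cfsg.Agent.Omega.NoFF.Basic (conj_conj mem_conj conj_le_iff conj_le_centralizer comm_symm comm_mono)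
open Cfsg.Agent.Omega.NOThreeL.Pair (conj_eq_of_mem conj_le_normalizer zl_abel)
open Cfsg.Agent.MinSimple.VModule (zl_le zc_le_zl le_normalizer_zl zc_le o2_isPGroup le_normalizer_o2 le_o2
  normalizer_le_normalizer_zc mem_zc)
open Cfsg.Agent.Omega.NOThreeL.RTools (NN conj_mem_of_mem conj_le_NN le_NN NN_le le_normalizer_NN isLong)
open Cfsg.Agent.Omega.FFThm (Off NatK ActsSL)
open Cfsg.Agent.Omega.NatPair (ap ap_mul ap_one ap_inv_ap exists_ap)
open Cfsg.Agent.Lib.SL2Mat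
open Cfsg.Agent.Omega.NOThreeL.ThmAx (Full IsAx TT YY mem_smul IsAx.smul)
open Cfsg.Agent.Omega.NOThreeL.RSplit.TransRt (Axs)
open Cfsg.Agent.Omega.NOThreeL.RBig (Trans.Sit)
open scoped Pointwise

universe u

/-! ### A full vector is not fixed by `N` -/

section abstract

variable {H M : Type*} [Group H] [AddCommGroup M] [DistribMulAction H M]
variable {ι : Type*} [Fintype ι] {T : ι → Subgroup H} {Ax R : ι → AddSubgroup M}

theorem full_not_mem [Finite H] [Finite M] (D : Root.Rt T Ax R) {z : M}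
    (Q : Trans.Sit (Axs H Ax) (TT T Ax) (YY H Ax R) z)
    (ind : ∀ f : ι → M, (∀ i, f i ∈ R i) → ∑ i, f i = 0 → ∀ i, f i = 0) {r : M} (hr : Full R r) (i₀ : ι) :
    ∃ (x : H) (i : ι), r ∉ x • Ax i := by
  classical
  by_contra hcon
  push Not at hcon
  obtain ⟨f, hf, rfl⟩ := hr
  set c := RBig.Trans.Cp (Axs H Ax) (YY H Ax R) (Ax i₀) with hc
  have hA : ∀ i, Ax i ∈ Axs H Ax := fun i => ⟨1, i, one_smul _ _⟩
  let f' : ι → M := fun i => if Ax i ∈ c then f i else 0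
  have hfUC : ∀ i, f i ∈ RBig.Trans.UC (Axs H Ax) (YY H Ax R) (Ax i) := fun i =>
    RBig.Trans.AxSys.YY_le_UC (RBig.Trans.AxSys.self_mem (hA i)) (Root.Rt.R_le_YY i (hf i).1)
  have h1 : ∑ i, f' i = 0 := by
    refine Q.inf (hA i₀) (AddSubgroup.sum_mem _ fun i _ => ?_) fun g hg => ?_
    · by_cases hi : Ax i ∈ c
      · have := hfUC i
        rw [Q.UC_eq hi] at this
        simpa [f', hi] using this
      · simp [f', hi]
    · have hgA := Q.mem_A hg
      have h2 : ∑ i, f i - ∑ i, f' i ∈ g := by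
        rw [← Finset.sum_sub_distrib]
        refine g.sum_mem fun i _ => ?_
        by_cases hi : Ax i ∈ c
        · simp [f', hi]
        · have h3 : g ∉ RBig.Trans.Cp (Axs H Ax) (YY H Ax R) (Ax i) := by
            intro h4
            apply hi
            rw [hc, ← Q.Cp_eq hg, Q.Cp_eq h4]
            exact RBig.Trans.AxSys.self_mem (hA i)
          have h5 := Q.UC_le hgA h3 (hfUC i)
          simpa [f', hi] using h5
      obtain ⟨x, i, hx⟩ := hgA
      have h3 : ∑ i, f i ∈ g := hx ▸ hcon x i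
      have h4 := g.sub_mem h3 h2
      rwa [sub_sub_cancel] at h4
  have h2 := ind f' (fun i => by
    by_cases hi : Ax i ∈ c
    · simpa [f', hi] using (hf i).1
    · simp [f', hi]) h1 i₀
  have h3 : Ax i₀ ∈ c := RBig.Trans.AxSys.self_mem (hA i₀)
  simp only [f', h3, if_true] at h2
  exact (hf i₀).2 h2

end abstract

variable {G : Type u} [Group G] {F : Type} [Field F] {k : ℕ}

/-- `H` is minimal with `[V, U_H] ≠ 1`. -/
structure MinA (S P H : Subgroup G) : Prop extends PairA S P H where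
  min : ∀ H₁ : Subgroup G, IsLong S H₁ → H₁ ≤ H → H₁ ≠ H → zl S P ≤ centralizer (zl S H₁ : Set G)

theorem exists_minA [Finite G] {S : Sylow 2 G} {P H : Subgroup G} (E : PairA (S : Subgroup G) P H) :
    ∃ H₁ ≤ H, MinA (S : Subgroup G) P H₁ := by
  let s : Set (Subgroup G) := {H' | H' ≤ H ∧ PairA (S : Subgroup G) P H'}
  obtain ⟨H₁, h1⟩ := (Set.toFinite s).exists_minimal ⟨H, le_rfl, E⟩
  refine ⟨H₁, h1.prop.1, h1.prop.2, fun H' hL hle hne => ?_⟩
  by_contra hcon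
  exact hne (le_antisymm hle (h1.le_of_le ⟨hle.trans h1.prop.1, ⟨E.par, hL, hcon⟩⟩ hle))

namespace Hyp

variable [Finite G] {S : Sylow 2 G} {P H D V₀ : Subgroup G}
variable {M : NatK F (S : Subgroup G) P (zl (S : Subgroup G) P) D k} (h : Hyp M V₀)

/-- `N_i` as a subgroup of `H` -/
abbrev TH (M : NatK F (S : Subgroup G) P (zl (S : Subgroup G) P) D k) (V₀ H : Subgroup G) (i : Fin k) :
    Subgroup H := (nn M V₀ i).subgroupOf H

/-- the axes `C_U(N_i)` -/
abbrev Ax (E : PairA (S : Subgroup G) P H) (i : Fin k) : AddSubgroup (h.nrm E).Mod :=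
  (h.nrm E).ad (centralizer (nn M V₀ i : Set G))

/-- the centres `R_i` -/
abbrev R (E : PairA (S : Subgroup G) P H) (i : Fin k) : AddSubgroup (h.nrm E).Mod :=
  (h.nrm E).ad (rr M V₀ i)

include h

/-! ### `V₀` is the product of the `N_i` -/

theorem V0_le : V₀ ≤ ⨆ i, nn M V₀ i := by
  classical
  have key : ∀ s : Finset (Fin k), ∀ w ∈ V₀, (∀ j, j ∉ s → M.e w j = 0) → w ∈ ⨆ i, nn M V₀ i := by
    intro s
    induction s using Finset.induction_on with
    | empty =>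
      intro w hw h0
      have : w = 1 := h.inj hw (one_mem _) (by
        rw [RStr.e_one M]
        funext j
        exact h0 j (Finset.notMem_empty j))
      rw [this]
      exact one_mem _
    | insert i s his ih =>
      intro w hw h0
      obtain ⟨v, hv, he⟩ := h.exists_nn i (M.e w i)
      have h1 : w * v⁻¹ ∈ ⨆ i, nn M V₀ i := by
        refine ih _ (mul_mem hw (inv_mem hv.1)) fun j hj => ?_
        rw [M.mul _ (h.V0V hw) _ (inv_mem hv.2.1), RStr.e_inv M hv.2.1, he, Pi.add_apply, Pi.neg_apply]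
        by_cases hji : j = i
        · rw [hji, Pi.single_eq_same, add_neg_cancel]
        · rw [Pi.single_eq_of_ne hji, neg_zero, add_zero]
          exact h0 j (by rw [Finset.mem_insert]; tauto)
      have h2 := mul_mem h1 ((le_iSup (nn M V₀) i) hv)
      rwa [inv_mul_cancel_right] at h2
  intro w hw
  exact key Finset.univ w hw fun j hj => absurd (Finset.mem_univ j) hj

/-! ### (1): `H = N C` -/

theorem NN_le_H (E : PairA (S : Subgroup G) P H) : NN (S : Subgroup G) P H ≤ H := NN_le fun x hx => by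
  have h1 := conj_le_iff (g := x).2 (h.VH E)
  rwa [conj_eq_of_mem (Subgroup.le_normalizer hx)] at h1

theorem o2_cent (E : PairA (S : Subgroup G) P H) : o2 H ≤ centralizer (zl (S : Subgroup G) H : Set G) :=
  Cfsg.Agent.MinSimple.VModule.o2_le_centralizer_zl E.long.loc.le S.isPGroup'
    (MinSimple.Basic.not_dvd_relIndex S E.long.loc.le) (E.long.loc.char2 S h.hc)

/-- `V ≤ O₂(K)`, `N ≤ K`: impossible -/
theorem not_le_o2 (E : PairA (S : Subgroup G) P H) {K : Subgroup G} (hK : NN (S : Subgroup G) P H ≤ K)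
    (h2 : zl (S : Subgroup G) P ≤ o2 K) : False := by
  -- `V ≤ O₂(N) ≤ O₂(H)`
  have h3 : zl (S : Subgroup G) P ≤ o2 (NN (S : Subgroup G) P H) := by
    have h4 : o2 K ⊓ NN (S : Subgroup G) P H ≤ o2 (NN (S : Subgroup G) P H) := by
      refine le_o2 inf_le_right ((o2_isPGroup _).to_le inf_le_left) ?_
      intro g hg
      have h5 := le_normalizer_o2 K (hK hg)
      rw [mem_normalizer_iff] at h5 ⊢
      intro x
      rw [mem_inf, mem_inf, h5 x, mem_normalizer_iff.mp (Subgroup.le_normalizer hg) x]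
    exact (le_inf h2 (le_NN _ _ _)).trans h4
  have h6 : o2 (NN (S : Subgroup G) P H) ≤ o2 H := by
    refine le_o2 ((Cfsg.Agent.MinSimple.VModule.o2_le _).trans (h.NN_le_H E)) (o2_isPGroup _) ?_
    refine (le_normalizer_NN (S : Subgroup G) P H).trans ?_
    exact Cfsg.Agent.Omega.normalizer_le_normalizer_o2' _
  exact E.ne ((h3.trans h6).trans (h.o2_cent E))

/-- **(1)** `H = N C` -/
theorem le_sup (E : MinA (S : Subgroup G) P H) : H ≤ NN (S : Subgroup G) P H ⊔ CZ (S : Subgroup G) := by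
  by_contra hcon
  set H₁ := NN (S : Subgroup G) P H ⊔ CZ (S : Subgroup G) with hH1
  have hle : H₁ ≤ H := sup_le (h.NN_le_H E.toPairA) E.long.cz
  have hne : H₁ ≠ H := fun h => hcon (by rw [h])
  have hl : IsLong (S : Subgroup G) H₁ :=
    ⟨E.long.loc.of_le S ((le_CZ S).trans le_sup_right) hle, le_sup_right⟩
  exact h.not_le_o2 E.toPairA le_sup_left (le_o2_of_comm (h.data.low P h.par) hl (E.min H₁ hl hle hne))

theorem exists_nc (E : MinA (S : Subgroup G) P H) {x : G} (hx : x ∈ H) :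
    ∃ n ∈ NN (S : Subgroup G) P H, ∃ c ∈ CZ (S : Subgroup G), x = n * c := by
  have hn : CZ (S : Subgroup G) ≤ normalizer (NN (S : Subgroup G) P H : Set G) :=
    E.long.cz.trans (le_normalizer_NN _ _ _)
  have h1 : x ∈ ((NN (S : Subgroup G) P H ⊔ CZ (S : Subgroup G) : Subgroup G) : Set G) := h.le_sup E hx
  rw [coe_mul_of_right_le_normalizer_left _ _ hn] at h1
  obtain ⟨n, hn, c, hc, rfl⟩ := Set.mem_mul.mp h1
  exact ⟨n, hn, c, hc, rfl⟩

variable [CharP F 2]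

/-- `N` acts on `U` as the abstract group `⟨x T_i x⁻¹⟩` -/
theorem exists_NN (E : PairA (S : Subgroup G) P H) {x : G} (hx : x ∈ NN (S : Subgroup G) P H) :
    ∃ hxH : x ∈ H, ∃ n ∈ RBig.Trans.NN (Axs H (h.Ax E)) (TT (TH M V₀ H) (h.Ax E)),
      ∀ m : (h.nrm E).Mod, (⟨x, hxH⟩ : H) • m = n • m := by
  set NA := RBig.Trans.NN (Axs H (h.Ax E)) (TT (TH M V₀ H) (h.Ax E)) with hNA
  let K : Subgroup H :=
    { carrier := {x | ∃ n ∈ NA, ∀ m : (h.nrm E).Mod, x • m = n • m}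
      one_mem' := ⟨1, one_mem _, fun _ => rfl⟩
      mul_mem' := by
        rintro a b ⟨n, hn, h1⟩ ⟨n', hn', h2⟩
        exact ⟨n * n', mul_mem hn hn', fun m => by rw [mul_smul, mul_smul, h2, h1]⟩
      inv_mem' := by
        rintro a ⟨n, hn, h1⟩
        exact ⟨n⁻¹, inv_mem hn, fun m => by rw [inv_smul_eq_iff, h1, smul_inv_smul]⟩ }
  have h1 : NN (S : Subgroup G) P H ≤ K.map H.subtype := by
    refine NN_le fun y hy v hv => ?_
    rw [mem_conj] at hv
    -- `V₀`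
    have h2 : V₀ ≤ ((K.map H.subtype).comap (MulAut.conj y).toMonoidHom) := by
      refine h.V0_le.trans (iSup_le fun i w hw => ?_)
      have hwH : w ∈ H := h.VH E hw.2.1
      refine ⟨⟨y, hy⟩ * ⟨w, hwH⟩ * ⟨y, hy⟩⁻¹, ⟨_, ?_, fun _ => rfl⟩, rfl⟩
      exact TransRt.conj_mem_NN (T := TH M V₀ H) (Ax := h.Ax E) (i := i) (mem_subgroupOf.2 hw)
    obtain ⟨w, hw, d, hd, he⟩ := h.exists_mul hv
    have h3 : y * w * y⁻¹ ∈ K.map H.subtype := h2 hw
    have hdH : d ∈ H := h.VH E (h.DV hd)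
    have h4 : y * d * y⁻¹ ∈ K.map H.subtype := by
      refine ⟨⟨y, hy⟩ * ⟨d, hdH⟩ * ⟨y, hy⟩⁻¹, ⟨1, one_mem _, fun m => ?_⟩, rfl⟩
      rw [one_smul, mul_smul, mul_smul]
      have h5 : ∀ m : (h.nrm E).Mod, (⟨d, hdH⟩ : H) • m = m := fun m => Nrm.ext (by
        rw [Nrm.val_smul]
        have h6 := mem_centralizer_iff.1 (h.D_le_cent hd) _ (h.UP E (Nrm.val_mem _ m))
        change d * _ * d⁻¹ = _
        rw [← h6, mul_inv_cancel_right])
      rw [h5, smul_inv_smul]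
    have h5 := mul_mem h3 h4
    have e : y * w * y⁻¹ * (y * d * y⁻¹) = v := by
      have : w * d = y⁻¹ * v * y := he.symm
      calc y * w * y⁻¹ * (y * d * y⁻¹) = y * (w * d) * y⁻¹ := by group
        _ = v := by rw [this]; group
    rwa [e] at h5
  obtain ⟨⟨x', hx'⟩, hxK, rfl⟩ := h1 hx
  exact ⟨hx', hxK⟩

/-- the element of the module -/
theorem Z_le_U (E : PairA (S : Subgroup G) P H) : zc (S : Subgroup G) ≤ zl (S : Subgroup G) H := zc_le_zl _ _

/-- **The situation `Sit`** for `z ∈ Z` -/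
theorem sit (E : MinA (S : Subgroup G) P H) {z : G} (hz : z ∈ zc (S : Subgroup G))
    (hne : ∃ (x : H) (i : Fin k), (h.nrm E.toPairA).of z (zc_le_zl _ _ hz) ∉ x • h.Ax E.toPairA i) :
    Trans.Sit (Axs H (h.Ax E.toPairA)) (TT (TH M V₀ H) (h.Ax E.toPairA)) (YY H (h.Ax E.toPairA) (h.R E.toPairA))
      ((h.nrm E.toPairA).of z (zc_le_zl _ _ hz)) := by
  refine TransRt.sit (h.rt E.toPairA) (h.big' E.toPairA) ?_ ?_ hne
  · refine ⟨S.subtype E.long.loc.le, fun s hs => Nrm.ext ?_⟩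
    rw [Nrm.val_smul, Nrm.val_of]
    have h1 : (s : G) ∈ (S : Subgroup G) := hs
    rw [(mem_zc.1 hz).2.1 _ h1, mul_inv_cancel_right]
  · rintro ⟨x, hx⟩
    obtain ⟨n, hn, c, hcc, rfl⟩ := h.exists_nc E hx
    obtain ⟨hnH, n', hn', h1⟩ := h.exists_NN E.toPairA hn
    refine ⟨n', hn', ?_⟩
    have hcH : c ∈ H := E.long.cz hcc
    have h2 : (⟨c, hcH⟩ : H) • (h.nrm E.toPairA).of z (zc_le_zl _ _ hz) =
        (h.nrm E.toPairA).of z (zc_le_zl _ _ hz) := Nrm.ext (by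
      rw [Nrm.val_smul, Nrm.val_of]
      change c * z * c⁻¹ = z
      rw [← mem_centralizer_iff.1 hcc z hz, mul_inv_cancel_right])
    have h3 : (⟨n * c, hx⟩ : H) = ⟨n, hnH⟩ * ⟨c, hcH⟩ := rfl
    rw [h3, mul_smul, mul_smul, h2, h1, inv_smul_smul]

/-- some `z ∈ Z` is not fixed by `N` -/
theorem exists_z (E : PairA (S : Subgroup G) P H) : ∃ z, ∃ hz : z ∈ zc (S : Subgroup G), ∃ (x : H) (i : Fin k),
    (h.nrm E).of z (zc_le_zl _ _ hz) ∉ x • h.Ax E i := by
  by_contra hcon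
  push Not at hcon
  -- `U ≤ I`
  set I : Subgroup G := ⨅ x : H, ⨅ i : Fin k, MulAut.conj (x : G) • centralizer (nn M V₀ i : Set G) with hI
  have h1 : zl (S : Subgroup G) H ≤ I := by
    refine zl_le (fun z hz => ?_) ?_
    · rw [hI, mem_iInf]
      intro x
      rw [mem_iInf]
      intro i
      have := hcon z hz x i
      rw [Nrm.smul_ad] at this
      exact this
    · intro g hg
      refine RTransv.mem_normalizer_of_conj ?_
      have key : ∀ g ∈ H, MulAut.conj g • I ≤ I := by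
        intro g hg y hy
        rw [mem_conj, hI, mem_iInf] at hy
        rw [hI, mem_iInf]
        intro x
        rw [mem_iInf]
        intro i
        have h2 := hy (⟨g, hg⟩⁻¹ * x)
        rw [mem_iInf] at h2
        have h3 := h2 i
        rw [mem_conj] at h3 ⊢
        have e : ((⟨g, hg⟩⁻¹ * x : H) : G) = g⁻¹ * x := rfl
        rw [e] at h3
        have e2 : (g⁻¹ * (x : G))⁻¹ * (g⁻¹ * y * g) * (g⁻¹ * (x : G)) = (x : G)⁻¹ * y * x := by group
        rwa [e2] at h3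
      refine le_antisymm (key g hg) ?_
      have h2 := (conj_le_iff (g := g)).2 (key g⁻¹ (inv_mem hg))
      rwa [conj_conj, mul_inv_cancel, map_one, one_smul] at h2
  obtain ⟨u, hu, huc⟩ := h.exists_u E ⟨0, h.kpos⟩
  have h2 := h1 hu
  rw [hI, mem_iInf] at h2
  have h3 := h2 1
  rw [mem_iInf] at h3
  have h4 := h3 ⟨0, h.kpos⟩
  rw [OneMemClass.coe_one, map_one, one_smul] at h4
  exact huc h4

/-! ### Full vectors -/

/-- coordinates of a sum of elements of `V₀` -/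
theorem e_sum (E : PairA (S : Subgroup G) P H) {ι : Type*} (s : Finset ι) (f : ι → (h.nrm E).Mod)
    (hf : ∀ i ∈ s, (h.nrm E).val (f i) ∈ V₀) :
    (h.nrm E).val (∑ i ∈ s, f i) ∈ V₀ ∧ M.e ((h.nrm E).val (∑ i ∈ s, f i)) = ∑ i ∈ s, M.e ((h.nrm E).val (f i)) := by
  classical
  induction s using Finset.induction_on with
  | empty =>
    rw [Finset.sum_empty, Finset.sum_empty, Nrm.val_zero]
    exact ⟨one_mem _, RStr.e_one M⟩
  | insert i s his ih =>
    obtain ⟨h1, h2⟩ := ih fun i hi => hf i (Finset.mem_insert_of_mem hi)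
    have h3 := hf i (Finset.mem_insert_self _ _)
    rw [Finset.sum_insert his, Finset.sum_insert his, Nrm.val_add, M.mul _ (h.V0V h3) _ (h.V0V h1), h2]
    exact ⟨mul_mem h3 h1, rfl⟩

/-- the `R_i` are independent -/
theorem ind (E : PairA (S : Subgroup G) P H) (f : Fin k → (h.nrm E).Mod) (hf : ∀ i, f i ∈ h.R E i)
    (h0 : ∑ i, f i = 0) (i : Fin k) : f i = 0 := by
  obtain ⟨-, h2⟩ := h.e_sum E Finset.univ f fun i _ => (hf i).1.1
  rw [h0, Nrm.val_zero, RStr.e_one M] at h2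
  have h3 := congrFun h2 i
  rw [Finset.sum_apply, Finset.sum_eq_single i] at h3
  · refine Nrm.eq_zero_iff.2 (h.inj (hf i).1.1 (one_mem _) ?_)
    rw [e_nn (hf i).1, ← h3, RStr.e_one M]
    exact Pi.single_zero _
  · intro j _ hj
    exact (hf j).1.2.2 i (fun h => hj h.symm)
  · intro h
    exact absurd (Finset.mem_univ i) h

omit [CharP F 2] in
/-- coordinates of `1 ≠ z₀ ∈ V₀ ∩ Z` -/
theorem e_z0 (E : PairA (S : Subgroup G) P H) {z₀ : G} (h0 : z₀ ∈ V₀) (hz : z₀ ∈ zc (S : Subgroup G)) (h1 : z₀ ≠ 1)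
    (i : Fin k) : M.e z₀ i 0 ≠ 0 ∧ M.e z₀ i 1 = 0 := by
  have h2 : M.e z₀ i 1 = 0 := by
    obtain ⟨t, ht, hb⟩ := M.unip fun _ => 1
    have h3 := hb.1 z₀ (h.V0V h0) i
    rw [(mem_zc.1 hz).2.1 t ht, mul_inv_cancel_right, RAOne.ap_up'] at h3
    have h4 := congrFun h3 0
    simpa using h4
  have h3 : M.e z₀ i ≠ 0 := by
    intro h4
    apply h1
    refine h.inj h0 (one_mem _) ?_
    rw [RStr.e_one M]
    funext j
    obtain ⟨s, hs, h5⟩ := M.trans i j
    have h6 := (h5 z₀ (h.V0V h0)).2 h4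
    rwa [(mem_zc.1 hz).2.1 s hs, mul_inv_cancel_right] at h6
  refine ⟨fun h4 => h3 ?_, h2⟩
  funext l
  fin_cases l
  · exact h4
  · exact h2

/-- a vector of `V₀` on the lines, with all components `≠ 0`, is full -/
theorem full_of (E : PairA (S : Subgroup G) P H) {r : G} (h0 : r ∈ V₀) (hrU : r ∈ zl (S : Subgroup G) H)
    (h1 : ∀ i, M.e r i 0 ≠ 0 ∧ M.e r i 1 = 0) : Full (h.R E) ((h.nrm E).of r hrU) := by
  choose f hf he using fun i => h.exists_rr i (M.e r i 0)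
  refine ⟨fun i => (h.nrm E).of (f i) (h.rr_le_U E i (hf i)), fun i => ⟨hf i, fun h2 => ?_⟩, ?_⟩
  · rw [Nrm.eq_zero_iff, Nrm.val_of] at h2
    have h3 := he i
    rw [h2, RStr.e_one M] at h3
    have h4 := congrFun (congrFun h3 i) 0
    rw [Pi.single_eq_same] at h4
    exact (h1 i).1 h4.symm
  · have h2 := h.e_sum E Finset.univ (fun i => (h.nrm E).of (f i) (h.rr_le_U E i (hf i))) fun i _ => (hf i).1.1
    refine Nrm.ext (h.inj h0 h2.1 ?_)
    rw [h2.2, Nrm.val_of]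
    funext i
    rw [Finset.sum_apply, Finset.sum_eq_single i]
    · rw [Nrm.val_of, he, Pi.single_eq_same]
      funext l
      fin_cases l
      · rfl
      · exact (h1 i).2
    · intro j _ hj
      rw [Nrm.val_of, he, Pi.single_eq_of_ne hj.symm]
    · intro h
      exact absurd (Finset.mem_univ i) h

omit [CharP F 2] in
theorem exists_z0 : ∃ z₀ ∈ V₀, z₀ ∈ zc (S : Subgroup G) ∧ z₀ ≠ 1 := by
  have hne : V₀ ≠ ⊥ := by
    intro h0
    obtain ⟨v, hv, he⟩ := h.surj (Pi.single ⟨0, h.kpos⟩ ![1, 0])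
    rw [h0, mem_bot] at hv
    rw [hv, RStr.e_one M] at he
    have h1 := congrFun (congrFun he ⟨0, h.kpos⟩) 0
    rw [Pi.single_eq_same] at h1
    exact zero_ne_one h1
  obtain ⟨x, hx, hx1, hxS⟩ := NoFF.LinesPlug.exists_fixed S.isPGroup' (h.V0V.trans h.VS) (h.SP.trans h.PV0) hne
  refine ⟨x, hx, mem_zc.2 ⟨h.VS (h.V0V hx), fun s hs => hxS s hs, ?_⟩, hx1⟩
  rw [pow_two, h.sqV (h.V0V hx)]

/-- **(3)** -/
theorem three {z₀ : G} (h0 : z₀ ∈ V₀) (hz : z₀ ∈ zc (S : Subgroup G)) (h1 : z₀ ≠ 1) :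
    zl (S : Subgroup G) P ≤ o2 (centralizer ({z₀} : Set G)) := by
  by_contra hcon
  have hL : IsLong (S : Subgroup G) (centralizer ({z₀} : Set G)) := isLong S hz h1
  have E : PairA (S : Subgroup G) P (centralizer ({z₀} : Set G)) :=
    ⟨h.par, hL, fun h2 => hcon (le_o2_of_comm (h.data.low P h.par) hL h2)⟩
  obtain ⟨H', hH', E'⟩ := exists_minA E
  obtain ⟨z, hzz, hne⟩ := h.exists_z E'.toPairA
  have Q := h.sit E' hzz hne
  have hfull := h.full_of E'.toPairA h0 (zc_le_zl _ _ hz) (h.e_z0 E'.toPairA h0 hz h1)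
  obtain ⟨x, i, hx⟩ := full_not_mem (h.rt E'.toPairA) Q (h.ind E'.toPairA) hfull ⟨0, h.kpos⟩
  apply hx
  rw [Nrm.smul_ad, Nrm.mem_ad, Nrm.val_of, mem_conj]
  have h2 : (x : G)⁻¹ * z₀ * x = z₀ := by
    have h3 := mem_centralizer_iff.1 (hH' x.2) z₀ rfl
    rw [mul_assoc, h3, inv_mul_cancel_left]
  rw [h2, mem_centralizer_iff]
  intro v hv
  exact h.commV hv.2.1 (h.V0V h0)

/-- full vectors of `V₀` are conjugate to `z₀` under `P` -/
theorem exists_conj {r z₀ : G} (hr : r ∈ V₀) (hr1 : ∀ i, M.e r i 0 ≠ 0 ∧ M.e r i 1 = 0) (h0 : z₀ ∈ V₀)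
    (h1 : ∀ i, M.e z₀ i 0 ≠ 0 ∧ M.e z₀ i 1 = 0) : ∃ b ∈ P, b * z₀ * b⁻¹ = r := by
  have h2 : ∀ i, ∃ A : Matrix.SpecialLinearGroup (Fin 2) F, ap A (M.e z₀ i) = M.e r i := fun i =>
    exists_ap (fun h3 => (h1 i).1 (by rw [h3]; rfl)) (fun h3 => (hr1 i).1 (by rw [h3]; rfl))
  choose A hA using h2
  obtain ⟨b, hb, hbA⟩ := M.lift A
  refine ⟨b, hb, h.inj (h.conV0 hb h0) hr ?_⟩
  funext i
  rw [hbA.1 z₀ (h.V0V h0) i, hA]

/-- **NOFF for full vectors** -/
theorem comm_of_full {r t : G} (hr : r ∈ V₀) (hr1 : ∀ i, M.e r i 0 ≠ 0 ∧ M.e r i 1 = 0) (ht : t * r = r * t) :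
    MulAut.conj t • zl (S : Subgroup G) P ≤ centralizer (zl (S : Subgroup G) P : Set G) := by
  obtain ⟨z₀, h0, hz, h1⟩ := h.exists_z0
  have E₀ : ∀ i, M.e z₀ i 0 ≠ 0 ∧ M.e z₀ i 1 = 0 := by
    have h2 : ∀ i, M.e z₀ i 1 = 0 := fun i => by
      obtain ⟨t, ht, hb⟩ := M.unip fun _ => 1
      have h3 := hb.1 z₀ (h.V0V h0) i
      rw [(mem_zc.1 hz).2.1 t ht, mul_inv_cancel_right, RAOne.ap_up'] at h3
      have h4 := congrFun h3 0
      simpa using h4
    intro i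
    have h3 : M.e z₀ i ≠ 0 := by
      intro h4
      apply h1
      refine h.inj h0 (one_mem _) ?_
      rw [RStr.e_one M]
      funext j
      obtain ⟨s, hs, h5⟩ := M.trans i j
      have h6 := (h5 z₀ (h.V0V h0)).2 h4
      rwa [(mem_zc.1 hz).2.1 s hs, mul_inv_cancel_right] at h6
    refine ⟨fun h4 => h3 ?_, h2 i⟩
    funext l
    fin_cases l
    · exact h4
    · exact h2 i
  obtain ⟨b, hb, hbr⟩ := h.exists_conj hr hr1 h0 E₀
  have hVS := h.VS
  -- `t' = b⁻¹ t b ∈ C(z₀)`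
  set t' := b⁻¹ * t * b with ht'
  have hV := h.three h0 hz h1
  have hL : IsLong (S : Subgroup G) (centralizer ({z₀} : Set G)) := isLong S hz h1
  have ht'c : t' ∈ centralizer ({z₀} : Set G) := by
    rw [mem_centralizer_singleton_iff]
    have h2 : z₀ = b⁻¹ * r * b := by rw [← hbr]; group
    rw [h2, ht']
    have e1 : b⁻¹ * t * b * (b⁻¹ * r * b) = b⁻¹ * (t * r) * b := by group
    have e2 : b⁻¹ * r * b * (b⁻¹ * t * b) = b⁻¹ * (r * t) * b := by group
    rw [e1, e2, ht]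
  have hoS : o2 (centralizer ({z₀} : Set G)) ≤ (S : Subgroup G) := hL.loc.o2_le S
  have hVt : MulAut.conj t' • zl (S : Subgroup G) P ≤ o2 (centralizer ({z₀} : Set G)) := by
    have h2 := (conj_le_iff (g := t')).2 hV
    rwa [conj_eq_of_mem (le_normalizer_o2 _ ht'c)] at h2
  have D' := GeoLow.geo h.hc h.data
  have h2 : MulAut.conj t' • zl (S : Subgroup G) P ≤ centralizer (zl (S : Subgroup G) P : Set G) := by
    have h2 := D'.noff' h.par h.par (g := t') (h := 1)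
      (by
        rw [map_one, one_smul]
        exact (hVt.trans hoS).trans h.SP)
      (by
        rw [map_one, one_smul]
        have h3 : zl (S : Subgroup G) P ≤ MulAut.conj t' • o2 (centralizer ({z₀} : Set G)) := by
          rw [conj_eq_of_mem (le_normalizer_o2 _ ht'c)]
          exact hV
        exact h3.trans (conj_le_iff.2 (hoS.trans h.SP)))
    rw [map_one, one_smul] at h2
    exact h2
  -- conjugate back by `b`
  have h3 := conj_le_centralizer (g := b) h2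
  rw [conj_eq_of_mem (le_normalizer_zl _ _ hb), conj_conj] at h3
  have e : b * t' = t * b := by rw [ht']; group
  rwa [e, ← conj_conj, conj_eq_of_mem (le_normalizer_zl _ _ hb)] at h3

/-- **`Root.Ex`** for every `H`. -/
theorem ex (E : PairA (S : Subgroup G) P H) : Root.Ex (TH M V₀ H) (h.Ax E) (h.R E) where
  toRt := h.rt E
  card := fun i j => h.card_quot_le E i j
  big := h.big' E
  noff := by
    rintro r ⟨f, hf, rfl⟩ t ht l r' hr' i
    obtain ⟨h1, h2⟩ := h.e_sum E Finset.univ f fun i _ => (hf i).1.1.1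
    set r := ∑ i, f i with hrdef
    have h3 : ∀ i, M.e ((h.nrm E).val r) i 0 ≠ 0 ∧ M.e ((h.nrm E).val r) i 1 = 0 := by
      intro i
      have h4 : M.e ((h.nrm E).val r) i = M.e ((h.nrm E).val (f i)) i := by
        rw [h2, Finset.sum_apply, Finset.sum_eq_single i]
        · intro j _ hj
          exact (hf j).1.1.2.2 i (fun h => hj h.symm)
        · intro h
          exact absurd (Finset.mem_univ i) h
      rw [h4]
      refine ⟨fun h5 => (hf i).2 ?_, (hf i).1.2⟩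
      refine Nrm.eq_zero_iff.2 (h.inj (hf i).1.1.1 (one_mem _) ?_)
      rw [e_nn (hf i).1.1, RStr.e_one M]
      have h6 : M.e ((h.nrm E).val (f i)) i = 0 := by
        funext l
        fin_cases l
        · exact h5
        · exact (hf i).1.2
      rw [h6]
      exact Pi.single_zero _
    have h4 : (t : G) * (h.nrm E).val r = (h.nrm E).val r * t := by
      have h5 := Nrm.ext_iff.1 ht
      rw [Nrm.val_smul] at h5
      exact mul_inv_eq_iff_eq_mul.1 h5
    have h5 := h.comm_of_full h1 h3 h4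
    rw [Nrm.mem_ad, Nrm.val_smul, mem_centralizer_iff]
    intro v hv
    have h6 : (t : G) * (h.nrm E).val r' * (t : G)⁻¹ ∈ MulAut.conj (t : G) • zl (S : Subgroup G) P := by
      rw [mem_conj]
      have e : (t : G)⁻¹ * (t * (h.nrm E).val r' * (t : G)⁻¹) * t = (h.nrm E).val r' := by group
      rw [e]
      exact hr'.1.2.1
    exact mem_centralizer_iff.1 (h5 h6) v hv.2.1
  nt := by
    intro i
    by_contra hcon
    push Not at hcon
    obtain ⟨z₀, h0, hz, h1⟩ := h.exists_z0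
    have hE := h.e_z0 E h0 hz h1
    -- all `R j` are fixed by `N`
    have h2 : ∀ j, ∀ g, IsAx (H := H) (h.Ax E) g → h.R E j ≤ g := by
      intro j g hg
      obtain ⟨s, hs, rfl⟩ := h.exists_S i j
      have h3 := hcon _ (hg.smul (⟨s, E.long.loc.le hs⟩ : H)⁻¹)
      intro m hm
      have h4 : (⟨s, E.long.loc.le hs⟩ : H)⁻¹ • m ∈ h.R E i := by
        rw [Nrm.mem_ad] at hm ⊢
        rw [Nrm.val_smul]
        rw [← h.conj_rr hs i, mem_conj] at hm
        rw [InvMemClass.coe_inv, inv_inv]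
        exact hm
      have h5 := h3 h4
      rwa [mem_smul, inv_inv, smul_inv_smul] at h5
    -- `z₀` is fixed by `N`
    have hfull := h.full_of E h0 (zc_le_zl _ _ hz) hE
    obtain ⟨f, hf, he⟩ := hfull
    have h3 : ∀ g, IsAx (H := H) (h.Ax E) g → (h.nrm E).of z₀ (zc_le_zl _ _ hz) ∈ g := by
      intro g hg
      rw [he]
      exact g.sum_mem fun j _ => h2 j g hg (hf j).1
    have h4 : NN (S : Subgroup G) P H ≤ centralizer ({z₀} : Set G) := by
      intro x hx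
      obtain ⟨hxH, n, hn, h5⟩ := h.exists_NN E hx
      have h6 := ((TransRt.axSys (h.rt E) (h.big' E)).fixed_iff
        (u := (h.nrm E).of z₀ (zc_le_zl _ _ hz))).1 (fun g hg => h3 g hg) n hn
      rw [mem_centralizer_singleton_iff]
      have h7 := h5 ((h.nrm E).of z₀ (zc_le_zl _ _ hz))
      rw [h6] at h7
      have h8 := Nrm.ext_iff.1 h7
      rw [Nrm.val_smul, Nrm.val_of] at h8
      exact mul_inv_eq_iff_eq_mul.1 h8
    exact h.not_le_o2 E h4 (h.three h0 hz h1)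

/-- **THEOREM EXACT WITH RADICAL.** -/
theorem exact (E : PairA (S : Subgroup G) P H) (i : Fin k) {u : G} (hu : u ∈ zl (S : Subgroup G) H) :
    ∃ v ∈ zl (S : Subgroup G) H, (∀ l, l ≠ i → v ∈ centralizer (nn M V₀ l : Set G)) ∧
      v * u ∈ centralizer (nn M V₀ i : Set G) := by
  obtain ⟨v, h1, h2⟩ := (h.ex E).exact i ((h.nrm E).of u hu)
  exact ⟨(h.nrm E).val v, Nrm.val_mem _ v, fun l hl => h1 l hl, h2⟩

end Hyp

end Cfsg.Agent.Omega.NOThreeL.RSplit

end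

section


/-!
# NO-3L, box R ∩ (A), `q > 2`, `V_P` split (#19602): the hypothesis `free`

`Hyp.free` : an element of `N_i` which fixes an element of `U = zl S H` outside `C_U(N_i)` is trivial on `U`; so it is
the hypothesis `free` of RSplit/FrameOf.lean, ManyAx.lean, QuadAll.lean, QuadFv.lean for the instance `Hyp.rt`.
`Hyp.free_ad` : group form.
-/

set_option autoImplicit false
set_option linter.unusedSectionVars false

namespace Cfsg.Agent.Omega.NOThreeL.RSplit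

open Subgroup Cfsg Cfsg.Agent.Omega.MinPar
open Cfsg.Agent.ZN (zc zl o2)
open Cfsg.Agent.Omega.Node.NO3L Cfsg.Agent.Omega.NOThreeL.Basic
open Cfsg.Agent.Omega.FFThm (Off NatK ActsSL)
open scoped Pointwise

universe u

variable {G : Type u} [Group G] {F : Type} [Field F] {k : ℕ}

namespace Hyp

variable [Finite G] {S : Sylow 2 G} {P H D V₀ : Subgroup G}
variable {M : NatK F (S : Subgroup G) P (zl (S : Subgroup G) P) D k} (h : Hyp M V₀)
include h

variable [CharP F 2] (E : PairA (S : Subgroup G) P H)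
include E

/-- if `v ∈ N_i` commutes with `u ∈ U - C(N_i)`, then `v ∈ C(U)` -/
theorem free_ad {i : Fin k} {v u : G} (hv : v ∈ nn M V₀ i) (hu : u ∈ zl (S : Subgroup G) H)
    (huc : u ∉ centralizer (nn M V₀ i : Set G)) (hvu : v * u = u * v) :
    ∀ m ∈ zl (S : Subgroup G) H, v * m = m * v := by
  obtain ⟨β, hβ, -⟩ := h.exists_beta E
  have h0 : β u i ≠ 0 := fun h1 => huc ((h.mem_cent_iff E hβ hu).2 h1)
  have h1 : v * u * v⁻¹ * u⁻¹ = 1 := by rw [hvu]; group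
  have h2 : M.e v i 1 = 0 := by
    have h3 := (h.cm_aux E hβ hu hv).2
    rw [h1, RStr.e_one M] at h3
    have h4 := congrFun (congrFun h3 i) 0
    rw [Pi.single_eq_same] at h4
    have h5 : β u i * M.e v i 1 = 0 := h4.symm
    exact (mul_eq_zero.1 h5).resolve_left h0
  intro m hm
  obtain ⟨h3, h4⟩ := h.cm_aux E hβ hm hv
  have h5 : v * m * v⁻¹ * m⁻¹ = 1 := by
    refine h.inj h3.1 (one_mem _) ?_
    rw [h4, RStr.e_one M, h2, mul_zero]
    funext j l
    by_cases hj : j = i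
    · subst hj
      rw [Pi.single_eq_same]
      fin_cases l <;> rfl
    · rw [Pi.single_eq_of_ne hj]
      rfl
  exact commutatorElement_eq_one_iff_mul_comm.1 h5

/-- **The hypothesis `free`** for the instance `Hyp.rt`. -/
theorem free : ∀ i, ∀ t ∈ TH M V₀ H i, ∀ u : (h.nrm E).Mod, u ∉ h.Ax E i → t • u = u →
    ∀ m : (h.nrm E).Mod, t • m = m := by
  intro i t ht u hu htu m
  have hv : (t : G) ∈ nn M V₀ i := mem_subgroupOf.1 ht
  have h1 : (t : G) * (h.nrm E).val u = (h.nrm E).val u * (t : G) := by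
    have h2 := congrArg (h.nrm E).val htu
    rw [Nrm.val_smul, mul_inv_eq_iff_eq_mul] at h2
    exact h2
  have h3 := h.free_ad E hv (Nrm.val_mem _ u) (fun h4 => hu (Nrm.mem_ad.2 h4)) h1 _ (Nrm.val_mem _ m)
  refine Nrm.ext ?_
  rw [Nrm.val_smul, h3, mul_inv_cancel_right]

/-- the same for all conjugates -/
theorem free_conj (y : H) : ∀ i, ∀ t ∈ MulAut.conj y • TH M V₀ H i, ∀ u : (h.nrm E).Mod, u ∉ y • h.Ax E i →
    t • u = u → ∀ m : (h.nrm E).Mod, t • m = m := by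
  intro i t ht u hu htu m
  rw [Cfsg.Agent.Omega.NoFF.Basic.mem_conj] at ht
  have h1 := h.free E i _ ht (y⁻¹ • u) (fun h2 => hu (by
    rw [AddSubgroup.mem_smul_pointwise_iff_exists]
    exact ⟨_, h2, smul_inv_smul y u⟩)) (by
      rw [← mul_smul, mul_inv_cancel_right, mul_smul, htu]) (y⁻¹ • m)
  rw [← mul_smul, mul_inv_cancel_right, mul_smul] at h1
  exact MulAction.injective _ h1

end Hyp

end Cfsg.Agent.Omega.NOThreeL.RSplit

end

section


/-!
# NO-3L, box R ∩ (A), `q > 2`, split (#19602, helper797): the opposite element, fields of `EndB`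

`h : Hyp M V₀`, `E : PairA S P H`.

* `Hyp.mem_RR` : `[U, V] = {r ∈ V₀ | M.e r i 1 = 0}` `= R_1 × .. × R_k`;
* `Hyp.exists_upper` : `U` induces all upper unitriangular matrices;
* `Hyp.cent_bot` : `C_Z(P) ∩ C_Z(H) = 1`;
* **`Hyp.exists_opp`** : `w ∈ P` with the fields `Vw`, `Vw'`, `op`, `opR` of `EndB`.
-/

set_option autoImplicit false
set_option linter.unusedSectionVars false

namespace Cfsg.Agent.Omega.NOThreeL.RSplit

open Subgroup Cfsg Cfsg.Agent.Omega.MinPar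
open Cfsg.Agent.ZN (zc zl o2)
open Cfsg.Agent.Omega.Frame Cfsg.Agent.Omega.FrameNOFF
open Cfsg.Agent.Omega.Node.NO3L Cfsg.Agent.Omega.NOThreeL.Basic
open Cfsg.Agent.Omega.NoFF.Basic (conj_conj mem_conj conj_le_iff conj_le_centralizer comm_symm comm_mono)
open Cfsg.Agent.Omega.NOThreeL.Pair (conj_eq_of_mem conj_le_normalizer zl_abel)
open Cfsg.Agent.MinSimple.VModule (zl_le zc_le_zl le_normalizer_zl zc_le o2_isPGroup le_normalizer_o2 le_o2
  normalizer_le_normalizer_zc mem_zc)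
open Cfsg.Agent.Omega.NOThreeL.RTools (isLong)
open Cfsg.Agent.Omega.FFThm (Off NatK ActsSL)
open Cfsg.Agent.Omega.NatPair (ap ap_mul ap_one ap_inv_ap exists_ap)
open Cfsg.Agent.Lib.SL2Mat
open Cfsg.Agent.Omega.NOThreeL.RAOne (ap_up' ap_lo')
open Cfsg.Agent.Omega.NOThreeL.RSplit.EndB (RR)
open scoped Pointwise commutatorElement

universe u

variable {G : Type u} [Group G] {F : Type} [Field F] {k : ℕ}

namespace Hyp

variable [Finite G] {S : Sylow 2 G} {P H D V₀ : Subgroup G}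
variable {M : NatK F (S : Subgroup G) P (zl (S : Subgroup G) P) D k} (h : Hyp M V₀)
include h

/-- `{v ∈ V₀ | M.e v i 1 = 0}` -/
def ln (M : NatK F (S : Subgroup G) P (zl (S : Subgroup G) P) D k) (h : Hyp M V₀) : Subgroup G where
  carrier := {v | v ∈ V₀ ∧ ∀ i, M.e v i 1 = 0}
  one_mem' := ⟨one_mem _, fun i => by rw [RStr.e_one M]; rfl⟩
  mul_mem' := by
    rintro a b ⟨ha, ha'⟩ ⟨hb, hb'⟩
    refine ⟨mul_mem ha hb, fun i => ?_⟩
    rw [M.mul a (h.V0V ha) b (h.V0V hb), Pi.add_apply, Pi.add_apply, ha', hb', add_zero]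
  inv_mem' := by
    rintro a ⟨ha, ha'⟩
    refine ⟨inv_mem ha, fun i => ?_⟩
    rw [RStr.e_inv M (h.V0V ha), Pi.neg_apply, Pi.neg_apply, ha', neg_zero]

omit h in
theorem mem_ln (h : Hyp M V₀) {v : G} : v ∈ ln M h ↔ v ∈ V₀ ∧ ∀ i, M.e v i 1 = 0 := Iff.rfl

theorem ln_le : ln M h ≤ ⨆ i, rr M V₀ i := by
  classical
  have key : ∀ s : Finset (Fin k), ∀ w ∈ V₀, (∀ i, M.e w i 1 = 0) → (∀ j, j ∉ s → M.e w j = 0) →
      w ∈ ⨆ i, rr M V₀ i := by
    intro s
    induction s using Finset.induction_on with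
    | empty =>
      intro w hw _ h0
      have : w = 1 := h.inj hw (one_mem _) (by
        rw [RStr.e_one M]
        funext j
        exact h0 j (Finset.notMem_empty j))
      rw [this]
      exact one_mem _
    | insert i s his ih =>
      intro w hw hl h0
      obtain ⟨v, hv, he⟩ := h.exists_rr i (M.e w i 0)
      have h1 : w * v⁻¹ ∈ ⨆ i, rr M V₀ i := by
        refine ih _ (mul_mem hw (inv_mem hv.1.1)) (fun j => ?_) fun j hj => ?_
        · rw [M.mul _ (h.V0V hw) _ (inv_mem hv.1.2.1), RStr.e_inv M hv.1.2.1, he, Pi.add_apply, Pi.neg_apply,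
            Pi.add_apply, Pi.neg_apply, hl]
          by_cases hji : j = i
          · rw [hji, Pi.single_eq_same]
            simp
          · rw [Pi.single_eq_of_ne hji]
            simp
        · rw [M.mul _ (h.V0V hw) _ (inv_mem hv.1.2.1), RStr.e_inv M hv.1.2.1, he, Pi.add_apply, Pi.neg_apply]
          by_cases hji : j = i
          · rw [hji, Pi.single_eq_same]
            funext l
            fin_cases l
            · change M.e w i 0 + -(M.e w i 0) = 0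
              rw [add_neg_cancel]
            · change M.e w i 1 + -0 = 0
              rw [hl, neg_zero, add_zero]
          · rw [Pi.single_eq_of_ne hji, neg_zero, add_zero]
            exact h0 j (by rw [Finset.mem_insert]; tauto)
      have h2 := mul_mem h1 ((le_iSup (rr M V₀) i) hv)
      rwa [inv_mul_cancel_right] at h2
  intro w hw
  exact key Finset.univ w hw.1 hw.2 fun j hj => absurd (Finset.mem_univ j) hj

variable [CharP F 2] (E : PairA (S : Subgroup G) P H)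
include E

/-- **`[U, V] = R_1 × .. × R_k`** -/
theorem mem_RR {r : G} : r ∈ RR (S : Subgroup G) P H ↔ r ∈ V₀ ∧ ∀ i, M.e r i 1 = 0 := by
  constructor
  · intro hr
    have h1 : RR (S : Subgroup G) P H ≤ ln M h := by
      refine commutator_le.2 fun u hu v hv => ?_
      obtain ⟨β, hβ, -⟩ := h.exists_beta E
      obtain ⟨w, hw, d, hd, rfl⟩ := h.exists_mul hv
      have hud : u * d * u⁻¹ = d := by
        rw [mem_centralizer_iff.1 (h.D_le_cent hd) u (h.UP E hu), mul_inv_cancel_right]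
      have e1 : ⁅u, w * d⁆ = (u * w * u⁻¹) * w⁻¹ := by
        rw [commutatorElement_def]
        calc u * (w * d) * u⁻¹ * (w * d)⁻¹ = (u * w * u⁻¹) * (u * d * u⁻¹) * d⁻¹ * w⁻¹ := by group
          _ = _ := by rw [hud, mul_inv_cancel_right]
      rw [e1]
      have h2 := h.conV0 (h.UP E hu) hw
      refine ⟨mul_mem h2 (inv_mem hw), fun i => ?_⟩
      rw [M.mul _ (h.V0V h2) _ (inv_mem (h.V0V hw)), RStr.e_inv M (h.V0V hw), Pi.add_apply, Pi.add_apply,
        hβ u hu w (h.V0V hw)]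
      change M.e w i 1 + -(M.e w i 1) = 0
      rw [add_neg_cancel]
    exact h1 hr
  · rintro hr
    have h1 : (⨆ i, rr M V₀ i) ≤ RR (S : Subgroup G) P H := by
      refine iSup_le fun i r hr => ?_
      obtain ⟨u, hu, huc⟩ := h.exists_u E i
      obtain ⟨v, hv, rfl⟩ := h.exists_cm E hu huc hr
      have h2 : ⁅u, v⁆ ∈ RR (S : Subgroup G) P H := commutator_mem_commutator hu hv.2.1
      have h3 := inv_mem h2
      rw [commutatorElement_def] at h3
      have e : (u * v * u⁻¹ * v⁻¹)⁻¹ = v * u * v⁻¹ * u⁻¹ := by group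
      rwa [e] at h3
    exact h1 (h.ln_le hr)

/-- `U` induces all upper unitriangular matrices. -/
theorem exists_upper (b : Fin k → F) : ∃ u ∈ zl (S : Subgroup G) H, ∀ v ∈ zl (S : Subgroup G) P, ∀ i,
    M.e (u * v * u⁻¹) i = ![M.e v i 0 + b i * M.e v i 1, M.e v i 1] := by
  have hF := h.finite_F
  have hs : RBig.AxRInst.Spl S P H D V₀ M := ⟨h.hc, h.data, E, h.kpos, h.V0V, h.PV0, h.disj, h.sup, h.DV,
    fun z hz h0 h1 => h.three h0 hz h1⟩
  obtain ⟨u, hu, hb⟩ := hs.ind h.big b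
  exact ⟨u, hu, fun v hv i => by rw [hb v hv i, ap_up']⟩

omit [CharP F 2] in
/-- `C_Z(P) ∩ C_Z(H) = 1` -/
theorem cent_bot {z : G} (hz : z ∈ zc (S : Subgroup G)) (hP : z ∈ centralizer (P : Set G))
    (hH : z ∈ centralizer (H : Set G)) : z = 1 := by
  by_contra h1
  have hL : IsLong (S : Subgroup G) (centralizer ({z} : Set G)) := isLong S hz h1
  have h2 : P ≤ centralizer ({z} : Set G) := fun g hg =>
    mem_centralizer_singleton_iff.2 (mem_centralizer_iff.1 hP g hg)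
  have h3 : H ≤ centralizer ({z} : Set G) := fun g hg =>
    mem_centralizer_singleton_iff.2 (mem_centralizer_iff.1 hH g hg)
  have h4 := (zl_abel h.hc S hL.loc).1
  exact E.ne ((RA.End.zl_mono h2).trans (h4.trans (centralizer_le (RA.End.zl_mono h3))))

omit E in
/-- an opposite element -/
theorem exists_w : ∃ w ∈ P, (∀ v ∈ zl (S : Subgroup G) P, ∀ i, M.e (w * v * w⁻¹) i = ![M.e v i 1, M.e v i 0]) ∧
    ∀ v ∈ zl (S : Subgroup G) P, ∀ i, M.e (w⁻¹ * v * w) i = ![M.e v i 1, M.e v i 0] := by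
  obtain ⟨w, hw, hA⟩ := M.lift fun _ => up 1 * lo 1 * up 1
  have h1 : ∀ v ∈ zl (S : Subgroup G) P, ∀ i, M.e (w * v * w⁻¹) i = ![M.e v i 1, M.e v i 0] := by
    intro v hv i
    rw [hA.1 v hv i, ap_mul, ap_mul, ap_up' 1 (M.e v i), ap_lo', ap_up']
    have h2 : ∀ x : F, x + x = 0 := CharTwo.add_self_eq_zero
    funext l
    fin_cases l
    · change M.e v i 0 + 1 * M.e v i 1 + 1 * (1 * (M.e v i 0 + 1 * M.e v i 1) + M.e v i 1) = M.e v i 1
      linear_combination h2 (M.e v i 0) + h2 (M.e v i 1)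
    · change 1 * (M.e v i 0 + 1 * M.e v i 1) + M.e v i 1 = M.e v i 0
      linear_combination h2 (M.e v i 1)
  refine ⟨w, hw, h1, fun v hv i => ?_⟩
  have h2 : w⁻¹ * v * w ∈ zl (S : Subgroup G) P := by
    have := conV (S := S) (P := P) (inv_mem hw) hv
    rwa [inv_inv] at this
  have h3 := h1 _ h2 i
  have e : w * (w⁻¹ * v * w) * w⁻¹ = v := by group
  rw [e] at h3
  rw [h3]
  funext l
  fin_cases l <;> rfl

/-- `V = (V ∩ U) R^w` -/
theorem exists_decw {w v : G} (hw : w ∈ P)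
    (hwv : ∀ v ∈ zl (S : Subgroup G) P, ∀ i, M.e (w * v * w⁻¹) i = ![M.e v i 1, M.e v i 0])
    (hv : v ∈ zl (S : Subgroup G) P) :
    ∃ a ∈ zl (S : Subgroup G) H, ∃ r ∈ RR (S : Subgroup G) P H, v = a * (w * r * w⁻¹) := by
  obtain ⟨v₀, hv₀, d, hd, rfl⟩ := h.exists_mul hv
  obtain ⟨r, hr, he⟩ := h.surj fun i => ![M.e v₀ i 1, 0]
  have hrR : r ∈ RR (S : Subgroup G) P H := (h.mem_RR E).2 ⟨hr, fun i => by rw [he]; rfl⟩
  have hwr : w * r * w⁻¹ ∈ V₀ := h.conV0 hw hr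
  refine ⟨v₀ * d * (w * r * w⁻¹)⁻¹, ?_, r, hrR, by group⟩
  have e1 : v₀ * d * (w * r * w⁻¹)⁻¹ = (v₀ * (w * r * w⁻¹)⁻¹) * d := by
    rw [mul_assoc v₀ d, mul_assoc v₀, h.commV (h.DV hd) (inv_mem (h.V0V hwr))]
  rw [e1]
  refine mul_mem ?_ (zc_le_zl _ _ (h.D_le_zc hd))
  have h1 : v₀ * (w * r * w⁻¹)⁻¹ ∈ RR (S : Subgroup G) P H := by
    refine (h.mem_RR E).2 ⟨mul_mem hv₀ (inv_mem hwr), fun i => ?_⟩
    rw [M.mul _ (h.V0V hv₀) _ (inv_mem (h.V0V hwr)), RStr.e_inv M (h.V0V hwr), Pi.add_apply, Pi.add_apply,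
      Pi.neg_apply, Pi.neg_apply, hwv r (h.V0V hr), he]
    change M.e v₀ i 1 + -(M.e v₀ i 1) = 0
    rw [add_neg_cancel]
  exact (h.ln_le ((h.mem_RR E).1 h1) |> fun h2 => (iSup_le fun i => h.rr_le_U E i :
    (⨆ i, rr M V₀ i) ≤ zl (S : Subgroup G) H) h2)

/-- **The opposite element**: fields `hw`, `Vw`, `Vw'`, `op`, `opR` of `EndB`. -/
theorem exists_opp {f : G} (hf : f ∈ zc (S : Subgroup G) ⊓ centralizer (H : Set G)) (hf1 : f ≠ 1) :
    ∃ w ∈ P, (∀ v ∈ zl (S : Subgroup G) P, ∃ a ∈ zl (S : Subgroup G) H, ∃ r ∈ RR (S : Subgroup G) P H,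
        v = a * (w * r * w⁻¹)) ∧
      (∀ v ∈ zl (S : Subgroup G) P, ∃ a ∈ zl (S : Subgroup G) H, ∃ r ∈ RR (S : Subgroup G) P H,
        v = a * (w⁻¹ * r * w)) ∧
      (∀ r ∈ RR (S : Subgroup G) P H, ∃ u ∈ zl (S : Subgroup G) H,
        (w⁻¹ * u * w) * f * (w⁻¹ * u * w)⁻¹ = f * (w⁻¹ * r * w)) ∧
      ∀ x ∈ RR (S : Subgroup G) P H, (∀ u ∈ zl (S : Subgroup G) H, (w⁻¹ * u * w) * x = x * (w⁻¹ * u * w)) →
        x = 1 := by
  obtain ⟨w, hw, h1, h2⟩ := h.exists_w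
  refine ⟨w, hw, fun v hv => h.exists_decw E hw h1 hv, fun v hv => ?_, fun r hr => ?_, fun x hx hux => ?_⟩
  · have h3 := h.exists_decw E (w := w⁻¹) (inv_mem hw) (fun v hv i => by rw [inv_inv]; exact h2 v hv i) hv
    simpa only [inv_inv] using h3
  · -- `f = z' d`
    obtain ⟨z', hz', d, hd, rfl⟩ := h.exists_mul (zc_le_zl _ _ hf.1)
    have hz'Z : z' ∈ zc (S : Subgroup G) := by
      have := (zc (S : Subgroup G)).mul_mem hf.1 ((zc (S : Subgroup G)).inv_mem (h.D_le_zc hd))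
      rwa [mul_inv_cancel_right] at this
    have hz'1 : z' ≠ 1 := by
      rintro rfl
      apply hf1
      rw [one_mul] at hf ⊢
      exact h.cent_bot E hf.1 (h.D_le_cent hd) hf.2
    have he := h.e_z0 E hz' hz'Z hz'1
    have hr' := (h.mem_RR E).1 hr
    obtain ⟨u, hu, hb⟩ := h.exists_upper E fun i => (M.e z' i 0)⁻¹ * M.e r i 0
    refine ⟨u, hu, ?_⟩
    have hwz : w * z' * w⁻¹ ∈ V₀ := h.conV0 hw hz'
    have key : u * (w * z' * w⁻¹) * u⁻¹ = (w * z' * w⁻¹) * r := by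
      refine h.inj (h.conV0 (h.UP E hu) hwz) (mul_mem hwz hr'.1) ?_
      rw [M.mul _ (h.V0V hwz) _ (h.V0V hr'.1)]
      funext i
      rw [hb _ (h.V0V hwz), Pi.add_apply, h1 z' (h.V0V hz')]
      funext l
      fin_cases l
      · change M.e z' i 1 + (M.e z' i 0)⁻¹ * M.e r i 0 * M.e z' i 0 = M.e z' i 1 + M.e r i 0
        rw [mul_comm _ (M.e r i 0), mul_assoc, inv_mul_cancel₀ (he i).1, mul_one]
      · change M.e z' i 0 = M.e z' i 0 + M.e r i 1
        rw [hr'.2, add_zero]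
    have hdw : w * d * w⁻¹ = d := by
      rw [mem_centralizer_iff.1 (h.D_le_cent hd) w hw, mul_inv_cancel_right]
    have hdu : u * d * u⁻¹ = d := by
      rw [mem_centralizer_iff.1 (h.D_le_cent hd) u (h.UP E hu), mul_inv_cancel_right]
    have hrd : r * d = d * r := h.commV (h.V0V hr'.1) (h.DV hd)
    calc (w⁻¹ * u * w) * (z' * d) * (w⁻¹ * u * w)⁻¹
        = w⁻¹ * (u * (w * z' * w⁻¹) * u⁻¹) * (u * (w * d * w⁻¹) * u⁻¹) * w := by group
      _ = w⁻¹ * ((w * z' * w⁻¹) * r) * d * w := by rw [key, hdw, hdu]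
      _ = w⁻¹ * (w * z' * w⁻¹) * (r * d) * w := by group
      _ = z' * (w⁻¹ * d * w) * (w⁻¹ * r * w) := by rw [hrd]; group
      _ = _ := by
        have e : w⁻¹ * d * w = d := by
          rw [mul_assoc, ← mem_centralizer_iff.1 (h.D_le_cent hd) w hw, inv_mul_cancel_left]
        rw [e]
  · have hx' := (h.mem_RR E).1 hx
    obtain ⟨u, hu, hb⟩ := h.exists_upper E fun _ => 1
    have h3 := hux u hu
    have h4 : u * (w * x * w⁻¹) * u⁻¹ = w * x * w⁻¹ := by
      have h5 := congrArg (fun t => w * t * w⁻¹ * u⁻¹) h3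
      simpa [mul_assoc] using h5
    refine h.inj hx'.1 (one_mem _) ?_
    rw [RStr.e_one M]
    funext i l
    have h5 := hb _ (h.V0V (h.conV0 hw hx'.1)) i
    rw [h4, h1 x (h.V0V hx'.1)] at h5
    have h6 := congrFun h5 0
    change M.e x i 1 = M.e x i 1 + 1 * M.e x i 0 at h6
    rw [one_mul] at h6
    fin_cases l
    · exact left_eq_add.1 h6
    · exact hx'.2 i

end Hyp

end Cfsg.Agent.Omega.NOThreeL.RSplit

end

end

-- merged: Cfsg.Agent.Mrg.Omega.NOThreeL.RBig.BigZ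
section

/-!
# NO-3L, `R ∩ (A)`, split: `|Z₀| > 2` is impossible (helper797 #19602 (6); helper761)

* `exists_odd` : `S ≤ A ≤ N(S)`, `S` Sylow: `A = S K`, `|K|` odd;
* `main` : `Z = Ω₁(Z(S)) = Z₀ E = Z₀ F`, `E = C_Z(P)`, `F = C_Z(H)`, `E ∩ F = 1`, `P` and `H` both fuse `Z₀#`,
  `N_P(S)`, `N_H(S)` normalise `Z₀`, `|Z₀| > 2`: `Z ≤ Z₀`.
-/

set_option autoImplicit false
set_option linter.unusedSectionVars false

namespace Cfsg.Agent.Omega.NOThreeL.RBig.BigZ

open Subgroup Cfsg Cfsg.Agent.ZN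

universe u

variable {G : Type u} [Group G] [Finite G]

/-- Schur–Zassenhaus for `S ≤ A ≤ N(S)`. -/
theorem exists_odd (S : Sylow 2 G) {A : Subgroup G} (hSA : (S : Subgroup G) ≤ A)
    (hA : A ≤ normalizer ((S : Subgroup G) : Set G)) :
    ∃ K : Subgroup G, K ≤ A ∧ A ≤ (S : Subgroup G) ⊔ K ∧ Odd (Nat.card K) := by
  have hf : Fact (Nat.Prime 2) := ⟨Nat.prime_two⟩
  set N := ((S : Subgroup G)).subgroupOf A with hN
  have hnorm : N.Normal := (normal_subgroupOf_iff_le_normalizer hSA).2 hA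
  have h1 : ¬ 2 ∣ N.index := by
    have h2 : N.index = (S : Subgroup G).relIndex A := rfl
    rw [h2]
    intro h3
    exact S.not_dvd_index (h3.trans (relIndex_dvd_index_of_le hSA))
  have hcard : Nat.card N = Nat.card (S : Subgroup G) := by
    rw [hN]
    exact Nat.card_congr (subgroupOfEquivOfLe hSA).toEquiv
  have hcop : Nat.Coprime (Nat.card N) N.index := by
    obtain ⟨n, hn⟩ := IsPGroup.iff_card.1 S.isPGroup'
    rw [hcard, hn]
    exact Nat.Coprime.pow_left _ ((Nat.Prime.coprime_iff_not_dvd Nat.prime_two).2 h1)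
  obtain ⟨K, hK⟩ := exists_right_complement'_of_coprime hcop
  refine ⟨K.map A.subtype, map_subtype_le _, ?_, ?_⟩
  · intro a ha
    have h2 := hK.sup_eq_top
    have h3 : (⟨a, ha⟩ : A) ∈ N ⊔ K := by rw [h2]; exact mem_top _
    have h4 : a ∈ (N ⊔ K).map A.subtype := ⟨_, h3, rfl⟩
    rw [Subgroup.map_sup] at h4
    refine (sup_le ?_ ?_ : N.map A.subtype ⊔ K.map A.subtype ≤ _) h4
    · rintro _ ⟨x, hx, rfl⟩
      exact mem_sup_left hx
    · exact le_sup_right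
  · have h2 : Nat.card (K.map A.subtype : Subgroup G) = Nat.card K :=
      Nat.card_congr (K.equivMapOfInjective _ A.subtype_injective).symm.toEquiv
    have h3 : N.index = Nat.card K := hK.symm.index_eq_card
    rw [h2, ← h3]
    exact Nat.not_even_iff_odd.1 fun h => h1 (even_iff_two_dvd.1 h)

omit [Finite G] in
theorem zc_cent {S : Subgroup G} {x : G} (hx : x ∈ zc S) : x ∈ centralizer (S : Set G) :=
  mem_centralizer_iff.2 (MinSimple.VModule.mem_zc.1 hx).2.1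

/-- Burnside in `P ≥ S`. -/
theorem burnside_in (S : Sylow 2 G) {P : Subgroup G} (hSP : (S : Subgroup G) ≤ P) {x y g : G}
    (hx : x ∈ zc (S : Subgroup G)) (hy : y ∈ zc (S : Subgroup G)) (hg : g ∈ P) (h : g * x * g⁻¹ = y) :
    ∃ n ∈ P ⊓ normalizer ((S : Subgroup G) : Set G), n * x * n⁻¹ = y := by
  have hf : Fact (Nat.Prime 2) := ⟨Nat.prime_two⟩
  let S' : Sylow 2 P := S.subtype hSP
  have hS' : (S' : Subgroup P) = (S : Subgroup G).subgroupOf P := rfl
  have hxP : x ∈ P := hSP (MinSimple.VModule.zc_le _ hx)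
  have hc : ∀ t : G, t ∈ zc (S : Subgroup G) → ∀ ht : t ∈ P, (⟨t, ht⟩ : P) ∈ centralizer ((S' : Subgroup P) : Set P) := by
    intro t ht htP
    refine mem_centralizer_iff.2 fun s hs => Subtype.ext ?_
    have h1 : (s : G) ∈ (S : Subgroup G) := hs
    exact mem_centralizer_iff.1 (zc_cent ht) s h1
  have hyP : y ∈ P := hSP (MinSimple.VModule.zc_le _ hy)
  obtain ⟨n, hn, h1⟩ := S'.conj_eq_normalizer_conj_of_mem_centralizer (⟨x, hxP⟩ : P) (⟨g⁻¹, inv_mem hg⟩ : P) (hc x hx hxP)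
    (by
      have e : (⟨g⁻¹, inv_mem hg⟩ : P)⁻¹ * ⟨x, hxP⟩ * ⟨g⁻¹, inv_mem hg⟩ = ⟨y, hyP⟩ := Subtype.ext (by
        change (g⁻¹)⁻¹ * x * g⁻¹ = y
        rw [inv_inv, h])
      rw [e]
      exact hc y hy hyP)
  have h2 := congrArg Subtype.val h1
  change (g⁻¹)⁻¹ * x * g⁻¹ = (n : G)⁻¹ * x * n at h2
  rw [inv_inv, h] at h2
  suffices h9 : (n : G) ∈ normalizer ((S : Subgroup G) : Set G) from
    ⟨(n : G)⁻¹, mem_inf.2 ⟨inv_mem n.2, inv_mem h9⟩, by rw [inv_inv, ← h2]⟩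
  rw [mem_normalizer_iff]
  intro s
  have h3 := mem_normalizer_iff.1 hn
  constructor
  · intro hs
    have h4 := (h3 ⟨s, hSP hs⟩).1 hs
    exact h4
  · intro hs
    have hs' : s ∈ P := by
      have h5 : (n : G)⁻¹ * (n * s * (n : G)⁻¹) * n ∈ P := mul_mem (mul_mem (inv_mem n.2) (hSP hs)) n.2
      have e : (n : G)⁻¹ * (n * s * (n : G)⁻¹) * n = s := by group
      rwa [e] at h5
    exact (h3 ⟨s, hs'⟩).2 hs

/-- A group fusing `Z₀#`, `|Z₀| > 2`, normalising `Z₀`, centralising `E`: its centraliser in `Z₀ E` is in `E`. -/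
theorem mem_of_fixed {Z₀ E : Subgroup G} {A : Set G} (h2 : 2 < Nat.card Z₀)
    (hf : ∀ x ∈ Z₀, ∀ y ∈ Z₀, x ≠ 1 → y ≠ 1 → ∃ g ∈ A, g * x * g⁻¹ = y)
    (hE : ∀ g ∈ A, ∀ e ∈ E, g * e = e * g) {x : G} (hx : x ∈ Z₀) {e : G} (he : e ∈ E)
    (hfix : ∀ g ∈ A, g * (x * e) = x * e * g) : x = 1 := by
  by_contra hx1
  -- another element
  obtain ⟨y, hy, hy1, hyx⟩ : ∃ y ∈ Z₀, y ≠ 1 ∧ y ≠ x := by
    by_contra hcon
    push Not at hcon
    have h3 : (Z₀ : Set G) ⊆ {1, x} := fun y hy => by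
      by_cases h : y = 1
      · exact Or.inl h
      · exact Or.inr (hcon y hy h)
    have h4 := Set.ncard_le_ncard h3 (Set.toFinite _)
    have h5 : (Z₀ : Set G).ncard = Nat.card Z₀ := rfl
    have h6 := Set.ncard_insert_le (1 : G) {x}
    rw [Set.ncard_singleton] at h6
    omega
  obtain ⟨g, hg, e1⟩ := hf x hx y hy hx1 hy1
  apply hyx
  have h3 := hfix g hg
  have h4 := hE g hg e he
  have h5 : g * x * e = x * g * e := by
    calc g * x * e = g * (x * e) := by group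
      _ = x * e * g := h3
      _ = x * (e * g) := by group
      _ = x * (g * e) := by rw [h4]
      _ = x * g * e := by group
  have h6 := mul_right_cancel h5
  rw [← e1, h6]
  group

/-- **`Z ≤ Z₀`.** -/
theorem main (S : Sylow 2 G) {P H Z₀ : Subgroup G} (hSP : (S : Subgroup G) ≤ P) (hSH : (S : Subgroup G) ≤ H)
    (hZ₀ : Z₀ ≤ zc (S : Subgroup G)) (h2 : 2 < Nat.card Z₀)
    (hZE : zc (S : Subgroup G) ≤ Z₀ ⊔ (zc (S : Subgroup G) ⊓ centralizer (P : Set G)))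
    (hZF : zc (S : Subgroup G) ≤ Z₀ ⊔ (zc (S : Subgroup G) ⊓ centralizer (H : Set G)))
    (hEF : ∀ x ∈ zc (S : Subgroup G), x ∈ centralizer (P : Set G) → x ∈ centralizer (H : Set G) → x = 1)
    (hP : ∀ x ∈ Z₀, ∀ y ∈ Z₀, x ≠ 1 → y ≠ 1 → ∃ g ∈ P, g * x * g⁻¹ = y)
    (hH : ∀ x ∈ Z₀, ∀ y ∈ Z₀, x ≠ 1 → y ≠ 1 → ∃ g ∈ H, g * x * g⁻¹ = y)
    (nP : ∀ g ∈ P ⊓ normalizer ((S : Subgroup G) : Set G), ∀ x ∈ Z₀, g * x * g⁻¹ ∈ Z₀)
    (nH : ∀ g ∈ H ⊓ normalizer ((S : Subgroup G) : Set G), ∀ x ∈ Z₀, g * x * g⁻¹ ∈ Z₀) :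
    zc (S : Subgroup G) ≤ Z₀ := by
  set Z := zc (S : Subgroup G) with hZ
  set NS := normalizer ((S : Subgroup G) : Set G) with hNS
  have hZab : ∀ x ∈ Z, ∀ y ∈ Z, x * y = y * x := fun x hx y hy =>
    (mem_centralizer_iff.1 (zc_cent hx) y (MinSimple.VModule.zc_le _ hy)).symm
  -- `A = ⟨N_P(S), N_H(S)⟩`
  set A := (P ⊓ NS) ⊔ (H ⊓ NS) with hA
  have hAN : A ≤ NS := sup_le inf_le_right inf_le_right
  have hSA : (S : Subgroup G) ≤ A := (le_inf hSP le_normalizer).trans le_sup_left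
  obtain ⟨K, hKA, hAK, hodd⟩ := exists_odd S hSA hAN
  have hNZ : NS ≤ normalizer (Z : Set G) := MinSimple.VModule.normalizer_le_normalizer_zc _
  -- `A` is trivial on `Z / Z₀`
  have key : ∀ g ∈ A, (∀ z ∈ Z, z * g * z⁻¹ * g⁻¹ ∈ Z₀) := by
    let B : Subgroup G :=
      { carrier := {g | g ∈ NS ∧ ∀ z ∈ Z, z * g * z⁻¹ * g⁻¹ ∈ Z₀}
        one_mem' := ⟨one_mem _, fun z _ => by simp⟩
        mul_mem' := by
          rintro g h ⟨hg, hg'⟩ ⟨hh, hh'⟩
          refine ⟨mul_mem hg hh, fun z hz => ?_⟩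
          have h1 := hg' z hz
          have h3 : g * (z * h * z⁻¹ * h⁻¹) * g⁻¹ ∈ Z₀ := by
            have h4 := hh' z hz
            have h5 := hg' _ (hZ₀ h4)
            have e : g * (z * h * z⁻¹ * h⁻¹) * g⁻¹ = ((z * h * z⁻¹ * h⁻¹) * g * (z * h * z⁻¹ * h⁻¹)⁻¹ * g⁻¹)⁻¹ *
                (z * h * z⁻¹ * h⁻¹) := by group
            rw [e]
            exact mul_mem (inv_mem h5) h4
          have e : z * (g * h) * z⁻¹ * (g * h)⁻¹ = z * g * z⁻¹ * g⁻¹ * (g * (z * h * z⁻¹ * h⁻¹) * g⁻¹) := by group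
          rw [e]
          exact mul_mem h1 h3
        inv_mem' := by
          rintro g ⟨hg, hg'⟩
          refine ⟨inv_mem hg, fun z hz => ?_⟩
          have h3 : g⁻¹ * z * g ∈ Z := (mem_normalizer_iff''.1 (hNZ hg) z).1 hz
          have h4 := hg' _ h3
          have e : z * g⁻¹ * z⁻¹ * g⁻¹⁻¹ = ((g⁻¹ * z * g) * g * (g⁻¹ * z * g)⁻¹ * g⁻¹)⁻¹ := by group
          rw [e]
          exact inv_mem h4 }
    have hB : A ≤ B := by
      refine sup_le (fun g hg => ⟨hg.2, fun z hz => ?_⟩) (fun g hg => ⟨hg.2, fun z hz => ?_⟩)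
      · have h1 : z ∈ ((Z₀ ⊔ (Z ⊓ centralizer (P : Set G)) : Subgroup G) : Set G) := hZE hz
        rw [coe_mul_of_left_le_normalizer_right _ _ ?_] at h1
        · obtain ⟨x, hx, e, he, rfl⟩ := Set.mem_mul.mp h1
          have h3 : g * e⁻¹ = e⁻¹ * g := mem_centralizer_iff.1 (inv_mem he.2) g hg.1
          have e1 : x * e * g * (x * e)⁻¹ * g⁻¹ = x * (g * x⁻¹ * g⁻¹) := by
            calc x * e * g * (x * e)⁻¹ * g⁻¹ = x * e * (g * e⁻¹) * x⁻¹ * g⁻¹ := by group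
              _ = x * e * (e⁻¹ * g) * x⁻¹ * g⁻¹ := by rw [h3]
              _ = _ := by group
          rw [e1]
          exact mul_mem hx (nP g hg _ (inv_mem hx))
        · intro x hx
          refine centralizer_le_normalizer _ (mem_centralizer_iff.2 fun e he => hZab e he.1 x (hZ₀ hx))
      · have h1 : z ∈ ((Z₀ ⊔ (Z ⊓ centralizer (H : Set G)) : Subgroup G) : Set G) := hZF hz
        rw [coe_mul_of_left_le_normalizer_right _ _ ?_] at h1
        · obtain ⟨x, hx, e, he, rfl⟩ := Set.mem_mul.mp h1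
          have h3 : g * e⁻¹ = e⁻¹ * g := mem_centralizer_iff.1 (inv_mem he.2) g hg.1
          have e1 : x * e * g * (x * e)⁻¹ * g⁻¹ = x * (g * x⁻¹ * g⁻¹) := by
            calc x * e * g * (x * e)⁻¹ * g⁻¹ = x * e * (g * e⁻¹) * x⁻¹ * g⁻¹ := by group
              _ = x * e * (e⁻¹ * g) * x⁻¹ * g⁻¹ := by rw [h3]
              _ = _ := by group
          rw [e1]
          exact mul_mem hx (nH g hg _ (inv_mem hx))
        · intro x hx
          refine centralizer_le_normalizer _ (mem_centralizer_iff.2 fun e he => hZab e he.1 x (hZ₀ hx))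
    exact fun g hg => (hB hg).2
  have hcop : (Nat.card K).Coprime (Nat.card Z) := by
    have hf : Fact (Nat.Prime 2) := ⟨Nat.prime_two⟩
    obtain ⟨n, hn⟩ := IsPGroup.iff_card.1 (S.isPGroup'.to_le (MinSimple.VModule.zc_le (S : Subgroup G)))
    rw [hZ, hn]
    exact Nat.Coprime.pow_right _ (Nat.coprime_two_right.2 hodd)
  have h3 := Cfsg.Agent.Lib.CoprimeAbelian.sup_commutator_eq K Z hZab ((hKA.trans hAN).trans hNZ) hcop
  rw [← h3]
  refine sup_le (fun z hz => ?_) ?_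
  · -- `C_Z(K) = C_Z(A) = 1`
    have hzA : ∀ g ∈ A, g * z = z * g := by
      have h4 : A ≤ centralizer ({z} : Set G) := by
        refine hAK.trans (sup_le (fun g hg => ?_) fun g hg => ?_)
        · rw [mem_centralizer_singleton_iff]
          exact mem_centralizer_iff.1 (zc_cent hz.1) g hg
        · rw [mem_centralizer_singleton_iff]
          exact mem_centralizer_iff.1 hz.2 g hg
      exact fun g hg => mem_centralizer_singleton_iff.1 (h4 hg)
    have fus : ∀ {P : Subgroup G}, (S : Subgroup G) ≤ P →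
        (∀ x ∈ Z₀, ∀ y ∈ Z₀, x ≠ 1 → y ≠ 1 → ∃ g ∈ P, g * x * g⁻¹ = y) →
        ∀ x ∈ Z₀, ∀ y ∈ Z₀, x ≠ 1 → y ≠ 1 → ∃ g ∈ ((P ⊓ NS : Subgroup G) : Set G), g * x * g⁻¹ = y := by
      intro P hSP hP x hx y hy hx1 hy1
      obtain ⟨g, hg, e⟩ := hP x hx y hy hx1 hy1
      exact burnside_in S hSP (hZ₀ hx) (hZ₀ hy) hg e
    have hzP : z ∈ centralizer (P : Set G) := by
      have h1 : z ∈ ((Z₀ ⊔ (Z ⊓ centralizer (P : Set G)) : Subgroup G) : Set G) := hZE hz.1
      rw [coe_mul_of_left_le_normalizer_right Z₀ (Z ⊓ centralizer (P : Set G)) (fun x hx => centralizer_le_normalizer _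
        (mem_centralizer_iff.2 fun e he => hZab e he.1 x (hZ₀ hx)))] at h1
      obtain ⟨x, hx, e, he, rfl⟩ := Set.mem_mul.mp h1
      have h5 := mem_of_fixed (A := ((P ⊓ NS : Subgroup G) : Set G)) h2 (fus hSP hP)
        (fun g hg e he => mem_centralizer_iff.1 he g hg.1) (E := centralizer (P : Set G)) hx he.2
        (fun g hg => hzA g (mem_sup_left hg))
      rw [h5, one_mul]
      exact he.2
    have hzH : z ∈ centralizer (H : Set G) := by
      have h1 : z ∈ ((Z₀ ⊔ (Z ⊓ centralizer (H : Set G)) : Subgroup G) : Set G) := hZF hz.1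
      rw [coe_mul_of_left_le_normalizer_right Z₀ (Z ⊓ centralizer (H : Set G)) (fun x hx => centralizer_le_normalizer _
        (mem_centralizer_iff.2 fun e he => hZab e he.1 x (hZ₀ hx)))] at h1
      obtain ⟨x, hx, e, he, rfl⟩ := Set.mem_mul.mp h1
      have h5 := mem_of_fixed (A := ((H ⊓ NS : Subgroup G) : Set G)) h2 (fus hSH hH)
        (fun g hg e he => mem_centralizer_iff.1 he g hg.1) (E := centralizer (H : Set G)) hx he.2
        (fun g hg => hzA g (mem_sup_right hg))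
      rw [h5, one_mul]
      exact he.2
    rw [hEF z hz.1 hzP hzH]
    exact one_mem _
  · rw [commutator_le]
    intro z hz k hk
    rw [commutatorElement_def]
    exact key k (hKA hk) z hz

end Cfsg.Agent.Omega.NOThreeL.RBig.BigZ

end

-- merged: Cfsg.Agent.Mrg.Omega.NOThreeL.RSplit.FrameOf
section

section


/-!
# NO-3L, box R, `q > 2`, split (helper797 #19602 (7)): the abstract frame of #19087 for one component

For a component `Comp T Ax R A N U` (`RSplit/Hull.lean`) : 162's `Frame X Pt VV` (`RBig/Pts.lean`) on `M := ↥U`,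
`Γ := Gm U = (AddMonoid.End ↥U)ˣ`, `X := Xx` = the image of the stabiliser `St` of `A` and `U`, `Pt := Ptt` = the centres
`c • R i` (`c • Ax i ∈ A`), `VV p := Vv p` = the group generated by the images of the `c T_i c⁻¹` with centre `p`.
Extra inputs: `N = ⨆ g ∈ A, TT g` and `free`.
-/

set_option autoImplicit false

namespace Cfsg.Agent.Omega.NOThreeL.RSplit.FrameOf

open scoped Pointwise
open Cfsg.Agent.Omega.NOThreeL.ThmAx (Full IsAx TT YY Adj mem_smul smul_eq_of YY_smul YY_smul_eq adj_smul IsAx.smul)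
open Cfsg.Agent.Omega.NOThreeL.RSplit.Root (Rt)
open Cfsg.Agent.Omega.NOThreeL.RSplit.Hull (Comp hull mem_of_fix)
open Cfsg.Agent.Omega.NOThreeL.RBig.Pts (Frame Mv OneAx Out)

variable {H M : Type*} [Group H] [AddCommGroup M] [DistribMulAction H M]

variable (H) in
/-- The stabiliser of the component. -/
def St (A : Set (AddSubgroup M)) (U : AddSubgroup M) : Subgroup H where
  carrier := {h | ((∀ g ∈ A, h • g ∈ A) ∧ ∀ g ∈ A, h⁻¹ • g ∈ A) ∧ (∀ u ∈ U, h • u ∈ U) ∧ ∀ u ∈ U, h⁻¹ • u ∈ U}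
  one_mem' := by
    refine ⟨⟨fun g hg => ?_, fun g hg => ?_⟩, fun u hu => ?_, fun u hu => ?_⟩
    · rwa [one_smul]
    · rwa [inv_one, one_smul]
    · rwa [one_smul]
    · rwa [inv_one, one_smul]
  mul_mem' := by
    rintro a b ⟨⟨h1, h2⟩, h3, h4⟩ ⟨⟨k1, k2⟩, k3, k4⟩
    refine ⟨⟨fun g hg => ?_, fun g hg => ?_⟩, fun u hu => ?_, fun u hu => ?_⟩
    · rw [mul_smul]; exact h1 _ (k1 _ hg)
    · rw [mul_inv_rev, mul_smul]; exact k2 _ (h2 _ hg)
    · rw [mul_smul]; exact h3 _ (k3 _ hu)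
    · rw [mul_inv_rev, mul_smul]; exact k4 _ (h4 _ hu)
  inv_mem' := by
    rintro a ⟨⟨h1, h2⟩, h3, h4⟩
    exact ⟨⟨h2, by rwa [inv_inv]⟩, h4, by rwa [inv_inv]⟩

/-- The automorphisms of `U`. -/
def Gm (U : AddSubgroup M) : Type _ := (AddMonoid.End ↥U)ˣ

instance (U : AddSubgroup M) : Group (Gm U) := inferInstanceAs (Group (AddMonoid.End ↥U)ˣ)

instance (U : AddSubgroup M) : DistribMulAction (Gm U) ↥U :=
  inferInstanceAs (DistribMulAction (AddMonoid.End ↥U)ˣ ↥U)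

/-- The action of the stabiliser on `U`. -/
def act (A : Set (AddSubgroup M)) (U : AddSubgroup M) : ↥(St H A U) →* Gm U :=
  (MonoidHom.toHomUnits : (↥(St H A U) →* AddMonoid.End ↥U) → (↥(St H A U) →* (AddMonoid.End ↥U)ˣ))
    { toFun := fun h =>
        ({ toFun := fun u => ⟨(h : H) • (u : M), h.2.2.1 u u.2⟩
           map_zero' := Subtype.ext (smul_zero _)
           map_add' := fun u v => Subtype.ext (smul_add _ _ _) } : ↥U →+ ↥U)
      map_one' := by
        ext u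
        exact one_smul _ _
      map_mul' := fun a b => by
        ext u
        exact mul_smul _ _ _ }

theorem act_smul {A : Set (AddSubgroup M)} {U : AddSubgroup M} (h : ↥(St H A U)) (u : ↥U) :
    ((act A U h • u : ↥U) : M) = (h : H) • (u : M) := rfl

theorem act_inv_smul {A : Set (AddSubgroup M)} {U : AddSubgroup M} (h : ↥(St H A U)) (u : ↥U) :
    (((act A U h)⁻¹ • u : ↥U) : M) = (h : H)⁻¹ • (u : M) := by
  rw [← map_inv, act_smul]
  rfl

theorem gm_ext {U : AddSubgroup M} {a b : Gm U} (h : ∀ m : ↥U, a • m = b • m) : a = b :=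
  Units.ext (AddMonoidHom.ext h)

theorem act_smul_sub {A : Set (AddSubgroup M)} {U : AddSubgroup M} (h : ↥(St H A U)) (P : AddSubgroup M) :
    act A U h • P.addSubgroupOf U = ((h : H) • P).addSubgroupOf U := by
  ext u
  rw [AddSubgroup.mem_pointwise_smul_iff_inv_smul_mem, AddSubgroup.mem_addSubgroupOf, act_inv_smul,
    AddSubgroup.mem_addSubgroupOf, mem_smul]

section defs

variable {ι : Type*} (T : ι → Subgroup H) (Ax R : ι → AddSubgroup M) (A : Set (AddSubgroup M)) (U : AddSubgroup M)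

variable (H) in
/-- The points. -/
def Ptt : Set (AddSubgroup ↥U) := {p | ∃ (c : H) (i : ι), c • Ax i ∈ A ∧ p = (c • R i).addSubgroupOf U}

/-- The generators of `Vv p`. -/
def Gn (p : AddSubgroup ↥U) : Set (Gm U) :=
  {a | ∃ (h : ↥(St H A U)) (c : H) (i : ι), c • Ax i ∈ A ∧ (c • R i).addSubgroupOf U = p ∧
    ∃ t ∈ T i, (h : H) = c * t * c⁻¹ ∧ a = act A U h}

/-- The group of a point. -/
def Vv (p : AddSubgroup ↥U) : Subgroup (Gm U) := Subgroup.closure (Gn T Ax R A U p)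

variable (H) in
/-- The image of the stabiliser. -/
def Xx : Subgroup (Gm U) := (act (H := H) A U).range

end defs

variable {ι : Type*} {T : ι → Subgroup H} {Ax R : ι → AddSubgroup M} {A : Set (AddSubgroup M)}
  {N : Subgroup H} {U : AddSubgroup M}

theorem le_of_root {c : H} {i : ι} (C : Comp T Ax R A N U) (hc : c • Ax i ∈ A) {x : M}
    (hx : x ∈ c • R i) : ∃ hU : x ∈ U, (⟨x, hU⟩ : ↥U) ∈ (c • R i).addSubgroupOf U :=
  ⟨C.root c i hc hx, hx⟩

theorem st_of_mem (C : Comp T Ax R A N U) {n : H} (hn : n ∈ N) : n ∈ St H A U :=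
  ⟨⟨fun g hg => C.inv n hn g hg, fun g hg => C.inv n⁻¹ (inv_mem hn) g hg⟩, fun u hu => C.uinv n hn u hu,
    fun u hu => C.uinv n⁻¹ (inv_mem hn) u hu⟩

theorem gen_mem (hN : ⨆ g ∈ A, TT T Ax g ≤ N) {c : H} {i : ι} (hc : c • Ax i ∈ A) {t : H} (ht : t ∈ T i) :
    c * t * c⁻¹ ∈ N :=
  hN ((le_iSup₂ (f := fun g (_ : g ∈ A) => TT T Ax g) (c • Ax i) hc)
    (Subgroup.subset_closure ⟨c, i, rfl, t, ht, rfl⟩))

/-- elements of `Vv p` -/
theorem vv_spec (C : Comp T Ax R A N U) {p : AddSubgroup ↥U} {v : Gm U} (hv : v ∈ Vv T Ax R A U p) :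
    (∀ x ∈ p, v • x = x) ∧ ∀ m : ↥U, v • m - m ∈ p := by
  refine Subgroup.closure_induction (p := fun v _ => (∀ x ∈ p, v • x = x) ∧ ∀ m : ↥U, v • m - m ∈ p)
    ?_ ?_ ?_ ?_ hv
  · rintro a ⟨h, c, i, hc, rfl, t, ht, hh, rfl⟩
    constructor
    · intro x hx
      apply Subtype.ext
      rw [act_smul, hh]
      have h1 : (x : M) ∈ c • R i := hx
      have h2 : c⁻¹ • (x : M) ∈ Ax i := C.le i i (mem_smul.1 h1)
      rw [mul_smul, mul_smul, C.fix i t ht _ h2, smul_inv_smul]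
    · intro m
      change ((act A U h • m - m : ↥U) : M) ∈ c • R i
      rw [AddSubgroup.coe_sub, act_smul, hh]
      have h2 : (c * t * c⁻¹) • (m : M) - m = c • (t • (c⁻¹ • (m : M)) - c⁻¹ • (m : M)) := by
        rw [mul_smul, mul_smul, smul_sub, smul_inv_smul]
      rw [h2]
      exact AddSubgroup.smul_mem_pointwise_smul _ _ _ (C.quad i t ht _)
  · exact ⟨fun x _ => one_smul _ _, fun m => by rw [one_smul, sub_self]; exact zero_mem _⟩
  · rintro a b _ _ ⟨ha, ha'⟩ ⟨hb, hb'⟩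
    refine ⟨fun x hx => by rw [mul_smul, hb x hx, ha x hx], fun m => ?_⟩
    have h1 : (a * b) • m - m = (a • b • m - b • m) + (b • m - m) := by rw [mul_smul]; abel
    rw [h1]
    exact add_mem (ha' _) (hb' _)
  · rintro a _ ⟨ha, ha'⟩
    refine ⟨fun x hx => by rw [inv_smul_eq_iff, ha x hx], fun m => ?_⟩
    have h1 : a⁻¹ • m - m = -(a • (a⁻¹ • m) - a⁻¹ • m) := by rw [smul_inv_smul]; abel
    rw [h1]
    exact neg_mem (ha' _)

theorem vv_le (C : Comp T Ax R A N U) (p : AddSubgroup ↥U) : Vv T Ax R A U p ≤ Xx H A U := by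
  refine (Subgroup.closure_le _).2 ?_
  rintro a ⟨h, c, i, hc, -, t, ht, hh, rfl⟩
  exact ⟨h, rfl⟩

theorem vv_conj {g : Gm U} (hg : g ∈ Xx H A U) {p : AddSubgroup ↥U} {v : Gm U}
    (hv : v ∈ Vv T Ax R A U p) : g * v * g⁻¹ ∈ Vv T Ax R A U (g • p) := by
  obtain ⟨k, rfl⟩ := hg
  have h1 : Vv T Ax R A U p ≤ (Vv T Ax R A U (act A U k • p)).comap (MulAut.conj (act A U k)).toMonoidHom := by
    refine (Subgroup.closure_le _).2 ?_
    rintro a ⟨h, c, i, hc, rfl, t, ht, hh, rfl⟩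
    refine Subgroup.subset_closure ⟨k * h * k⁻¹, k * c, i, ?_, ?_, t, ht, ?_, ?_⟩
    · rw [mul_smul]
      exact k.2.1.1 _ hc
    · rw [act_smul_sub, mul_smul]
    · rw [Subgroup.coe_mul, Subgroup.coe_mul, hh, Subgroup.coe_inv]
      group
    · rw [map_mul, map_mul, map_inv]
      rfl
  exact h1 hv

/-- **162's frame for one component.** -/
theorem frame [Finite M] (C : Comp T Ax R A N U) (hA : A.Nonempty) (hN : N = ⨆ g ∈ A, TT T Ax g)
    (free : ∀ i, ∀ t ∈ T i, ∀ u : M, u ∉ Ax i → t • u = u → ∀ m : M, t • m = m) :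
    Frame (Xx H A U) (Ptt H Ax R A U) (Vv T Ax R A U) where
  two := fun m => Subtype.ext (C.char2 m)
  nonempty := by
    obtain ⟨g, hg⟩ := hA
    obtain ⟨c, i, rfl⟩ := C.isax g hg
    exact ⟨_, c, i, hg, rfl⟩
  ne := by
    rintro p ⟨c, i, hc, rfl⟩ hbot
    obtain ⟨r, hr, hr0⟩ := (AddSubgroup.bot_or_exists_ne_zero (R i)).resolve_left (C.rne i)
    have h1 : c • r ∈ c • R i := AddSubgroup.smul_mem_pointwise_smul _ _ _ hr
    obtain ⟨hU, h2⟩ := le_of_root C hc h1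
    rw [hbot, AddSubgroup.mem_bot] at h2
    exact hr0 ((smul_eq_zero_iff_eq c).1 (congrArg Subtype.val h2))
  span := by
    rw [eq_top_iff]
    rintro x -
    obtain ⟨g, hg⟩ := hA
    obtain ⟨c, i, rfl⟩ := C.isax g hg
    obtain ⟨n, hn, hnc, hx⟩ := C.exists_root hg x.2
    exact (le_sSup (show ((n * c) • R i).addSubgroupOf U ∈ Ptt H Ax R A U from ⟨n * c, i, hnc, rfl⟩)) hx
  inv := by
    rintro g ⟨k, rfl⟩ p ⟨c, i, hc, rfl⟩
    refine ⟨k * c, i, ?_, ?_⟩
    · rw [mul_smul]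
      exact k.2.1.1 _ hc
    · rw [act_smul_sub, mul_smul]
  conj := fun g hg p _ v hv => vv_conj hg hv
  le := fun p _ => vv_le C p
  trans := by
    rintro p ⟨c, i, hc, rfl⟩ r ⟨d, j, hd, rfl⟩
    obtain ⟨x, hx, hx0⟩ := (AddSubgroup.bot_or_exists_ne_zero (R i)).resolve_left (C.rne i)
    obtain ⟨y, hy, hy0⟩ := (AddSubgroup.bot_or_exists_ne_zero (R j)).resolve_left (C.rne j)
    have hx1 : c • x ∈ c • R i := AddSubgroup.smul_mem_pointwise_smul _ _ _ hx
    have hy1 : d • y ∈ d • R j := AddSubgroup.smul_mem_pointwise_smul _ _ _ hy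
    have hx2 : c • x ≠ 0 := fun h => hx0 ((smul_eq_zero_iff_eq c).1 h)
    have hy2 : d • y ≠ 0 := fun h => hy0 ((smul_eq_zero_iff_eq d).1 h)
    obtain ⟨n, hn, hnx⟩ := C.tr _ (C.root c i hc hx1) hx2 _ (C.root d j hd hy1) hy2
    have hnc : (n * c) • Ax i ∈ A := by
      rw [mul_smul]
      exact C.inv n hn _ hc
    have h1 : (n * c) • R i = d • R j := by
      refine C.root_eq hnc hd (x := d • y) ?_ hy1 hy2
      rw [mul_smul, ← hnx]
      exact AddSubgroup.smul_mem_pointwise_smul _ _ _ hx1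
    have hnS := st_of_mem C hn
    refine ⟨act A U ⟨n, hnS⟩, ?_, ?_⟩
    · -- `n` is a product of generators
      have key : N ≤ ((⨆ s ∈ Ptt H Ax R A U, Vv T Ax R A U s).comap (act A U)).map (St H A U).subtype := by
        rw [hN]
        refine iSup₂_le fun g hg => (Subgroup.closure_le _).2 ?_
        rintro a ⟨c', i', rfl, t, ht, rfl⟩
        have h3 : c' * t * c'⁻¹ ∈ St H A U := st_of_mem C (gen_mem hN.ge hg ht)
        refine ⟨⟨c' * t * c'⁻¹, h3⟩, ?_, rfl⟩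
        refine (le_iSup₂ (f := fun s (_ : s ∈ Ptt H Ax R A U) => Vv T Ax R A U s)
          ((c' • R i').addSubgroupOf U) ⟨c', i', hg, rfl⟩) ?_
        exact Subgroup.subset_closure ⟨⟨c' * t * c'⁻¹, h3⟩, c', i', hg, rfl, t, ht, rfl, rfl⟩
      obtain ⟨n', hn', hn''⟩ := key hn
      have h4 : n' = ⟨n, hnS⟩ := Subtype.ext hn''
      rw [← h4]
      exact hn'
    · rw [act_smul_sub]
      change (d • R j).addSubgroupOf U = (n • c • R i).addSubgroupOf U
      rw [← mul_smul, h1]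
  faith := by
    intro p _ v _ h
    exact gm_ext fun m => by rw [h m, one_smul]
  fixed := by
    intro m h
    by_contra hm
    have hm' : (m : M) ≠ 0 := fun h0 => hm (Subtype.ext h0)
    obtain ⟨g, hg, hmg⟩ := C.sep m m.2 hm'
    refine hmg (mem_of_fix C.toRt C.rne (C.isax g hg) fun t ht => ?_)
    -- `TT g` acts through the `Vv p`
    refine Subgroup.closure_induction (p := fun t _ => t • (m : M) = m) ?_ (one_smul _ _)
      (fun a b _ _ ha hb => by rw [mul_smul, hb, ha]) (fun a _ ha => by rw [inv_smul_eq_iff, ha]) ht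
    rintro a ⟨c', i', rfl, t, ht, rfl⟩
    have h3 : c' * t * c'⁻¹ ∈ St H A U := st_of_mem C (gen_mem hN.ge hg ht)
    have h4 := h ((c' • R i').addSubgroupOf U) ⟨c', i', hg, rfl⟩ (act A U ⟨c' * t * c'⁻¹, h3⟩)
      (Subgroup.subset_closure ⟨⟨c' * t * c'⁻¹, h3⟩, c', i', hg, rfl, t, ht, rfl, rfl⟩)
    exact congrArg Subtype.val h4
  map := by
    intro p _ v hv m
    have h1 := (vv_spec C hv).2 m
    have h2 : v • m + m = v • m - m := by
      rw [sub_eq_add_neg, neg_eq_of_add_eq_zero_left (show m + m = 0 from Subtype.ext (C.char2 m))]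
    rw [h2]
    exact h1
  triv := fun p _ v hv => (vv_spec C hv).1
  bij := by
    rintro p hp r ⟨d, j, hd, rfl⟩ - v hv
    by_cases hfix : ∀ x ∈ (d • R j).addSubgroupOf U, v • x = x → x = 0
    · exact Or.inr hfix
    push Not at hfix
    obtain ⟨x, hx, hvx, hx0⟩ := hfix
    refine Or.inl fun y hy => ?_
    obtain ⟨c, i, hc, rfl⟩ := hp
    by_cases hpr : c • R i = d • R j
    · refine (vv_spec C hv).1 y ?_
      rw [hpr]
      exact hy
    -- `v` normalises `r`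
    obtain ⟨k, hk⟩ := vv_le C _ hv
    have hkd : ((k : H) * d) • Ax j ∈ A := by
      rw [mul_smul]
      exact k.2.1.1 _ hd
    have hx0' : (x : M) ≠ 0 := fun h => hx0 (Subtype.ext h)
    have h1 : ((k : H) * d) • R j = d • R j := by
      refine C.root_eq hkd hd (x := x) ?_ hx hx0'
      rw [mul_smul, mem_smul]
      have h2 : (k : H)⁻¹ • (x : M) = x := by
        rw [inv_smul_eq_iff]
        have := congrArg Subtype.val hvx
        rw [← hk] at this
        exact this.symm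
      rw [h2]
      exact hx
    have h2 : v • y ∈ (d • R j).addSubgroupOf U := by
      rw [← hk]
      change (k : H) • (y : M) ∈ d • R j
      rw [← h1, mul_smul]
      exact AddSubgroup.smul_mem_pointwise_smul _ _ _ hy
    have h3 : v • y - y ∈ (d • R j).addSubgroupOf U := sub_mem h2 hy
    have h4 := (vv_spec C hv).2 y
    by_contra hne
    have h5 : v • y - y ≠ 0 := fun h => hne (sub_eq_zero.1 h)
    exact hpr (C.root_eq hc hd (x := ((v • y - y : ↥U) : M)) h4 h3 fun h => h5 (Subtype.ext h))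
  line := by
    rintro p hp r hr ⟨v, hv, x, hx, hne⟩
    -- some generator moves `x`
    have h1 : ∃ a ∈ Gn T Ax R A U p, a • x ≠ x := by
      by_contra hcon
      push Not at hcon
      refine hne (Subgroup.closure_induction (p := fun a _ => a • x = x) hcon (one_smul _ _)
        (fun a b _ _ ha hb => by rw [mul_smul, hb, ha]) (fun a _ ha => by rw [inv_smul_eq_iff, ha]) hv)
    obtain ⟨a, ⟨h, c, i, hc, rfl, t, ht, hh, rfl⟩, hax⟩ := h1
    let Q : Subgroup (Gm U) := (((T i).map (MulAut.conj c).toMonoidHom).subgroupOf (St H A U)).map (act A U)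
    have hQ : ∀ b ∈ Q, ∃ (k : ↥(St H A U)) (t : H), t ∈ T i ∧ (k : H) = c * t * c⁻¹ ∧ b = act A U k := by
      rintro b ⟨k, hk, rfl⟩
      obtain ⟨t, ht, hk'⟩ := hk
      exact ⟨k, t, ht, hk'.symm, rfl⟩
    have hQ' : ∀ t ∈ T i, ∃ k : ↥(St H A U), (k : H) = c * t * c⁻¹ ∧ act A U k ∈ Q := by
      intro t ht
      refine ⟨⟨c * t * c⁻¹, st_of_mem C (gen_mem hN.ge hc ht)⟩, rfl, ⟨_, ⟨t, ht, rfl⟩, rfl⟩⟩
    refine ⟨Q, ?_, ⟨act A U h, ?_, x, hx, hax⟩, fun u => ?_⟩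
    · intro b hb
      obtain ⟨k, t', ht', hk, rfl⟩ := hQ b hb
      exact Subgroup.subset_closure ⟨k, c, i, hc, rfl, t', ht', hk, rfl⟩
    · obtain ⟨k, hk, hkQ⟩ := hQ' t ht
      have : k = h := Subtype.ext (hk.trans hh.symm)
      rwa [this] at hkQ
    · by_cases hu : c⁻¹ • (u : M) ∈ Ax i
      · left
        intro b hb
        obtain ⟨k, t', ht', hk, rfl⟩ := hQ b hb
        apply Subtype.ext
        rw [act_smul, hk, mul_smul, mul_smul, C.fix i t' ht' _ hu, smul_inv_smul]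
      · right
        constructor
        · intro y hy
          have hy' : c⁻¹ • (y : M) ∈ R i := mem_smul.1 hy
          obtain ⟨t', ht', htu⟩ := C.full i _ hu _ hy'
          obtain ⟨k, hk, hkQ⟩ := hQ' t' ht'
          refine ⟨act A U k, hkQ, Subtype.ext ?_⟩
          rw [act_smul, hk, mul_smul, mul_smul, htu, smul_add, smul_inv_smul, smul_inv_smul]
          rfl
        · intro b hb hbu
          obtain ⟨k, t', ht', hk, rfl⟩ := hQ b hb
          have h2 : (k : H) • (u : M) = u := congrArg Subtype.val hbu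
          rw [hk, mul_smul, mul_smul, smul_eq_iff_eq_inv_smul] at h2
          have h3 := free i t' ht' _ hu h2
          refine gm_ext fun m => Subtype.ext ?_
          rw [one_smul, act_smul, hk, mul_smul, mul_smul, h3, smul_inv_smul]

/-- **The dichotomy for one component.** -/
theorem dichotomy [Finite M] (C : Comp T Ax R A N U) (hA : A.Nonempty) (hN : N = ⨆ g ∈ A, TT T Ax g)
    (free : ∀ i, ∀ t ∈ T i, ∀ u : M, u ∉ Ax i → t • u = u → ∀ m : M, t • m = m) :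
    (∀ e ∈ Ptt H Ax R A U, ∀ p ∈ Ptt H Ax R A U, ¬ Mv (Vv T Ax R A U) e p → e = p) ∨
      (OneAx (Ptt H Ax R A U) (Vv T Ax R A U) ∧
        ∀ e ∈ Ptt H Ax R A U, Out (Ptt H Ax R A U) (Vv T Ax R A U) e) :=
  (frame C hA hN free).dichotomy

end Cfsg.Agent.Omega.NOThreeL.RSplit.FrameOf

end

section


/-!
# NO-3L, box R, `q > 2`, split (helper797 #19602 (7)(b), with helper602's REPAIR 2): (Q) for `k ≥ 1`, abstract

* `Frame.fixe_of` : one axis; if `B` is quadratic, normalised by `VV e`, fixes `e` and one `0 ≠ x ∈ e`, then `B` fixes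
  `e` pointwise;
* `comp_quad` : one component; every `b ∈ B` acts on `U` as an element of `T i`;
* `QK.fixU` : `B` fixes all the `U i`; **`QK.main`** : every `b ∈ B` acts on `M` as an element of `⨆ i, T i`.
-/

set_option autoImplicit false

namespace Cfsg.Agent.Omega.NOThreeL.RSplit.QuadAll

open scoped Pointwise
open Cfsg.Agent.Omega.NOThreeL.ThmAx (Full IsAx TT YY Adj mem_smul smul_eq_of YY_smul YY_smul_eq adj_smul IsAx.smul)
open Cfsg.Agent.Omega.NOThreeL.RSplit.Root (Rt)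
open Cfsg.Agent.Omega.NOThreeL.RSplit.Hull (Comp hull mem_of_fix)
open Cfsg.Agent.Omega.NOThreeL.RSplit.FrameOf
open Cfsg.Agent.Omega.NOThreeL.RBig.Pts (Frame Mv OneAx Out dd dd_apply Quad not_mv)

section frame

variable {Γ M : Type*} [Group Γ] [AddCommGroup M] [DistribMulAction Γ M]
variable {X : Subgroup Γ} {Pt : Set (AddSubgroup M)} {VV : AddSubgroup M → Subgroup Γ} {e : AddSubgroup M}

/-- `B` centralises `e` (REPAIR 2). -/
theorem fixe_of (F : Frame X Pt VV) [Finite M] (h1 : OneAx Pt VV) (he : e ∈ Pt) {B : Subgroup Γ} (hB : B ≤ X)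
    (quad : ∀ b ∈ B, ∀ b' ∈ B, ∀ m : M, b • (b' • m + m) = b' • m + m)
    (norm : ∀ a ∈ VV e, ∀ b ∈ B, a * b * a⁻¹ ∈ B) (hfix : ∀ b ∈ B, b • e = e) {x : M} (hx : x ∈ e)
    (hx0 : x ≠ 0) (hbx : ∀ b ∈ B, b • x = x) : ∀ b ∈ B, ∀ y ∈ e, b • y = y := by
  intro b hb y hy
  obtain ⟨s, hs, hes⟩ := F.exists_mv he
  by_cases hc : ∀ v ∈ VV e, b * v * b⁻¹ = v
  · obtain ⟨v0, hv0, hv01⟩ := F.exists_ne_one he
    obtain ⟨u, hu, hvu⟩ := F.surj h1 he hs hes hv0 hv01 x hx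
    have h2 : ¬ ∀ a ∈ VV e, a • u = u := fun h => hx0 (by rw [← hvu, F.dd_eq_zero_iff]; exact h v0 hv0)
    obtain ⟨vy, hvy, hvyu⟩ := ((F.dich h1 he u).resolve_left h2).1 y hy
    have hcomm : ∀ v ∈ VV e, dd v (b • u) = b • dd v u := by
      intro v hv
      have h3 : b * v = v * b := mul_inv_eq_iff_eq_mul.1 (hc v hv)
      rw [dd_apply, dd_apply, smul_add, ← mul_smul, ← mul_smul, h3]
    have h4 : v0 • (u + b • u) = u + b • u := by
      rw [← F.dd_eq_zero_iff, map_add, hcomm v0 hv0, hvu, hbx b hb, F.two]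
    have h5 := F.fix_all h1 he hv0 hv01 h4 vy hvy
    rw [← F.dd_eq_zero_iff, map_add, hcomm vy hvy] at h5
    have h6 : dd vy u = y := by
      rw [dd_apply, hvyu, add_comm u y, add_assoc, F.two, add_zero]
    rw [h6] at h5
    exact (F.eq_of_add h5).symm
  · push Not at hc
    obtain ⟨v, hv, hne⟩ := hc
    have hc1 : v * (b * v⁻¹ * b⁻¹) ∈ VV e := by
      refine mul_mem hv ?_
      have := F.conj b (hB hb) e he v⁻¹ (inv_mem hv)
      rwa [hfix b hb] at this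
    have hc2 : v * (b * v⁻¹ * b⁻¹) ∈ B := by
      have h2 : v * (b * v⁻¹ * b⁻¹) = (v * b * v⁻¹) * b⁻¹ := by group
      rw [h2]
      exact mul_mem (norm v hv b hb) (inv_mem hb)
    have hc3 : v * (b * v⁻¹ * b⁻¹) ≠ 1 := by
      intro h
      apply hne
      have h2 := mul_eq_one_iff_inv_eq.1 h
      have h3 := congrArg (fun w => w⁻¹) h2
      simp only [inv_inv, mul_inv_rev] at h3
      rw [← mul_assoc] at h3
      exact h3.symm
    obtain ⟨u, hu, hcu⟩ := F.surj h1 he hs hes hc1 hc3 y hy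
    rw [← hcu, dd_apply]
    exact quad b hb _ hc2 u

end frame

variable {H M : Type*} [Group H] [AddCommGroup M] [DistribMulAction H M]

section comp

variable {ι : Type*} {T : ι → Subgroup H} {Ax R : ι → AddSubgroup M} {A : Set (AddSubgroup M)}
  {N : Subgroup H} {U : AddSubgroup M}

/-- Some vector of `U` is outside of `Ax i`. -/
theorem exists_not_mem [Finite M] (C : Comp T Ax R A N U) {i : ι} (hi : Ax i ∈ A) : ∃ u ∈ U, u ∉ Ax i := by
  obtain ⟨r, hr, hr0⟩ := (AddSubgroup.bot_or_exists_ne_zero (R i)).resolve_left (C.rne i)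
  have h1 : (1 : H) • Ax i ∈ A := by rwa [one_smul]
  have hrU : r ∈ U := C.root 1 i h1 (by rwa [one_smul])
  obtain ⟨g, hg, hrg⟩ := C.sep r hrU hr0
  have h2 : Adj H Ax R (Ax i) g := fun h => hrg (h (Rt.R_le_YY i hr))
  have h3 := C.adj_symm (Rt.isAx Ax i) (C.isax g hg) h2
  by_contra hcon
  push Not at hcon
  apply h3
  unfold YY
  rw [AddSubgroup.closure_le]
  rintro m ⟨c, j, hgj, y, hy, rfl⟩
  refine hcon _ (C.root c j (by rw [hgj]; exact hg) (AddSubgroup.smul_mem_pointwise_smul _ _ _ hy))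

/-- **One component.** -/
theorem comp_quad [Finite M] (C : Comp T Ax R A N U) {i : ι} (hi : Ax i ∈ A) (hN : N = ⨆ g ∈ A, TT T Ax g)
    (free : ∀ i, ∀ t ∈ T i, ∀ u : M, u ∉ Ax i → t • u = u → ∀ m : M, t • m = m)
    (one : OneAx (Ptt H Ax R A U) (Vv T Ax R A U)) {B : Subgroup H} (hB : B ≤ St H A U)
    (quad : ∀ b ∈ B, ∀ b' ∈ B, ∀ m : M, b • (b' • m + m) = b' • m + m)
    (norm : ∀ (c : H) (j : ι), c • Ax j ∈ A → (∀ t ∈ T j, ∀ x ∈ R i, (c * t * c⁻¹) • x = x) →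
      ∀ t ∈ T j, ∀ b ∈ B, c * t * c⁻¹ * b * (c * t * c⁻¹)⁻¹ ∈ B)
    {z : M} (hz : z ∈ R i) (hz0 : z ≠ 0) (hbz : ∀ b ∈ B, b • z = z) :
    ∀ b ∈ B, ∃ t ∈ T i, ∀ m ∈ U, b • m = t • m := by
  have F := frame C ⟨_, hi⟩ hN free
  have h1i : (1 : H) • Ax i ∈ A := by rwa [one_smul]
  set e : AddSubgroup ↥U := (R i).addSubgroupOf U with hedef
  have he : e ∈ Ptt H Ax R A U := ⟨1, i, h1i, by rw [one_smul]⟩
  have hRU : R i ≤ U := by
    have := C.root 1 i h1i
    rwa [one_smul] at this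
  set B' : Subgroup (Gm U) := (B.subgroupOf (St H A U)).map (act A U) with hB'
  have hmem : ∀ b' ∈ B', ∃ k : ↥(St H A U), (k : H) ∈ B ∧ act A U k = b' := by
    rintro b' ⟨k, hk, rfl⟩
    exact ⟨k, hk, rfl⟩
  have hquad' : ∀ b ∈ B', ∀ b' ∈ B', ∀ m : ↥U, b • (b' • m + m) = b' • m + m := by
    intro b hb b' hb' m
    obtain ⟨k, hk, rfl⟩ := hmem b hb
    obtain ⟨k', hk', rfl⟩ := hmem b' hb'
    exact Subtype.ext (quad _ hk _ hk' m)
  have hnorm' : ∀ t ∈ Ptt H Ax R A U, ¬ Mv (Vv T Ax R A U) t e → ∀ a ∈ Vv T Ax R A U t, ∀ b ∈ B',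
      a * b * a⁻¹ ∈ B' := by
    intro t ht hte a ha
    have key : Vv T Ax R A U t ≤ Subgroup.normalizer (B' : Set (Gm U)) := by
      refine (Subgroup.closure_le _).2 ?_
      rintro a ⟨h, c, j, hc, hct, t', ht', hh, rfl⟩
      -- the root group `c T_j c⁻¹` fixes `R i`
      have hfixR : ∀ t ∈ T j, ∀ x ∈ R i, (c * t * c⁻¹) • x = x := by
        intro t1 ht1 x hx
        have h3 : c * t1 * c⁻¹ ∈ St H A U := st_of_mem C (gen_mem hN.ge hc ht1)
        have h4 := not_mv hte (v := act A U ⟨c * t1 * c⁻¹, h3⟩)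
          (Subgroup.subset_closure ⟨⟨c * t1 * c⁻¹, h3⟩, c, j, hc, hct, t1, ht1, rfl, rfl⟩)
          (x := ⟨x, hRU hx⟩) hx
        exact congrArg Subtype.val h4
      have h5 := norm c j hc hfixR
      have key1 : ∀ t1 ∈ T j, ∀ (k : ↥(St H A U)), (k : H) = c * t1 * c⁻¹ → ∀ b' ∈ B',
          act A U k * b' * (act A U k)⁻¹ ∈ B' := by
        intro t1 ht1 k hk b' hb'
        obtain ⟨k', hk', rfl⟩ := hmem b' hb'
        refine ⟨k * k' * k⁻¹, ?_, by rw [map_mul, map_mul, map_inv]⟩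
        change ((k * k' * k⁻¹ : ↥(St H A U)) : H) ∈ B
        have h6 := h5 t1 ht1 k' hk'
        rw [← hk] at h6
        exact h6
      rw [SetLike.mem_coe, Subgroup.mem_normalizer_iff]
      intro b'
      refine ⟨fun hb' => key1 t' ht' h hh b' hb', fun hb' => ?_⟩
      have h7 := key1 t'⁻¹ (inv_mem ht') h⁻¹ (by rw [Subgroup.coe_inv, hh]; group) _ hb'
      rw [map_inv] at h7
      convert h7 using 1
      group
    exact fun b hb => (Subgroup.mem_normalizer_iff.1 (key ha) b).1 hb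
  have hle' : B' ≤ Xx H A U := by
    intro b hb
    obtain ⟨k, -, rfl⟩ := hmem b hb
    exact ⟨k, rfl⟩
  have hfixe : ∀ b ∈ B', b • e = e := by
    intro b hb
    obtain ⟨k, hk, rfl⟩ := hmem b hb
    rw [hedef, act_smul_sub]
    have h2 : (k : H) • Ax i ∈ A := k.2.1.1 _ hi
    have h3 : (k : H) • R i = (1 : H) • R i := by
      refine C.root_eq h2 h1i (x := z) ?_ (by rwa [one_smul]) hz0
      rw [mem_smul, show (k : H)⁻¹ • z = z from hbz _ (inv_mem hk)]
      exact hz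
    rw [h3, one_smul]
  have Q : Quad (Xx H A U) (Ptt H Ax R A U) (Vv T Ax R A U) e B' :=
    { le := hle'
      quad := hquad'
      norm := hnorm'
      fixe := by
        refine fixe_of F one he hle' hquad' (hnorm' e he (F.mv_irrefl he)) hfixe (x := ⟨z, hRU hz⟩) hz ?_ ?_
        · exact fun h => hz0 (congrArg Subtype.val h)
        · intro b hb
          obtain ⟨k, hk, rfl⟩ := hmem b hb
          exact Subtype.ext (hbz _ hk) }
  intro b hb
  have hbS := hB hb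
  have hbB' : act A U ⟨b, hbS⟩ ∈ B' := ⟨⟨b, hbS⟩, hb, rfl⟩
  obtain ⟨v, hv, hvb⟩ := Q.main (F.out one he) F he hbB'
  -- `v` is the image of an element of `T i`
  obtain ⟨u, hu, hui⟩ := exists_not_mem C hi
  have h2 : dd v (⟨u, hu⟩ : ↥U) ∈ e := F.dd_mem he hv _
  obtain ⟨t, ht, htu⟩ := C.full i u hui _ h2
  have h3 : (1 : H) * t * (1 : H)⁻¹ ∈ St H A U := st_of_mem C (gen_mem hN.ge h1i ht)
  have h4 : t ∈ St H A U := by simpa using h3
  have h5 : act A U ⟨t, h4⟩ ∈ Vv T Ax R A U e :=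
    Subgroup.subset_closure ⟨⟨t, h4⟩, 1, i, h1i, by rw [one_smul], t, ht, by simp, rfl⟩
  have h6 : act A U ⟨t, h4⟩ • (⟨u, hu⟩ : ↥U) = v • (⟨u, hu⟩ : ↥U) := by
    rw [F.smul_eq v]
    exact Subtype.ext htu
  have h7 : ((act A U ⟨t, h4⟩)⁻¹ * v) • (⟨u, hu⟩ : ↥U) = ⟨u, hu⟩ := by
    rw [mul_smul, ← h6, inv_smul_smul]
  have h8 : (act A U ⟨t, h4⟩)⁻¹ * v = 1 := by
    rcases F.dich one he (⟨u, hu⟩ : ↥U) with h9 | h9
    · exfalso
      obtain ⟨r, hr, hr0⟩ := (AddSubgroup.bot_or_exists_ne_zero (R i)).resolve_left (C.rne i)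
      obtain ⟨t1, ht1, htu1⟩ := C.full i u hui r hr
      have h3' : (1 : H) * t1 * (1 : H)⁻¹ ∈ St H A U := st_of_mem C (gen_mem hN.ge h1i ht1)
      have h4' : t1 ∈ St H A U := by simpa using h3'
      have h10 := h9 (act A U ⟨t1, h4'⟩)
        (Subgroup.subset_closure ⟨⟨t1, h4'⟩, 1, i, h1i, by rw [one_smul], t1, ht1, by simp, rfl⟩)
      have h11 : t1 • u = u := congrArg Subtype.val h10
      rw [htu1] at h11
      exact hr0 (add_eq_left.1 h11)
    · exact h9.2 _ (mul_mem (inv_mem h5) hv) h7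
  have h9 : v = act A U ⟨t, h4⟩ := (inv_mul_eq_one.1 h8).symm
  refine ⟨t, ht, fun m hm => ?_⟩
  have h10 := hvb ⟨m, hm⟩
  rw [h9] at h10
  exact congrArg Subtype.val h10

end comp

/-- The data of (Q) for `k ≥ 1`. -/
structure QK {ι : Type*} (T : ι → Subgroup H) (Ax R : ι → AddSubgroup M) (A : ι → Set (AddSubgroup M))
    (N : ι → Subgroup H) (U : ι → AddSubgroup M) (I : AddSubgroup M) (z : ι → M) (B : Subgroup H) : Prop where
  comp : ∀ i, Comp T Ax R (A i) (N i) (U i)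
  ax : ∀ i, Ax i ∈ A i
  gen : ∀ i, N i = ⨆ g ∈ A i, TT T Ax g
  free : ∀ i, ∀ t ∈ T i, ∀ u : M, u ∉ Ax i → t • u = u → ∀ m : M, t • m = m
  one : ∀ i, OneAx (Ptt H Ax R (A i) (U i)) (Vv T Ax R (A i) (U i))
  fixU : ∀ i, ∀ t ∈ T i, ∀ j, j ≠ i → ∀ u ∈ U j, t • u = u
  fixI : ∀ i, ∀ t ∈ T i, ∀ u ∈ I, t • u = u
  disj : ∀ i j, i ≠ j → U i ⊓ U j = ⊥
  span : (⨆ i, U i) ⊔ I = ⊤
  quad : ∀ b ∈ B, ∀ b' ∈ B, ∀ m : M, b • (b' • m + m) = b' • m + m
  perm : ∀ b ∈ B, ∀ i, ∃ j, b • U i = U j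
  permA : ∀ b ∈ B, ∀ i, b • U i = U i → ∀ g ∈ A i, b • g ∈ A i
  norm : ∀ (i : ι) (c : H) (j : ι), c • Ax j ∈ A i → (∀ t ∈ T j, ∀ x ∈ R i, (c * t * c⁻¹) • x = x) →
    ∀ t ∈ T j, ∀ b ∈ B, c * t * c⁻¹ * b * (c * t * c⁻¹)⁻¹ ∈ B
  zR : ∀ i, z i ∈ R i
  z0 : ∀ i, z i ≠ 0
  bz : ∀ b ∈ B, ∀ i, b • U i = U i → b • z i = z i
  bI : ∀ b ∈ B, ∀ u ∈ I, b • u = u

namespace QK

variable {ι : Type*} {T : ι → Subgroup H} {Ax R : ι → AddSubgroup M} {A : ι → Set (AddSubgroup M)}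
  {N : ι → Subgroup H} {U : ι → AddSubgroup M} {I : AddSubgroup M} {z : ι → M} {B : Subgroup H}
  (Q : QK T Ax R A N U I z B)
include Q

theorem two (i : ι) (m : M) : m + m = 0 := (Q.comp i).char2 m

theorem sq (i : ι) {b : H} (hb : b ∈ B) (m : M) : b • b • m = m := by
  have h1 := Q.quad b hb b hb m
  rw [smul_add] at h1
  have h2 : b • b • m + b • m + b • m = b • m + m + b • m := by rw [h1]
  rw [add_assoc, Q.two i, add_zero, add_comm (b • m) m, add_assoc, Q.two i, add_zero] at h2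
  exact h2

theorem inv_smul (i : ι) {b : H} (hb : b ∈ B) (m : M) : b⁻¹ • m = b • m := by
  rw [inv_smul_eq_iff, Q.sq i hb]

theorem R_le (i : ι) : R i ≤ U i := by
  have := (Q.comp i).root 1 i (by rw [one_smul]; exact Q.ax i)
  rwa [one_smul] at this

theorem norm_self (i : ι) {t : H} (ht : t ∈ T i) {b : H} (hb : b ∈ B) : t * b * t⁻¹ ∈ B := by
  have h1 := Q.norm i 1 i (by rw [one_smul]; exact Q.ax i) (fun t ht x hx => by
    rw [one_mul, inv_one, mul_one]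
    exact (Q.comp i).fix i t ht x ((Q.comp i).le i i hx)) t ht b hb
  simpa using h1

variable [Finite M]

/-- `B` fixes all the `U i`. -/
theorem fix_U {b : H} (hb : b ∈ B) (i : ι) : b • U i = U i := by
  obtain ⟨j, hj⟩ := Q.perm b hb i
  by_cases hij : j = i
  · rwa [hij] at hj
  exfalso
  have C := Q.comp i
  obtain ⟨u, hu, hui⟩ := exists_not_mem C (Q.ax i)
  obtain ⟨r, hr, hr0⟩ := (AddSubgroup.bot_or_exists_ne_zero (R i)).resolve_left (C.rne i)
  obtain ⟨c, hc, hcu⟩ := C.full i u hui r hr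
  have hrU : r ∈ U i := Q.R_le i hr
  have hcr : c • r = r := C.fix i c hc r (C.le i i hr)
  -- the commutator `d = (b c b⁻¹) c⁻¹`
  have hd : b * (c * b⁻¹ * c⁻¹) ∈ B := mul_mem hb (Q.norm_self i hc (inv_mem hb))
  have h1 := Q.quad _ hd b hb u
  have hbu : b • u ∈ U j := by rw [← hj]; exact AddSubgroup.smul_mem_pointwise_smul _ _ _ hu
  have hbr : b • r ∈ U j := by rw [← hj]; exact AddSubgroup.smul_mem_pointwise_smul _ _ _ hrU
  have hcfix : ∀ m ∈ U j, c • m = m := fun m hm => Q.fixU i c hc j hij m hm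
  have hcinv : ∀ m ∈ U j, c⁻¹ • m = m := fun m hm => by rw [inv_smul_eq_iff, hcfix m hm]
  have hcu' : c⁻¹ • u = u + r := by
    rw [inv_smul_eq_iff, smul_add, hcu, hcr, add_assoc, Q.two i, add_zero]
  have h2 : (b * (c * b⁻¹ * c⁻¹)) • (b • u + u) = b • u + b • r + (u + r) := by
    rw [mul_smul, mul_smul, mul_smul, smul_add c⁻¹, hcinv _ hbu, hcu', Q.inv_smul i hb, smul_add b, Q.sq i hb,
      smul_add b, smul_add c, smul_add c, hcu, hcfix _ hbu, hcfix _ hbr, smul_add b, smul_add b, smul_add b,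
      Q.sq i hb, Q.sq i hb]
  rw [h2] at h1
  have h3 : b • r + r = 0 := by
    have h4 : b • u + b • r + (u + r) = b • u + u + (b • r + r) := by abel
    rw [h4] at h1
    exact add_eq_left.1 h1
  have h5 : b • r = r := by
    have h6 : b • r + r = r + r := by rw [h3, Q.two i]
    exact add_right_cancel h6
  have h7 : r ∈ U i ⊓ U j := ⟨hrU, by rw [h5] at hbr; exact hbr⟩
  rw [Q.disj i j (Ne.symm hij)] at h7
  exact hr0 h7

/-- **(Q)** : every `b ∈ B` acts on `M` as an element of `⨆ i, T i`. -/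
theorem main [Finite ι] {b : H} (hb : b ∈ B) : ∃ v ∈ ⨆ i, T i, ∀ m : M, b • m = v • m := by
  classical
  have := Fintype.ofFinite ι
  have h1 : ∀ i, ∃ t ∈ T i, ∀ m ∈ U i, b • m = t • m := by
    intro i
    have hSt : B ≤ St H (A i) (U i) := by
      intro b' hb'
      have h2 := Q.fix_U hb' i
      have h3 := Q.fix_U (inv_mem hb') i
      refine ⟨⟨Q.permA b' hb' i h2, Q.permA _ (inv_mem hb') i h3⟩, fun u hu => ?_, fun u hu => ?_⟩
      · rw [← h2]
        exact AddSubgroup.smul_mem_pointwise_smul _ _ _ hu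
      · rw [← h3]
        exact AddSubgroup.smul_mem_pointwise_smul _ _ _ hu
    exact comp_quad (Q.comp i) (Q.ax i) (Q.gen i) Q.free (Q.one i) hSt Q.quad (Q.norm i) (Q.zR i) (Q.z0 i)
      (fun b' hb' => Q.bz b' hb' i (Q.fix_U hb' i)) b hb
  choose t ht htb using h1
  have key : ∀ s : Finset ι, ∃ v ∈ ⨆ i, T i, (∀ i ∈ s, ∀ m ∈ U i, v • m = t i • m) ∧
      (∀ i, i ∉ s → ∀ m ∈ U i, v • m = m) ∧ ∀ m ∈ I, v • m = m := by
    intro s
    induction s using Finset.induction_on with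
    | empty =>
      exact ⟨1, one_mem _, fun i hi => absurd hi (Finset.notMem_empty i), fun i _ m _ => one_smul _ m,
        fun m _ => one_smul _ m⟩
    | insert j s hj ih =>
      obtain ⟨v, hv, h2, h3, h4⟩ := ih
      refine ⟨v * t j, mul_mem hv (Subgroup.mem_iSup_of_mem j (ht j)), ?_, ?_, ?_⟩
      · intro i hi m hm
        rcases Finset.mem_insert.1 hi with rfl | hi'
        · rw [mul_smul]
          refine h3 i hj _ ?_
          rw [← htb i m hm]
          have h5 := Q.fix_U hb i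
          rw [← h5]
          exact AddSubgroup.smul_mem_pointwise_smul _ _ _ hm
        · have hij : i ≠ j := fun h => hj (h ▸ hi')
          rw [mul_smul, Q.fixU j _ (ht j) i hij m hm, h2 i hi' m hm]
      · intro i hi m hm
        rw [Finset.mem_insert, not_or] at hi
        rw [mul_smul, Q.fixU j _ (ht j) i hi.1 m hm, h3 i hi.2 m hm]
      · intro m hm
        rw [mul_smul, Q.fixI j _ (ht j) m hm, h4 m hm]
  obtain ⟨v, hv, h2, -, h4⟩ := key Finset.univ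
  refine ⟨v, hv, ?_⟩
  let E : AddSubgroup M :=
    { carrier := {m | b • m = v • m}
      zero_mem' := by simp
      add_mem' := fun {a c} ha hc => by
        change b • (a + c) = v • (a + c)
        rw [smul_add, smul_add, ha, hc]
      neg_mem' := fun {a} ha => by
        change b • (-a) = v • (-a)
        rw [smul_neg, smul_neg, ha] }
  have hE : (⨆ i, U i) ⊔ I ≤ E := by
    refine sup_le (iSup_le fun i m hm => ?_) fun m hm => ?_
    · change b • m = v • m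
      rw [htb i m hm, h2 i (Finset.mem_univ i) m hm]
    · change b • m = v • m
      rw [Q.bI b hb m hm, h4 m hm]
  rw [Q.span] at hE
  exact fun m => hE (AddSubgroup.mem_top m)

end QK

end Cfsg.Agent.Omega.NOThreeL.RSplit.QuadAll

end

section


/-!
# NO-3L, box R, `q > 2`, split (helper797 #19602 (7)(a), helper602's REPAIR 1): many axes

If two points `e`, `p` with `Vv e` centralising `p` are always equal (MANY), then the axes (in `A`) with centre
`d • R j` meet, inside `U`, in `d • R j`.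
-/

set_option autoImplicit false

namespace Cfsg.Agent.Omega.NOThreeL.RSplit.ManyAx

open scoped Pointwise
open Cfsg.Agent.Omega.NOThreeL.ThmAx (Full IsAx TT YY Adj mem_smul smul_eq_of YY_smul YY_smul_eq adj_smul IsAx.smul)
open Cfsg.Agent.Omega.NOThreeL.RSplit.Root (Rt)
open Cfsg.Agent.Omega.NOThreeL.RSplit.Hull (Comp hull mem_of_fix)
open Cfsg.Agent.Omega.NOThreeL.RSplit.FrameOf
open Cfsg.Agent.Omega.NOThreeL.RBig.Pts (Frame Mv OneAx Out not_mv)

variable {H M : Type*} [Group H] [AddCommGroup M] [DistribMulAction H M]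
variable {ι : Type*} {T : ι → Subgroup H} {Ax R : ι → AddSubgroup M} {A : Set (AddSubgroup M)}
  {N : Subgroup H} {U : AddSubgroup M}

/-- MANY. -/
def Many (T : ι → Subgroup H) (Ax R : ι → AddSubgroup M) (A : Set (AddSubgroup M)) (U : AddSubgroup M) : Prop :=
  ∀ e ∈ Ptt H Ax R A U, ∀ p ∈ Ptt H Ax R A U, ¬ Mv (Vv T Ax R A U) e p → e = p

theorem eq_of_sub (C : Comp T Ax R A N U) {c d : H} {i j : ι} (hc : c • Ax i ∈ A) (hd : d • Ax j ∈ A)
    (h : (c • R i).addSubgroupOf U = (d • R j).addSubgroupOf U) : c • R i = d • R j := by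
  have h1 := AddSubgroup.addSubgroupOf_inj.1 h
  rwa [inf_eq_left.2 (C.root c i hc), inf_eq_left.2 (C.root d j hd)] at h1

/-- **MANY : a vector of `U` fixed by all root groups with centre `d • R j` lies in `d • R j`.** -/
theorem mem_of_fix_all [Finite M] (C : Comp T Ax R A N U) (hN : N = ⨆ g ∈ A, TT T Ax g)
    (free : ∀ i, ∀ t ∈ T i, ∀ u : M, u ∉ Ax i → t • u = u → ∀ m : M, t • m = m)
    (hM : Many T Ax R A U) {d : H} {j : ι} (hd : d • Ax j ∈ A) {u : M} (hu : u ∈ U)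
    (h : ∀ (c : H) (i : ι), c • Ax i ∈ A → c • R i = d • R j → ∀ t ∈ T i, (c * t * c⁻¹) • u = u) : u ∈ d • R j := by
  by_cases hu0 : u = 0
  · rw [hu0]
    exact zero_mem _
  have F := frame C ⟨_, hd⟩ hN free
  obtain ⟨n, hn, hnd, hx⟩ := C.exists_root hd hu
  set e : AddSubgroup ↥U := (d • R j).addSubgroupOf U with hedef
  set p : AddSubgroup ↥U := ((n * d) • R j).addSubgroupOf U with hpdef
  have he : e ∈ Ptt H Ax R A U := ⟨d, j, hd, rfl⟩
  have hp : p ∈ Ptt H Ax R A U := ⟨n * d, j, hnd, rfl⟩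
  -- `Vv e` fixes `u`
  have hfix : ∀ v ∈ Vv T Ax R A U e, v • (⟨u, hu⟩ : ↥U) = ⟨u, hu⟩ := by
    intro v hv
    refine Subgroup.closure_induction (p := fun v _ => v • (⟨u, hu⟩ : ↥U) = ⟨u, hu⟩) ?_ (one_smul _ _)
      (fun a b _ _ ha hb => by rw [mul_smul, hb, ha]) (fun a _ ha => by rw [inv_smul_eq_iff, ha]) hv
    rintro a ⟨k, c, i, hc, hce, t, ht, hk, rfl⟩
    apply Subtype.ext
    rw [act_smul, hk]
    exact h c i hc (eq_of_sub C hc hd hce) t ht
  have hmv : ¬ Mv (Vv T Ax R A U) e p := by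
    intro hmv
    have hpe := F.symm he hp hmv
    obtain ⟨v, hv, x, hx', hne⟩ := hmv
    rcases F.bij e he p hp hpe v hv with h2 | h2
    · exact hne (h2 x hx')
    · have h3 := h2 ⟨u, hu⟩ hx (hfix v hv)
      exact hu0 (congrArg Subtype.val h3)
  have h2 := hM e he p hp hmv
  have h3 : (⟨u, hu⟩ : ↥U) ∈ p := hx
  rw [← h2] at h3
  exact h3

/-- **MANY : the axes with centre `d • R j` meet, inside `U`, in `d • R j`.** -/
theorem mem_of_mem_axes [Finite M] (C : Comp T Ax R A N U) (hN : N = ⨆ g ∈ A, TT T Ax g)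
    (free : ∀ i, ∀ t ∈ T i, ∀ u : M, u ∉ Ax i → t • u = u → ∀ m : M, t • m = m)
    (hM : Many T Ax R A U) {d : H} {j : ι} (hd : d • Ax j ∈ A) {u : M} (hu : u ∈ U)
    (h : ∀ (c : H) (i : ι), c • Ax i ∈ A → c • R i = d • R j → u ∈ c • Ax i) : u ∈ d • R j := by
  refine mem_of_fix_all C hN free hM hd hu fun c i hc hcd t ht => ?_
  have h2 := mem_smul.1 (h c i hc hcd)
  rw [mul_smul, mul_smul, C.fix i t ht _ h2, smul_inv_smul]

/-- The dichotomy, with `Many`. -/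
theorem many_or [Finite M] (C : Comp T Ax R A N U) (hA : A.Nonempty) (hN : N = ⨆ g ∈ A, TT T Ax g)
    (free : ∀ i, ∀ t ∈ T i, ∀ u : M, u ∉ Ax i → t • u = u → ∀ m : M, t • m = m) :
    Many T Ax R A U ∨ (OneAx (Ptt H Ax R A U) (Vv T Ax R A U) ∧
        ∀ e ∈ Ptt H Ax R A U, Out (Ptt H Ax R A U) (Vv T Ax R A U) e) :=
  dichotomy C hA hN free

end Cfsg.Agent.Omega.NOThreeL.RSplit.ManyAx

end

section


/-!
# NO-3L, box R, `q > 2`, split (helper797 #19602 (7)): the dichotomy and (Q) over 683's `Fv`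

* `VG T Ax R A P` : the group generated (in `H`) by the root groups `c T_i c⁻¹` with axis in `A` and centre `P`;
  `mem_Vv_iff`, `OneG`, `oneAx_iff`, `OneG.smul`;
* **`many_or_one`** : all components have MANY axes (`Many`), or all have ONE axis (`OneAx`);
* **`qk_of`**, **`quad_main`** : (Q) for `B ≤ C_H(z₀) ∩ C(I)` normalised by this group, quadratic.
-/

set_option autoImplicit false

namespace Cfsg.Agent.Omega.NOThreeL.RSplit.QuadFv

open scoped Pointwise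
open Cfsg.Agent.Omega.NOThreeL.ThmAx (Full IsAx TT YY Adj mem_smul smul_eq_of YY_smul YY_smul_eq adj_smul IsAx.smul)
open Cfsg.Agent.Omega.NOThreeL.RSplit.Root (Rt Ex)
open Cfsg.Agent.Omega.NOThreeL.RSplit.Hull (Comp hull mem_of_fix)
open Cfsg.Agent.Omega.NOThreeL.RSplit.FrameOf
open Cfsg.Agent.Omega.NOThreeL.RSplit.ManyAx (Many eq_of_sub many_or)
open Cfsg.Agent.Omega.NOThreeL.RSplit.QuadAll (QK)
open Cfsg.Agent.Omega.NOThreeL.RSplit.Five
open Cfsg.Agent.Omega.NOThreeL.RBig.Pts (OneAx Mv)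

variable {H M : Type*} [Group H] [AddCommGroup M] [DistribMulAction H M]
variable {ι : Type*}

section VG

/-- The group generated by the root groups with axis in `A` and centre `P`. -/
def VG (T : ι → Subgroup H) (Ax R : ι → AddSubgroup M) (A : Set (AddSubgroup M)) (P : AddSubgroup M) : Subgroup H :=
  Subgroup.closure {h | ∃ (c : H) (i : ι), c • Ax i ∈ A ∧ c • R i = P ∧ ∃ t ∈ T i, h = c * t * c⁻¹}

/-- ONE AXIS, in the group. -/
def OneG (T : ι → Subgroup H) (Ax R : ι → AddSubgroup M) (A : Set (AddSubgroup M)) (U : AddSubgroup M) : Prop :=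
  ∀ (c : H) (i : ι) (d : H) (j : ι), c • Ax i ∈ A → d • Ax j ∈ A →
    (∃ v ∈ VG T Ax R A (c • R i), ∃ x ∈ d • R j, v • x ≠ x) →
    ∀ v ∈ VG T Ax R A (c • R i), (∀ x ∈ d • R j, v • x = x) → ∀ m ∈ U, v • m = m

variable {T : ι → Subgroup H} {Ax R : ι → AddSubgroup M} {A A' : Set (AddSubgroup M)}
  {N : Subgroup H} {U U' : AddSubgroup M}

theorem VG_le (C : Comp T Ax R A N U) (hN : N = ⨆ g ∈ A, TT T Ax g) (P : AddSubgroup M) :
    VG T Ax R A P ≤ St H A U := by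
  refine (Subgroup.closure_le _).2 ?_
  rintro h ⟨c, i, hc, -, t, ht, rfl⟩
  exact st_of_mem C (gen_mem hN.ge hc ht)

theorem mem_Vv_iff (C : Comp T Ax R A N U) (hN : N = ⨆ g ∈ A, TT T Ax g) {d : H} {j : ι} (hd : d • Ax j ∈ A)
    {v : Gm U} : v ∈ Vv T Ax R A U ((d • R j).addSubgroupOf U) ↔
      ∃ k : ↥(St H A U), (k : H) ∈ VG T Ax R A (d • R j) ∧ act A U k = v := by
  constructor
  · intro hv
    have h1 : Vv T Ax R A U ((d • R j).addSubgroupOf U) ≤
        ((VG T Ax R A (d • R j)).subgroupOf (St H A U)).map (act A U) := by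
      refine (Subgroup.closure_le _).2 ?_
      rintro a ⟨h, c, i, hc, hce, t, ht, hh, rfl⟩
      exact ⟨h, Subgroup.subset_closure ⟨c, i, hc, eq_of_sub C hc hd hce, t, ht, hh⟩, rfl⟩
    obtain ⟨k, hk, hkv⟩ := h1 hv
    exact ⟨k, hk, hkv⟩
  · rintro ⟨k, hk, rfl⟩
    have h1 : VG T Ax R A (d • R j) ≤
        ((Vv T Ax R A U ((d • R j).addSubgroupOf U)).comap (act A U)).map (St H A U).subtype := by
      refine (Subgroup.closure_le _).2 ?_
      rintro h ⟨c, i, hc, hce, t, ht, rfl⟩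
      have h3 : c * t * c⁻¹ ∈ St H A U := st_of_mem C (gen_mem hN.ge hc ht)
      exact ⟨⟨c * t * c⁻¹, h3⟩, Subgroup.subset_closure ⟨_, c, i, hc, by rw [hce], t, ht, rfl, rfl⟩, rfl⟩
    obtain ⟨k', hk', hkk⟩ := h1 hk
    have : k' = k := Subtype.ext hkk
    rw [← this]
    exact hk'

theorem oneAx_iff (C : Comp T Ax R A N U) (hN : N = ⨆ g ∈ A, TT T Ax g) :
    OneAx (Ptt H Ax R A U) (Vv T Ax R A U) ↔ OneG T Ax R A U := by
  constructor
  · rintro h c i d j hc hd ⟨v, hv, x, hx, hne⟩ w hw hfix m hm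
    have hvS := VG_le C hN _ hv
    have hwS := VG_le C hN _ hw
    have h1 := h _ ⟨c, i, hc, rfl⟩ _ ⟨d, j, hd, rfl⟩
      ⟨act A U ⟨v, hvS⟩, (mem_Vv_iff C hN hc).2 ⟨⟨v, hvS⟩, hv, rfl⟩, ⟨x, C.root d j hd hx⟩, hx,
        fun h2 => hne (congrArg Subtype.val h2)⟩
      (act A U ⟨w, hwS⟩) ((mem_Vv_iff C hN hc).2 ⟨⟨w, hwS⟩, hw, rfl⟩)
      (fun y hy => Subtype.ext (hfix y hy))
    have h2 : act A U ⟨w, hwS⟩ • (⟨m, hm⟩ : ↥U) = ⟨m, hm⟩ := by rw [h1, one_smul]
    exact congrArg Subtype.val h2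
  · rintro h p ⟨c, i, hc, rfl⟩ r ⟨d, j, hd, rfl⟩ ⟨v, hv, x, hx, hne⟩ w hw hfix
    obtain ⟨k, hk, rfl⟩ := (mem_Vv_iff C hN hc).1 hv
    obtain ⟨l, hl, rfl⟩ := (mem_Vv_iff C hN hc).1 hw
    have h1 := h c i d j hc hd ⟨k, hk, x, hx, fun h2 => hne (Subtype.ext h2)⟩ l hl
      (fun y hy => congrArg Subtype.val (hfix ⟨y, C.root d j hd hy⟩ hy))
    exact gm_ext fun m => by rw [one_smul]; exact Subtype.ext (h1 m m.2)

theorem VG_smul (x : H) (hA : ∀ g, g ∈ A' ↔ x⁻¹ • g ∈ A) {P : AddSubgroup M} {v : H}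
    (hv : v ∈ VG T Ax R A' (x • P)) : x⁻¹ * v * x ∈ VG T Ax R A P := by
  have h1 : VG T Ax R A' (x • P) ≤ (VG T Ax R A P).comap (MulAut.conj x⁻¹).toMonoidHom := by
    refine (Subgroup.closure_le _).2 ?_
    rintro h ⟨c, i, hc, hce, t, ht, rfl⟩
    refine Subgroup.subset_closure ⟨x⁻¹ * c, i, ?_, ?_, t, ht, ?_⟩
    · rw [mul_smul]
      exact (hA _).1 hc
    · rw [mul_smul, hce, inv_smul_smul]
    · change x⁻¹ * (c * t * c⁻¹) * x⁻¹⁻¹ = _
      group
  have h2 : x⁻¹ * v * x⁻¹⁻¹ ∈ VG T Ax R A P := h1 hv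
  rwa [inv_inv] at h2

theorem OneG.smul (h : OneG T Ax R A U) (x : H) (hA : ∀ g, g ∈ A' ↔ x⁻¹ • g ∈ A) (hU : ∀ m ∈ U', x⁻¹ • m ∈ U) :
    OneG T Ax R A' U' := by
  rintro c i d j hc hd ⟨v, hv, y, hy, hne⟩ w hw hfix m hm
  have e1 : c • R i = x • ((x⁻¹ * c) • R i) := by rw [mul_smul, smul_inv_smul]
  rw [e1] at hv hw
  have hv' := VG_smul x hA hv
  have hw' := VG_smul x hA hw
  have hc' : (x⁻¹ * c) • Ax i ∈ A := by rw [mul_smul]; exact (hA _).1 hc
  have hd' : (x⁻¹ * d) • Ax j ∈ A := by rw [mul_smul]; exact (hA _).1 hd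
  have h1 := h _ i _ j hc' hd' ⟨_, hv', x⁻¹ • y, ?_, ?_⟩ _ hw' ?_ (x⁻¹ • m) (hU m hm)
  · rw [mul_smul, mul_smul, smul_inv_smul] at h1
    exact smul_left_cancel _ h1
  · rw [mul_smul]
    exact AddSubgroup.smul_mem_pointwise_smul _ _ _ hy
  · rw [mul_smul, mul_smul, smul_inv_smul]
    exact fun h2 => hne (smul_left_cancel _ h2)
  · intro y' hy'
    rw [mul_smul, mem_smul, inv_inv] at hy'
    rw [mul_smul, mul_smul, hfix _ hy', inv_smul_smul]

end VG

section fv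

variable [Fintype ι] [Finite H] [Finite M] {T : ι → Subgroup H} {Ax R : ι → AddSubgroup M} {z : ι → M} {Z : Set M}
  (D : Fv T Ax R z Z)
include D

theorem uc_disj {i j : ι} (hij : i ≠ j) : Uc H Ax R i ⊓ Uc H Ax R j = ⊥ := by
  rw [eq_bot_iff]
  rintro u ⟨hi, hj⟩
  by_contra h0
  obtain ⟨g, hg, hu⟩ := (D.comp i).sep u hi h0
  exact hu (D.Uc_le hij hg hj)

theorem uc_inj {i j : ι} (h : Uc H Ax R i = Uc H Ax R j) : i = j := by
  by_contra hij
  have h1 := uc_disj D hij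
  rw [← h, inf_idem] at h1
  exact (D.comp i).rne i (le_bot_iff.1 ((D.R_le_Uc i).trans h1.le))

/-- `H` permutes the components. -/
theorem smul_cpt (x : H) (i : ι) : ∃ j, x • Uc H Ax R i = Uc H Ax R j ∧
    ∀ g, g ∈ Cpt H Ax R j ↔ x⁻¹ • g ∈ Cpt H Ax R i := by
  obtain ⟨j, hj⟩ := D.cover (IsAx.smul (Rt.isAx Ax i) x)
  have h1 : ∀ g, g ∈ Cpt H Ax R j ↔ x⁻¹ • g ∈ Cpt H Ax R i := by
    intro g
    rw [← D.Cpt_eq hj, D.axSys.smul_Cp]
    rfl
  refine ⟨j, ?_, h1⟩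
  obtain ⟨l, hl⟩ := D.smul_Uc x i
  rw [hl]
  by_contra hne
  have hlj : j ≠ l := fun h => hne (by rw [h])
  -- `x • R i ≤ U_l ∩ U_j`
  have h2 : x • R i ≤ Uc H Ax R j := (D.comp j).root x i hj
  have h3 : x • R i ≤ Uc H Ax R l := by
    rw [← hl]
    intro m hm
    rw [mem_smul] at hm ⊢
    exact D.R_le_Uc i hm
  have h4 : x • R i ≤ ⊥ := by
    rw [← uc_disj D hlj]
    exact le_inf h2 h3
  obtain ⟨r, hr, hr0⟩ := (AddSubgroup.bot_or_exists_ne_zero (R i)).resolve_left ((D.comp i).rne i)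
  have h5 := h4 (AddSubgroup.smul_mem_pointwise_smul _ x _ hr)
  exact hr0 ((smul_eq_zero_iff_eq x).1 (AddSubgroup.mem_bot.1 h5))

/-- ONE AXIS for one component: for all. -/
theorem one_all {i : ι} (h : OneG T Ax R (Cpt H Ax R i) (Uc H Ax R i)) (j : ι) :
    OneG T Ax R (Cpt H Ax R j) (Uc H Ax R j) := by
  obtain ⟨x, hx⟩ := D.trans i j
  obtain ⟨l, hl, h1⟩ := smul_cpt D x i
  have hlj : l = j := by
    refine eq_of_mem_Cpt D.toEx ((h1 _).2 ?_)
    rw [← hx, inv_smul_smul]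
    exact Fv.self_mem i
  subst hlj
  refine h.smul x h1 fun m hm => ?_
  rw [← hl, mem_smul] at hm
  exact hm

/-- **All components have many axes, or all have one axis.** -/
theorem many_or_one (free : ∀ i, ∀ t ∈ T i, ∀ u : M, u ∉ Ax i → t • u = u → ∀ m : M, t • m = m) :
    (∀ i, Many T Ax R (Cpt H Ax R i) (Uc H Ax R i)) ∨
      (∀ i, OneAx (Ptt H Ax R (Cpt H Ax R i) (Uc H Ax R i)) (Vv T Ax R (Cpt H Ax R i) (Uc H Ax R i))) := by
  by_cases h : ∃ i, OneAx (Ptt H Ax R (Cpt H Ax R i) (Uc H Ax R i)) (Vv T Ax R (Cpt H Ax R i) (Uc H Ax R i))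
  · obtain ⟨i, hi⟩ := h
    refine Or.inr fun j => ?_
    rw [oneAx_iff (D.comp j) rfl]
    rw [oneAx_iff (D.comp i) rfl] at hi
    exact one_all D hi j
  · push Not at h
    exact Or.inl fun i => (many_or (D.comp i) ⟨_, Fv.self_mem i⟩ rfl free).resolve_right fun h1 => h i h1.1

/-- An element fixing `∑ z i` and `U_i` fixes `z i`. -/
theorem fix_comp {x : H} (hx : x • ∑ i, z i = ∑ i, z i) {i : ι} (hi : x • Uc H Ax R i = Uc H Ax R i) :
    x • z i = z i := by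
  classical
  by_contra hne
  have h0 : x • z i - z i ≠ 0 := fun h => hne (sub_eq_zero.1 h)
  have hzi : ∀ j, z j ∈ Uc H Ax R j := fun j => D.R_le_Uc j (D.zR j)
  have h1 : x • z i - z i ∈ Uc H Ax R i := by
    refine sub_mem ?_ (hzi i)
    rw [← hi]
    exact AddSubgroup.smul_mem_pointwise_smul _ _ _ (hzi i)
  obtain ⟨g, hg, hgx⟩ := (D.comp i).sep _ h1 h0
  apply hgx
  rw [← Finset.add_sum_erase Finset.univ z (Finset.mem_univ i), smul_add] at hx
  have h2 : x • z i - z i = (∑ j ∈ Finset.univ.erase i, z j) - x • ∑ j ∈ Finset.univ.erase i, z j := by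
    rw [sub_eq_sub_iff_add_eq_add, hx, add_comm]
  rw [h2]
  refine sub_mem (sum_mem fun j hj => ?_) ?_
  · rw [Finset.mem_erase] at hj
    exact D.Uc_le (Ne.symm hj.1) hg (hzi j)
  · rw [Finset.smul_sum]
    refine sum_mem fun j hj => ?_
    rw [Finset.mem_erase] at hj
    obtain ⟨l, hl⟩ := D.smul_Uc x j
    have hli : i ≠ l := by
      rintro rfl
      apply hj.1
      refine uc_inj D ?_
      rw [← hi] at hl
      exact smul_left_cancel x hl
    refine D.Uc_le hli hg ?_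
    rw [← hl]
    exact AddSubgroup.smul_mem_pointwise_smul _ _ _ (hzi j)

/-- **The data `QK` of (Q).** -/
theorem qk_of (free : ∀ i, ∀ t ∈ T i, ∀ u : M, u ∉ Ax i → t • u = u → ∀ m : M, t • m = m)
    (one : ∀ i, OneAx (Ptt H Ax R (Cpt H Ax R i) (Uc H Ax R i)) (Vv T Ax R (Cpt H Ax R i) (Uc H Ax R i)))
    {B : Subgroup H} (hBz : ∀ b ∈ B, b • ∑ i, z i = ∑ i, z i) (hBI : ∀ b ∈ B, ∀ u ∈ Ic H Ax, b • u = u)
    (hBC : ∀ h : H, h • ∑ i, z i = ∑ i, z i → (∀ u ∈ Ic H Ax, h • u = u) → ∀ b ∈ B, h * b * h⁻¹ ∈ B)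
    (quad : ∀ b ∈ B, ∀ b' ∈ B, ∀ m : M, b • (b' • m + m) = b' • m + m) :
    QK T Ax R (Cpt H Ax R) (Nc T Ax R) (Uc H Ax R) (Ic H Ax) z B where
  comp := D.comp
  ax := fun i => Fv.self_mem i
  gen := fun i => rfl
  free := free
  one := one
  fixU := fun i t ht j hj u hu => D.fix i t ht u (D.Uc_le (Ne.symm hj) (Fv.self_mem i) hu)
  fixI := fun i t ht u hu => D.fix i t ht u (hu _ (Rt.isAx Ax i))
  disj := fun i j hij => uc_disj D hij
  span := D.span
  quad := quad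
  perm := fun b _ i => D.smul_Uc b i
  permA := fun b _ i hi g hg => by
    obtain ⟨j, hj, h2⟩ := smul_cpt D b i
    have h3 : i = j := uc_inj D (by rw [← hj, hi])
    rw [h3] at hg ⊢
    rw [h3] at h2
    rw [h2, inv_smul_smul]
    exact hg
  norm := by
    classical
    intro i c j hc hfix t ht b hb
    have hfg : ∀ u ∈ c • Ax j, (c * t * c⁻¹) • u = u := fun u hu =>
      D.toRt.TT_fix (Subgroup.subset_closure ⟨c, j, rfl, t, ht, rfl⟩) hu
    refine hBC _ ?_ (fun u hu => hfg u (hu _ ⟨c, j, rfl⟩)) b hb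
    rw [Finset.smul_sum]
    refine Finset.sum_congr rfl fun l _ => ?_
    by_cases hl : l = i
    · subst hl
      exact hfix t ht _ (D.zR l)
    · exact hfg _ (D.Uc_le (Ne.symm hl) hc (D.R_le_Uc l (D.zR l)))
  zR := D.zR
  z0 := D.z0
  bz := fun b hb i hi => fix_comp D (hBz b hb) hi
  bI := hBI

/-- **(Q)** : `B ≤ C := C_H(z₀) ∩ C_H(I)`, normalised by `C`, quadratic, ONE AXIS: every `b ∈ B` acts on `M` as an
element of `⨆ i, T i`. -/
theorem quad_main (free : ∀ i, ∀ t ∈ T i, ∀ u : M, u ∉ Ax i → t • u = u → ∀ m : M, t • m = m)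
    (one : ∀ i, OneAx (Ptt H Ax R (Cpt H Ax R i) (Uc H Ax R i)) (Vv T Ax R (Cpt H Ax R i) (Uc H Ax R i)))
    {B : Subgroup H} (hBz : ∀ b ∈ B, b • ∑ i, z i = ∑ i, z i) (hBI : ∀ b ∈ B, ∀ u ∈ Ic H Ax, b • u = u)
    (hBC : ∀ h : H, h • ∑ i, z i = ∑ i, z i → (∀ u ∈ Ic H Ax, h • u = u) → ∀ b ∈ B, h * b * h⁻¹ ∈ B)
    (quad : ∀ b ∈ B, ∀ b' ∈ B, ∀ m : M, b • (b' • m + m) = b' • m + m) {b : H} (hb : b ∈ B) :
    ∃ v ∈ ⨆ i, T i, ∀ m : M, b • m = v • m :=
  (qk_of D free one hBz hBI hBC quad).main hb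

end fv

end Cfsg.Agent.Omega.NOThreeL.RSplit.QuadFv

end

section


/-!
# NO-3L, box R, `q > 2`, split (#19602 (7)): END, the module level over 683's `Fv`

`D : Fv T Ax R z Z` : `M = (⊕ U_i) ⊕ I`, `U_i = Uc i`, `z₀ = ∑ z i`.

* `exists_perm` : `H` permutes the components; `smul_R` : `x z₀ ∈ ∑ R_i` implies that `x` permutes the `R_i`;
* `Dc i` : the sum of the other components; `indep`, `inter`;
* `exists_sep` : ONE AXIS, `u ∈ U_i ∩ Ax i`, `u ∉ R i` : some `x ∈ C_H(z₀) ∩ C_H(I)` with `x u - u ∈ U_i - R i`;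
* `mem_of_many` : MANY AXES.
-/

set_option autoImplicit false
set_option linter.unusedSectionVars false

namespace Cfsg.Agent.Omega.NOThreeL.RSplit.EndFv

open scoped Pointwise
open Cfsg.Agent.Omega.NOThreeL.ThmAx (Full IsAx TT YY Adj mem_smul smul_eq_of YY_smul YY_smul_eq adj_smul IsAx.smul)
open Cfsg.Agent.Omega.NOThreeL.RSplit.Root (Rt Ex)
open Cfsg.Agent.Omega.NOThreeL.RSplit.Hull (Comp hull mem_of_fix)
open Cfsg.Agent.Omega.NOThreeL.RSplit.FrameOf
open Cfsg.Agent.Omega.NOThreeL.RSplit.ManyAx (Many eq_of_sub many_or mem_of_mem_axes)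
open Cfsg.Agent.Omega.NOThreeL.RSplit.QuadFv
open Cfsg.Agent.Omega.NOThreeL.RSplit.Five
open Cfsg.Agent.Omega.NOThreeL.RBig.Pts (OneAx Mv Frame)
open Cfsg.Agent.Omega.NOThreeL.RBig.Trans (AxSys Cp NC UC NN)
open Cfsg.Agent.Omega.NOThreeL.RSplit.TransRt (Axs)

variable {H M : Type*} [Group H] [AddCommGroup M] [DistribMulAction H M]
variable {ι : Type*}

theorem exists_sum [Fintype ι] {B : ι → AddSubgroup M} {m : M} (hm : m ∈ ⨆ i, B i) :
    ∃ f : ι → M, (∀ i, f i ∈ B i) ∧ m = ∑ i, f i := by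
  classical
  let X : AddSubgroup M :=
    { carrier := {y | ∃ f : ι → M, (∀ i, f i ∈ B i) ∧ y = ∑ i, f i}
      zero_mem' := ⟨fun _ => 0, fun _ => zero_mem _, by simp⟩
      add_mem' := by
        rintro _ _ ⟨f, hf, rfl⟩ ⟨f', hf', rfl⟩
        exact ⟨fun i => f i + f' i, fun i => add_mem (hf i) (hf' i), Finset.sum_add_distrib.symm⟩
      neg_mem' := by
        rintro _ ⟨f, hf, rfl⟩
        exact ⟨fun i => - f i, fun i => neg_mem (hf i), (Finset.sum_neg_distrib _).symm⟩ }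
  have hX : (⨆ i, B i) ≤ X := iSup_le fun i m hm => by
    refine ⟨fun j => if j = i then m else 0, fun j => ?_, ?_⟩
    · by_cases h : j = i
      · subst h
        simpa using hm
      · simp only [if_neg h]
        exact zero_mem _
    · rw [Finset.sum_ite_eq' Finset.univ i (fun _ => m), if_pos (Finset.mem_univ i)]
  exact hX hm

theorem sum_mem_iSup [Fintype ι] {B : ι → AddSubgroup M} {f : ι → M} (hf : ∀ i, f i ∈ B i) :
    ∑ i, f i ∈ ⨆ i, B i :=
  sum_mem fun i _ => AddSubgroup.mem_iSup_of_mem i (hf i)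

section

variable [Fintype ι] [Finite H] [Finite M] {T : ι → Subgroup H} {Ax R : ι → AddSubgroup M} {z : ι → M} {Z : Set M}
  (D : Fv T Ax R z Z)
include D

theorem uniq {f f' : ι → M} (hf : ∀ i, f i ∈ Uc H Ax R i) (hf' : ∀ i, f' i ∈ Uc H Ax R i)
    (h : ∑ i, f i = ∑ i, f' i) (i : ι) : f i = f' i := by
  have h1 := (D.uniq (f := fun i => f i - f' i) (fun i => sub_mem (hf i) (hf' i)) (w := 0) (zero_mem _) (by
    rw [Finset.sum_sub_distrib, h, sub_self, add_zero])).1 i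
  exact sub_eq_zero.1 h1

/-- `H` permutes the components. -/
theorem exists_perm (x : H) : ∃ σ : Equiv.Perm ι, ∀ i, x • Uc H Ax R i = Uc H Ax R (σ i) ∧
    ∀ g, g ∈ Cpt H Ax R (σ i) ↔ x⁻¹ • g ∈ Cpt H Ax R i := by
  choose σ hσ using smul_cpt D x
  have hinj : Function.Injective σ := by
    intro i j hij
    refine uc_inj D ?_
    have h1 := (hσ i).1
    rw [hij, ← (hσ j).1] at h1
    exact smul_left_cancel x h1
  exact ⟨Equiv.ofBijective σ (Finite.injective_iff_bijective.1 hinj), hσ⟩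

/-- the components of `x • ∑ f i` -/
theorem smul_sum {x : H} {σ : Equiv.Perm ι} (hσ : ∀ i, x • Uc H Ax R i = Uc H Ax R (σ i)) {f : ι → M}
    (hf : ∀ i, f i ∈ Uc H Ax R i) : x • ∑ i, f i = ∑ i, x • f (σ.symm i) ∧
      ∀ i, x • f (σ.symm i) ∈ Uc H Ax R i := by
  constructor
  · rw [Finset.smul_sum]
    exact (Equiv.sum_comp σ.symm (fun i => x • f i)).symm
  · intro i
    have h1 := hσ (σ.symm i)
    rw [Equiv.apply_symm_apply] at h1
    rw [← h1]
    exact AddSubgroup.smul_mem_pointwise_smul _ _ _ (hf _)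

theorem zU (i : ι) : z i ∈ Uc H Ax R i := D.R_le_Uc i (D.zR i)

/-- `x • z₀ ∈ ∑ R_i` implies that `x` permutes the `R_i`. -/
theorem smul_R {x : H} (hx : x • ∑ i, z i ∈ ⨆ i, R i) (i : ι) : ∃ j, x • R i = R j := by
  obtain ⟨σ, hσ⟩ := exists_perm D x
  obtain ⟨h1, h2⟩ := smul_sum D (fun i => (hσ i).1) (zU D)
  obtain ⟨f, hf, h3⟩ := exists_sum hx
  rw [h1] at h3
  have h4 := uniq D h2 (fun i => D.R_le_Uc i (hf i)) h3 (σ i)
  rw [Equiv.symm_apply_apply] at h4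
  refine ⟨σ i, ?_⟩
  have h5 : x • Ax i ∈ Cpt H Ax R (σ i) := by
    rw [(hσ i).2, inv_smul_smul]
    exact Fv.self_mem i
  have h6 : (1 : H) • Ax (σ i) ∈ Cpt H Ax R (σ i) := by
    rw [one_smul]
    exact Fv.self_mem _
  have h7 := (D.comp (σ i)).root_eq h5 h6 (x := x • z i) (AddSubgroup.smul_mem_pointwise_smul _ _ _ (D.zR i))
    (by rw [one_smul, h4]; exact hf _) (fun h => D.z0 i ((smul_eq_zero_iff_eq x).1 h))
  rwa [one_smul] at h7

theorem smul_iSup_R {x : H} (hx : x • ∑ i, z i ∈ ⨆ i, R i) {m : M} (hm : m ∈ ⨆ i, R i) : x • m ∈ ⨆ i, R i := by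
  obtain ⟨f, hf, rfl⟩ := exists_sum hm
  rw [Finset.smul_sum]
  refine sum_mem fun i _ => ?_
  obtain ⟨j, hj⟩ := smul_R D hx i
  refine AddSubgroup.mem_iSup_of_mem j ?_
  rw [← hj]
  exact AddSubgroup.smul_mem_pointwise_smul _ _ _ (hf i)

theorem smul_iSup_Uc (x : H) {m : M} (hm : m ∈ ⨆ i, Uc H Ax R i) : x • m ∈ ⨆ i, Uc H Ax R i := by
  obtain ⟨f, hf, rfl⟩ := exists_sum hm
  rw [Finset.smul_sum]
  refine sum_mem fun i _ => ?_
  obtain ⟨j, hj⟩ := D.smul_Uc x i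
  refine AddSubgroup.mem_iSup_of_mem j ?_
  rw [← hj]
  exact AddSubgroup.smul_mem_pointwise_smul _ _ _ (hf i)

/-- `s` maps `Ax i` to `Ax j`: it maps `U_i` to `U_j`. -/
theorem smul_Uc_of {s : H} {i j : ι} (hs : s • Ax i = Ax j) : s • Uc H Ax R i = Uc H Ax R j := by
  obtain ⟨l, h1, h2⟩ := smul_cpt D s i
  have hlj : l = j := by
    refine eq_of_mem_Cpt D.toEx ((h2 _).2 ?_)
    rw [← hs, inv_smul_smul]
    exact Fv.self_mem i
  rw [h1, hlj]

end

/-! ### The sum of the other components -/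

section

variable (H) in
/-- the sum of the other components -/
def Dc [Fintype ι] (Ax R : ι → AddSubgroup M) (i : ι) : AddSubgroup M where
  carrier := {m | ∃ f : ι → M, (∀ j, f j ∈ Uc H Ax R j) ∧ f i = 0 ∧ m = ∑ j, f j}
  zero_mem' := ⟨fun _ => 0, fun _ => zero_mem _, rfl, by simp⟩
  add_mem' := by
    rintro _ _ ⟨f, hf, h0, rfl⟩ ⟨f', hf', h0', rfl⟩
    exact ⟨fun i => f i + f' i, fun i => add_mem (hf i) (hf' i), by simp only [h0, h0', add_zero],
      Finset.sum_add_distrib.symm⟩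
  neg_mem' := by
    rintro _ ⟨f, hf, h0, rfl⟩
    exact ⟨fun i => - f i, fun i => neg_mem (hf i), by simp only [h0, neg_zero], (Finset.sum_neg_distrib _).symm⟩

variable [Fintype ι] [Finite H] [Finite M] {T : ι → Subgroup H} {Ax R : ι → AddSubgroup M} {z : ι → M} {Z : Set M}

omit [Finite H] [Finite M] in
theorem Uc_le_Dc {i j : ι} (hij : j ≠ i) : Uc H Ax R j ≤ Dc H Ax R i := by
  classical
  intro m hm
  refine ⟨fun l => if l = j then m else 0, fun l => ?_, by simp [hij.symm], ?_⟩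
  · by_cases h : l = j
    · subst h
      simpa using hm
    · simp only [if_neg h]
      exact zero_mem _
  · rw [Finset.sum_ite_eq' Finset.univ j (fun _ => m), if_pos (Finset.mem_univ j)]

omit [Finite H] [Finite M] in
theorem mem_Dc_sup {i : ι} {f : ι → M} (hf : ∀ j, f j ∈ Uc H Ax R j) (h : f i ∈ R i) :
    ∑ j, f j ∈ Dc H Ax R i ⊔ R i := by
  classical
  rw [← Finset.add_sum_erase Finset.univ f (Finset.mem_univ i), add_comm]
  refine AddSubgroup.add_mem_sup (sum_mem fun j hj => ?_) h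
  exact Uc_le_Dc (Finset.ne_of_mem_erase hj) (hf j)

variable (D : Fv T Ax R z Z)
include D

theorem of_mem_Dc_sup {i : ι} {f : ι → M} (hf : ∀ j, f j ∈ Uc H Ax R j) (h : ∑ j, f j ∈ Dc H Ax R i ⊔ R i) :
    f i ∈ R i := by
  classical
  obtain ⟨_, ⟨f', hf', h0, rfl⟩, r, hr, h1⟩ := AddSubgroup.mem_sup.1 h
  have h2 := uniq D hf (f' := fun j => f' j + if j = i then r else 0) (fun j => add_mem (hf' j) (by
    by_cases hj : j = i
    · subst hj
      simpa using D.R_le_Uc j hr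
    · simp only [if_neg hj]
      exact zero_mem _)) (by
    rw [Finset.sum_add_distrib, Finset.sum_ite_eq' Finset.univ i (fun _ => r), if_pos (Finset.mem_univ i), h1]) i
  rw [h2]
  simpa [h0] using hr

theorem of_mem_Dc {i : ι} {f : ι → M} (hf : ∀ j, f j ∈ Uc H Ax R j) (h : ∑ j, f j ∈ Dc H Ax R i) : f i = 0 := by
  obtain ⟨f', hf', h0, h1⟩ := h
  rw [uniq D hf hf' h1 i, h0]

/-- `indep` -/
theorem indep {i : ι} {m : M} (hm : m ∈ Uc H Ax R i) (h : m ∈ Dc H Ax R i ⊔ R i) : m ∈ R i := by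
  classical
  have h1 : ∑ j, (if j = i then m else 0) = m := by
    rw [Finset.sum_ite_eq' Finset.univ i (fun _ => m), if_pos (Finset.mem_univ i)]
  have h2 := of_mem_Dc_sup D (i := i) (f := fun j => if j = i then m else 0) (fun j => by
    by_cases hj : j = i
    · subst hj
      simpa using hm
    · simp only [if_neg hj]
      exact zero_mem _) (by rw [h1]; exact h)
  simpa using h2

/-- `inter` -/
theorem inter {m : M} (hm : m ∈ ⨆ i, Uc H Ax R i) (h : ∀ i, m ∈ Dc H Ax R i ⊔ R i) : m ∈ ⨆ i, R i := by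
  obtain ⟨f, hf, rfl⟩ := exists_sum hm
  exact sum_mem_iSup fun i => of_mem_Dc_sup D hf (h i)

theorem iSup_R_le (i : ι) : (⨆ j, R j) ≤ Dc H Ax R i ⊔ R i := by
  refine iSup_le fun j => ?_
  by_cases hj : j = i
  · subst hj
    exact le_sup_right
  · exact ((D.R_le_Uc j).trans (Uc_le_Dc hj)).trans le_sup_left

theorem iSup_R_le_Uc : (⨆ j, R j) ≤ ⨆ i, Uc H Ax R i :=
  iSup_mono fun j => D.R_le_Uc j

end

/-! ### ONE AXIS -/

section

variable [Fintype ι] [Finite H] [Finite M] {T : ι → Subgroup H} {Ax R : ι → AddSubgroup M} {z : ι → M} {Z : Set M}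
  (D : Fv T Ax R z Z)
include D

/-- some `u ∈ U_i` is not in `Ax i` -/
theorem exists_not_mem (i : ι) : ∃ u ∈ Uc H Ax R i, u ∉ Ax i := by
  by_contra hcon
  push Not at hcon
  have hR : ∀ j, R j ≠ ⊥ := fun j => (D.comp j).rne j
  -- `Ax i = M`
  have h1 : ∀ m : M, m ∈ Ax i := by
    intro m
    obtain ⟨f, hf, w, hw, rfl⟩ := D.dec m
    refine add_mem (sum_mem fun j _ => ?_) (hw _ (Rt.isAx Ax i))
    by_cases hj : j = i
    · subst hj
      exact hcon _ (hf j)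
    · exact D.Uc_le (Ne.symm hj) (Fv.self_mem i) (hf j)
  obtain ⟨g, hg, hne⟩ := (D.comp i).sep (z i) (zU D i) (D.z0 i)
  obtain ⟨c, j, rfl⟩ := D.axSys.mem_A hg
  -- `Ax j = M` for all `j`
  obtain ⟨y, hy⟩ := D.trans i j
  apply hne
  rw [mem_smul, ← hy, mem_smul]
  exact h1 _

/-- ONE AXIS: separation. -/
theorem exists_sep (free : ∀ i, ∀ t ∈ T i, ∀ u : M, u ∉ Ax i → t • u = u → ∀ m : M, t • m = m) {i : ι}
    (one : OneAx (Ptt H Ax R (Cpt H Ax R i) (Uc H Ax R i)) (Vv T Ax R (Cpt H Ax R i) (Uc H Ax R i)))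
    {u : M} (hu : u ∈ Uc H Ax R i) (huA : u ∈ Ax i) (huR : u ∉ R i) :
    ∃ x : H, (∀ j, j ≠ i → ∀ v ∈ Uc H Ax R j, x • v = v) ∧ (∀ w ∈ Ic H Ax, x • w = w) ∧ (∀ r ∈ R i, x • r = r) ∧
      x • u - u ∈ Uc H Ax R i ∧ x • u - u ∉ R i := by
  have F := frame (D.comp i) ⟨_, Fv.self_mem i⟩ rfl free
  have hi1 : (1 : H) • Ax i ∈ Cpt H Ax R i := by
    rw [one_smul]
    exact Fv.self_mem i
  set e : AddSubgroup ↥(Uc H Ax R i) := ((1 : H) • R i).addSubgroupOf (Uc H Ax R i) with hedef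
  have he : e ∈ Ptt H Ax R (Cpt H Ax R i) (Uc H Ax R i) := ⟨1, i, hi1, rfl⟩
  -- `VV e` fixes `u`
  have hfix : ∀ v ∈ Vv T Ax R (Cpt H Ax R i) (Uc H Ax R i) e, v • (⟨u, hu⟩ : ↥(Uc H Ax R i)) = ⟨u, hu⟩ := by
    rcases F.dich one he ⟨u, hu⟩ with h1 | h1
    · exact h1
    · exfalso
      obtain ⟨w, hw, hwA⟩ := exists_not_mem D i
      have h0 : z i ≠ 0 := D.z0 i
      obtain ⟨t, ht, htw⟩ := D.full i w hwA _ (D.zR i)
      have h3 : (1 : H) * t * (1 : H)⁻¹ ∈ St H (Cpt H Ax R i) (Uc H Ax R i) :=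
        st_of_mem (D.comp i) (gen_mem (N := Nc T Ax R i) le_rfl hi1 ht)
      have h4 := h1.2 (act _ _ ⟨_, h3⟩) (Subgroup.subset_closure ⟨⟨_, h3⟩, 1, i, hi1, rfl, t, ht, rfl, rfl⟩) (by
        apply Subtype.ext
        rw [act_smul]
        change ((1 : H) * t * (1 : H)⁻¹) • u = u
        rw [one_mul, inv_one, mul_one]
        exact D.fix i t ht u huA)
      have h5 : act (Cpt H Ax R i) (Uc H Ax R i) ⟨_, h3⟩ • (⟨w, hw⟩ : ↥(Uc H Ax R i)) = ⟨w, hw⟩ := by
        rw [h4, one_smul]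
      have h6 := congrArg Subtype.val h5
      rw [act_smul] at h6
      change ((1 : H) * t * (1 : H)⁻¹) • w = w at h6
      rw [one_mul, inv_one, mul_one, htw] at h6
      exact h0 (left_eq_add.1 h6.symm)
  obtain ⟨p, hp, hpe, v, hv, hvu⟩ : ∃ p ∈ Ptt H Ax R (Cpt H Ax R i) (Uc H Ax R i),
      ¬ Mv (Vv T Ax R (Cpt H Ax R i) (Uc H Ax R i)) p e ∧
        ∃ v ∈ Vv T Ax R (Cpt H Ax R i) (Uc H Ax R i) p, v • (⟨u, hu⟩ : ↥(Uc H Ax R i)) ≠ ⟨u, hu⟩ := by
    by_contra hcon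
    push Not at hcon
    have h1 := F.inter one he hcon
    apply huR
    have h2 : u ∈ (1 : H) • R i := h1
    rwa [one_smul] at h2
  have hpne : p ≠ e := by
    rintro rfl
    exact hvu (hfix v hv)
  -- a generator
  obtain ⟨a, ha, hau⟩ : ∃ a ∈ Gn T Ax R (Cpt H Ax R i) (Uc H Ax R i) p, a • (⟨u, hu⟩ : ↥(Uc H Ax R i)) ≠ ⟨u, hu⟩ := by
    by_contra hcon
    push Not at hcon
    refine hvu (Subgroup.closure_induction (p := fun v _ => v • (⟨u, hu⟩ : ↥(Uc H Ax R i)) = ⟨u, hu⟩) hcon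
      (one_smul _ _) (fun a b _ _ ha hb => by rw [mul_smul, hb, ha])
      (fun a _ ha => by rw [inv_smul_eq_iff, ha]) hv)
  have haV : a ∈ Vv T Ax R (Cpt H Ax R i) (Uc H Ax R i) p := Subgroup.subset_closure ha
  have hap : a • (⟨u, hu⟩ : ↥(Uc H Ax R i)) - ⟨u, hu⟩ ∈ p := (vv_spec (D.comp i) haV).2 _
  obtain ⟨x, c, l, hc, hcp, t, ht, hx, rfl⟩ := ha
  have hTT : (x : H) ∈ TT T Ax (c • Ax l) := Subgroup.subset_closure ⟨c, l, rfl, t, ht, hx⟩
  obtain ⟨h1, h2⟩ := D.hfix i _ hc _ hTT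
  refine ⟨x, h1, h2, fun r hr => ?_, sub_mem (x.2.2.1 u hu) hu, fun hR => ?_⟩
  · have hre : (⟨r, D.R_le_Uc i hr⟩ : ↥(Uc H Ax R i)) ∈ e := by
      change r ∈ (1 : H) • R i
      rwa [one_smul]
    have h3 := RBig.Pts.not_mv hpe haV hre
    exact congrArg Subtype.val h3
  · have h3 : act (Cpt H Ax R i) (Uc H Ax R i) x • (⟨u, hu⟩ : ↥(Uc H Ax R i)) - ⟨u, hu⟩ ∈ e := by
      change (x : H) • u - u ∈ (1 : H) • R i
      rwa [one_smul]
    have h4 := F.disjoint one hp he hpne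
    have h5 : act (Cpt H Ax R i) (Uc H Ax R i) x • (⟨u, hu⟩ : ↥(Uc H Ax R i)) - ⟨u, hu⟩ ∈ p ⊓ e := ⟨hap, h3⟩
    rw [h4, AddSubgroup.mem_bot, sub_eq_zero] at h5
    exact hau h5

/-! ### MANY AXES -/

/-- `N_j`, `j ≠ i`, fixes the axes of `c_i`. -/
theorem Nc_smul {i j : ι} (hij : j ≠ i) {n : H} (hn : n ∈ Nc T Ax R j) {g : AddSubgroup M} (hg : g ∈ Cpt H Ax R i) :
    n • g = g := by
  have h1 : Nc T Ax R j ≤ MulAction.stabilizer H g := by
    refine iSup₂_le fun g' hg' t ht => ?_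
    rw [MulAction.mem_stabilizer_iff]
    refine D.axSys.smul_eq (D.axSys.mem_A hg') ?_ ht
    refine D.axSys.le_of_not_mem (D.axSys.mem_A hg') (D.axSys.mem_A hg) ?_
    rw [D.Cpt_eq hg']
    exact D.not_mem hij.symm hg
  exact MulAction.mem_stabilizer_iff.1 (h1 hn)

/-- 602's REPAIR 1: an axis over `R i` is of the form `k • Ax l` with `k` permuting the `R_j`. -/
theorem exists_norm {c : H} {i l : ι} (hc : c • Ax l ∈ Cpt H Ax R i) (hR : c • R l = R i) :
    ∃ k : H, k • Ax l = c • Ax l ∧ k • ∑ j, z j ∈ ⨆ j, R j := by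
  classical
  obtain ⟨σ, hσ⟩ := exists_perm D c
  obtain ⟨h1, h2⟩ := smul_sum D (fun i => (hσ i).1) (zU D)
  have hil : σ l = i := by
    refine eq_of_mem_Cpt D.toEx (j := i) ?_
    have h3 : c • Ax l ∈ Cpt H Ax R (σ l) := by
      rw [(hσ l).2, inv_smul_smul]
      exact Fv.self_mem l
    by_contra hne
    have : σ l ≠ i := by
      rintro rfl
      exact hne (Fv.self_mem _)
    exact D.not_mem this h3 hc
  have hli : σ.symm i = l := by rw [← hil, Equiv.symm_apply_apply]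
  have hne0 : ∀ j, c • z (σ.symm j) ≠ 0 := fun j h => D.z0 _ ((smul_eq_zero_iff_eq c).1 h)
  have key : ∀ s : Finset ι, i ∉ s → ∃ n : H, (∀ g ∈ Cpt H Ax R i, n • g = g) ∧
      n • (c • ∑ j, z j) = ∑ j, if j ∈ s then z j else c • z (σ.symm j) := by
    intro s
    induction s using Finset.induction_on with
    | empty => exact fun _ => ⟨1, fun g _ => one_smul _ _, by rw [one_smul, h1]; simp⟩
    | insert j s hj ih =>
      intro his
      rw [Finset.mem_insert, not_or] at his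
      obtain ⟨n, hn, e⟩ := ih his.2
      obtain ⟨m, hm, hmj⟩ := (D.comp j).tr (c • z (σ.symm j)) (h2 j) (hne0 j) (z j) (zU D j) (D.z0 j)
      refine ⟨m * n, fun g hg => by rw [mul_smul, hn g hg, Nc_smul D (Ne.symm his.1) hm hg], ?_⟩
      rw [mul_smul, e, Finset.smul_sum]
      refine Finset.sum_congr rfl fun a _ => ?_
      by_cases h4 : a = j
      · subst h4
        rw [if_neg hj, if_pos (Finset.mem_insert_self _ _), hmj]
      · by_cases h5 : a ∈ s
        · rw [if_pos h5, if_pos (Finset.mem_insert_of_mem h5)]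
          exact (D.Nc_fix hm).1 a h4 _ (zU D a)
        · rw [if_neg h5, if_neg (fun h6 => h5 ((Finset.mem_insert.1 h6).resolve_left h4))]
          exact (D.Nc_fix hm).1 a h4 _ (h2 a)
  obtain ⟨n, hn, e⟩ := key (Finset.univ.erase i) (Finset.notMem_erase i _)
  refine ⟨n * c, by rw [mul_smul, hn _ hc], ?_⟩
  rw [mul_smul, e]
  refine sum_mem fun j _ => ?_
  by_cases hj : j = i
  · subst hj
    rw [if_neg (Finset.notMem_erase j _), hli]
    refine AddSubgroup.mem_iSup_of_mem j ?_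
    rw [← hR]
    exact AddSubgroup.smul_mem_pointwise_smul _ _ _ (D.zR l)
  · rw [if_pos (Finset.mem_erase.2 ⟨hj, Finset.mem_univ j⟩)]
    exact AddSubgroup.mem_iSup_of_mem j (D.zR j)

/-- **MANY AXES**: a vector of `⊕ U_i` in all the axes `k • Ax l`, `k` permuting the `R_j`, lies in `∑ R_i`. -/
theorem mem_of_many (free : ∀ i, ∀ t ∈ T i, ∀ u : M, u ∉ Ax i → t • u = u → ∀ m : M, t • m = m)
    (many : ∀ i, Many T Ax R (Cpt H Ax R i) (Uc H Ax R i)) {m : M} (hm : m ∈ ⨆ i, Uc H Ax R i)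
    (h : ∀ k : H, k • ∑ j, z j ∈ ⨆ j, R j → ∀ l, m ∈ k • Ax l) : m ∈ ⨆ i, R i := by
  classical
  obtain ⟨f, hf, rfl⟩ := exists_sum hm
  refine sum_mem_iSup fun i => ?_
  have hi1 : (1 : H) • Ax i ∈ Cpt H Ax R i := by
    rw [one_smul]
    exact Fv.self_mem i
  have h1 := mem_of_mem_axes (D.comp i) rfl free (many i) hi1 (hf i) (fun c l hc hcR => by
    rw [one_smul] at hcR
    obtain ⟨k, hk, hk'⟩ := exists_norm D hc hcR
    have h2 := h k hk' l
    rw [hk, ← Finset.add_sum_erase Finset.univ f (Finset.mem_univ i)] at h2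
    refine ((c • Ax l).add_mem_cancel_right (sum_mem fun j hj => ?_)).1 h2
    exact D.Uc_le (Finset.ne_of_mem_erase hj).symm hc (hf j))
  rwa [one_smul] at h1

end

end Cfsg.Agent.Omega.NOThreeL.RSplit.EndFv

end

end

-- merged: Cfsg.Agent.Mrg.Omega.NOThreeL.RSplit.FiveG
section

section


/-!
# NO-3L, box R ∩ (A), `q > 2`, `V_P` split (#19602, helper797): (5), (6) at group level

`h : Hyp M V₀`, `E : MinA S P H`; `Z = zc S`, `Z₀ = Z ∩ V₀`, `F_H = C_Z(H)`, `E = C_Z(P)`.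

* `Hyp.le_o2_cent` (#) : `z ∈ Z - F_H` implies `V ≤ O₂(C_H(z))`;
* `Hyp.fv` : the instance of `Five.Fv` for every `1 ≠ z₀ ∈ Z₀`;
* **`Hyp.zdec`** (5) : `Z ≤ Z₀ F_H`; `Hyp.mem_Ic_iff` : `C_U(N) = F_H`; `Hyp.EF` : `C_Z(P) ∩ C_Z(H) = 1`;
* **`Hyp.card_Z0`** (6) : `|Z₀| = 2` unless `D = C_Z(P) = 1`;
* `Hyp.exists_ef` : then `Z = ⟨e, f⟩`, `D = ⟨e⟩`, `F_H = ⟨f⟩`, `Z₀ = ⟨e f⟩`; `Hyp.cent_z0` : `C_H(z₀) = C_G(Z)`.
-/

set_option autoImplicit false
set_option linter.unusedSectionVars false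

namespace Cfsg.Agent.Omega.NOThreeL.RSplit

open Subgroup Cfsg Cfsg.Agent.Omega.MinPar
open Cfsg.Agent.ZN (zc zl o2)
open Cfsg.Agent.Omega.Frame Cfsg.Agent.Omega.FrameNOFF
open Cfsg.Agent.Omega.Node.NO3L Cfsg.Agent.Omega.NOThreeL.Basic
open Cfsg.Agent.Omega.NoFF.Basic (conj_conj mem_conj conj_le_iff conj_le_centralizer comm_symm comm_mono)
open Cfsg.Agent.Omega.NOThreeL.Pair (conj_eq_of_mem conj_le_normalizer zl_abel)
open Cfsg.Agent.MinSimple.VModule (zl_le zc_le_zl le_normalizer_zl zc_le o2_isPGroup le_normalizer_o2 le_o2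
  normalizer_le_normalizer_zc mem_zc)
open Cfsg.Agent.Omega.NOThreeL.RTools (NN isLong)
open Cfsg.Agent.Omega.FFThm (Off NatK ActsSL)
open Cfsg.Agent.Omega.NOThreeL.ThmAx (Full IsAx TT YY mem_smul IsAx.smul YY_smul_eq)
open Cfsg.Agent.Omega.NOThreeL.RSplit.TransRt (Axs)
open Cfsg.Agent.Omega.NOThreeL.RSplit.Five (Cpt Nc Uc Ic Fv)
open scoped Pointwise

universe u

variable {G : Type u} [Group G] {F : Type} [Field F] {k : ℕ}

namespace Hyp

variable [Finite G] {S : Sylow 2 G} {P H D V₀ : Subgroup G}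
variable {M : NatK F (S : Subgroup G) P (zl (S : Subgroup G) P) D k} (h : Hyp M V₀)

/-- the vectors of `Z` -/
def Zv (E : PairA (S : Subgroup G) P H) : Set (h.nrm E).Mod := {m | (h.nrm E).val m ∈ zc (S : Subgroup G)}

include h

theorem SH (E : PairA (S : Subgroup G) P H) : (S : Subgroup G) ≤ H := E.long.loc.le

/-- (#) -/
theorem le_o2_cent (E : MinA (S : Subgroup G) P H) {z : G} (hz : z ∈ zc (S : Subgroup G))
    (hzH : z ∉ centralizer (H : Set G)) :
    zl (S : Subgroup G) P ≤ o2 (H ⊓ centralizer ({z} : Set G)) := by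
  have hC : CZ (S : Subgroup G) ≤ H ⊓ centralizer ({z} : Set G) :=
    le_inf E.long.cz (centralizer_le (Set.singleton_subset_iff.2 hz))
  have hl : IsLong (S : Subgroup G) (H ⊓ centralizer ({z} : Set G)) :=
    ⟨E.long.loc.of_le S ((le_CZ S).trans hC) inf_le_left, hC⟩
  refine le_o2_of_comm (h.data.low P h.par) hl (E.min _ hl inf_le_left fun he => hzH ?_)
  rw [mem_centralizer_iff]
  intro x hx
  have h1 : x ∈ H ⊓ centralizer ({z} : Set G) := by rw [he]; exact hx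
  exact (mem_centralizer_iff.1 h1.2 z rfl).symm

/-- `E ∩ F = 1` -/
theorem EF (E : PairA (S : Subgroup G) P H) {x : G} (hx : x ∈ zc (S : Subgroup G))
    (hP : x ∈ centralizer (P : Set G)) (hH : x ∈ centralizer (H : Set G)) : x = 1 := by
  by_contra h1
  have hL : IsLong (S : Subgroup G) (centralizer ({x} : Set G)) := isLong S hx h1
  have h2 : P ≤ centralizer ({x} : Set G) := fun p hp => by
    rw [mem_centralizer_singleton_iff]
    exact mem_centralizer_iff.1 hP p hp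
  have h3 : H ≤ centralizer ({x} : Set G) := fun p hp => by
    rw [mem_centralizer_singleton_iff]
    exact mem_centralizer_iff.1 hH p hp
  have h4 : zl (S : Subgroup G) P ≤ zl (S : Subgroup G) (centralizer ({x} : Set G)) :=
    zl_le (zc_le_zl _ _) (h2.trans (le_normalizer_zl _ _))
  have h5 : zl (S : Subgroup G) H ≤ zl (S : Subgroup G) (centralizer ({x} : Set G)) :=
    zl_le (zc_le_zl _ _) (h3.trans (le_normalizer_zl _ _))
  exact E.ne (h4.trans ((zl_abel h.hc S hL.loc).1.trans (centralizer_le h5)))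

/-- `Z ≤ Z₀ E` -/
theorem zE : zc (S : Subgroup G) ≤ (zc (S : Subgroup G) ⊓ V₀) ⊔ (zc (S : Subgroup G) ⊓ centralizer (P : Set G)) := by
  intro z hz
  obtain ⟨w, hw, d, hd, rfl⟩ := h.exists_mul (zc_le_zl _ _ hz)
  have hdz := h.D_le_zc hd
  have hwz : w ∈ zc (S : Subgroup G) := by
    have := mul_mem hz (inv_mem hdz)
    rwa [mul_inv_cancel_right] at this
  exact mul_mem (mem_sup_left ⟨hwz, hw⟩) (mem_sup_right ⟨hdz, h.D_le_cent hd⟩)

/-- `C_Z(P) = D` -/
theorem cent_P : zc (S : Subgroup G) ⊓ centralizer (P : Set G) = D := by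
  refine le_antisymm ?_ (le_inf h.D_le_zc h.D_le_cent)
  intro z hz
  obtain ⟨w, hw, d, hd, rfl⟩ := h.exists_mul (zc_le_zl _ _ hz.1)
  have hwP : w ∈ centralizer (P : Set G) := by
    have : w * d * d⁻¹ ∈ centralizer (P : Set G) := mul_mem hz.2 (inv_mem (h.D_le_cent hd))
    rwa [mul_inv_cancel_right] at this
  have hw1 : w = 1 := by
    refine h.inj hw (one_mem _) ?_
    rw [RStr.e_one M]
    have key : ∀ i, M.e w i 0 = 0 ∧ M.e w i 1 = 0 := by
      intro i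
      obtain ⟨g, hg, hA⟩ := M.lift fun _ => Lib.SL2Mat.up 1
      have h1 := hA.1 w (h.V0V hw) i
      rw [mem_centralizer_iff.1 hwP g hg, mul_inv_cancel_right, RAOne.ap_up'] at h1
      have h2 := congrFun h1 0
      obtain ⟨g', hg', hA'⟩ := M.lift fun _ => Lib.SL2Mat.lo 1
      have h3 := hA'.1 w (h.V0V hw) i
      rw [mem_centralizer_iff.1 hwP g' hg', mul_inv_cancel_right, RAOne.ap_lo'] at h3
      have h4 := congrFun h3 1
      simp at h2 h4
      exact ⟨h4, h2⟩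
    funext i l
    fin_cases l
    · exact (key i).1
    · exact (key i).2
  rw [hw1, one_mul]
  exact hd

theorem nP : ∀ g ∈ P ⊓ normalizer ((S : Subgroup G) : Set G), ∀ x ∈ zc (S : Subgroup G) ⊓ V₀,
    g * x * g⁻¹ ∈ zc (S : Subgroup G) ⊓ V₀ := fun _ hg x hx =>
  ⟨(mem_normalizer_iff.1 (normalizer_le_normalizer_zc _ hg.2) x).1 hx.1, h.conV0 hg.1 hx.2⟩

theorem e_ne {z : G} (hz : z ∈ zc (S : Subgroup G)) (hV : z ∈ V₀) (h1 : z ≠ 1) (i : Fin k) :
    M.e z i 0 ≠ 0 ∧ M.e z i 1 = 0 := by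
  have h2 : M.e z i 1 = 0 := by
    obtain ⟨t, ht, hb⟩ := M.unip fun _ => 1
    have h3 := hb.1 z (h.V0V hV) i
    rw [(mem_zc.1 hz).2.1 t ht, mul_inv_cancel_right, RAOne.ap_up'] at h3
    have h4 := congrFun h3 0
    simpa using h4
  have h3 : M.e z i ≠ 0 := by
    intro h4
    apply h1
    refine h.inj hV (one_mem _) ?_
    rw [RStr.e_one M]
    funext j
    obtain ⟨s, hs, h5⟩ := M.trans i j
    have h6 := (h5 z (h.V0V hV)).2 h4
    rwa [(mem_zc.1 hz).2.1 s hs, mul_inv_cancel_right] at h6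
  refine ⟨fun h4 => h3 ?_, h2⟩
  funext l
  fin_cases l
  · exact h4
  · exact h2

variable [CharP F 2]

theorem fuseP : ∀ x ∈ zc (S : Subgroup G) ⊓ V₀, ∀ y ∈ zc (S : Subgroup G) ⊓ V₀, x ≠ 1 → y ≠ 1 →
    ∃ g ∈ P, g * x * g⁻¹ = y := fun _ hx _ hy hx1 hy1 =>
  h.exists_conj hy.2 (h.e_ne hy.1 hy.2 hy1) hx.2 (h.e_ne hx.1 hx.2 hx1)

/-- vectors of `Z` in all axes are centralised by `H` -/
theorem cent_of_Ic (E : MinA (S : Subgroup G) P H) {z : G} (hz : z ∈ zc (S : Subgroup G))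
    (hI : (h.nrm E.toPairA).of z (zc_le_zl _ _ hz) ∈ Ic H (h.Ax E.toPairA)) : z ∈ centralizer (H : Set G) := by
  have hA := TransRt.axSys (h.rt E.toPairA) (h.big' E.toPairA)
  rw [mem_centralizer_iff]
  intro x hx
  obtain ⟨n, hn, c, hcc, rfl⟩ := h.exists_nc E hx
  obtain ⟨hnH, n', hn', h1⟩ := h.exists_NN E.toPairA hn
  have h2 := hA.fixed_iff.1 (fun g hg => hI g hg) n' hn'
  have h3 := Nrm.ext_iff.1 ((h1 _).trans h2)
  rw [Nrm.val_smul, Nrm.val_of] at h3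
  have h4 : n * z = z * n := mul_inv_eq_iff_eq_mul.1 h3
  rw [mul_assoc, ← mem_centralizer_iff.1 hcc z hz, ← mul_assoc, h4, mul_assoc]

/-- vectors centralised by `H` are in all axes -/
theorem Ic_of_cent (E : PairA (S : Subgroup G) P H) {m : (h.nrm E).Mod}
    (hm : (h.nrm E).val m ∈ centralizer (H : Set G)) : m ∈ Ic H (h.Ax E) := by
  rintro _ ⟨x, i, rfl⟩
  rw [Nrm.smul_ad, Nrm.mem_ad, mem_conj]
  have h1 : (x : G)⁻¹ * (h.nrm E).val m * x = (h.nrm E).val m := by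
    rw [mul_assoc, ← mem_centralizer_iff.1 hm x x.2, inv_mul_cancel_left]
  rw [h1, mem_centralizer_iff]
  exact fun v hv => mem_centralizer_iff.1 hm v (h.VH E hv.2.1)

/-- `U` is generated by the conjugates of `Z` -/
theorem gen (E : PairA (S : Subgroup G) P H) :
    AddSubgroup.closure {m : (h.nrm E).Mod | ∃ (x : H), ∃ u ∈ h.Zv E, m = x • u} = ⊤ := by
  set X := AddSubgroup.closure {m : (h.nrm E).Mod | ∃ (x : H), ∃ u ∈ h.Zv E, m = x • u} with hX
  have hXs : ∀ (x : H), ∀ m ∈ X, x • m ∈ X := by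
    intro x m hm
    induction hm using AddSubgroup.closure_induction with
    | mem m hm =>
      obtain ⟨y, u, hu, rfl⟩ := hm
      exact AddSubgroup.subset_closure ⟨x * y, u, hu, (mul_smul _ _ _).symm⟩
    | zero => rw [smul_zero]; exact zero_mem _
    | add a b _ _ ha hb => rw [smul_add]; exact add_mem ha hb
    | neg a _ ha => rw [smul_neg]; exact neg_mem ha
  let X' : Subgroup G :=
    { carrier := {x | ∃ hx : x ∈ zl (S : Subgroup G) H, (h.nrm E).of x hx ∈ X}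
      one_mem' := ⟨one_mem _, X.zero_mem⟩
      mul_mem' := by
        rintro a b ⟨ha, ha'⟩ ⟨hb, hb'⟩
        exact ⟨mul_mem ha hb, X.add_mem ha' hb'⟩
      inv_mem' := by
        rintro a ⟨ha, ha'⟩
        exact ⟨inv_mem ha, X.neg_mem ha'⟩ }
  have h1 : zl (S : Subgroup G) H ≤ X' := by
    refine zl_le (fun z hz => ⟨zc_le_zl _ _ hz, AddSubgroup.subset_closure ⟨1, _, hz, (one_smul _ _).symm⟩⟩) ?_
    have key : ∀ g ∈ H, ∀ x ∈ X', g * x * g⁻¹ ∈ X' := by
      rintro g hg x ⟨hx, hx'⟩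
      exact ⟨(mem_normalizer_iff.1 (le_normalizer_zl _ _ hg) x).1 hx, hXs ⟨g, hg⟩ _ hx'⟩
    intro g hg
    rw [mem_normalizer_iff]
    refine fun x => ⟨key g hg x, fun hx => ?_⟩
    have := key g⁻¹ (inv_mem hg) _ hx
    have e : g⁻¹ * (g * x * g⁻¹) * g⁻¹⁻¹ = x := by group
    rwa [e] at this
  rw [eq_top_iff]
  intro m _
  obtain ⟨_, h2⟩ := h1 (Nrm.val_mem _ m)
  exact h2

/-- `V ≤ O₂(C_H(z))` in the module -/
theorem two (E : MinA (S : Subgroup G) P H) : ∀ u ∈ h.Zv E.toPairA, u ∉ Ic H (h.Ax E.toPairA) → ∀ i,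
    ∀ a ∈ TH M V₀ H i, ∀ b : H, b • u = u → (∀ m : (h.nrm E.toPairA).Mod, b • b • m = m) →
      ∃ n : ℕ, ∀ m : (h.nrm E.toPairA).Mod, ((b * a) ^ (2 ^ n)) • m = m := by
  intro u hu huI i a ha b hbu hbb
  set z : G := (h.nrm E.toPairA).val u with hz
  have hzH : z ∉ centralizer (H : Set G) := fun h1 => huI (h.Ic_of_cent E.toPairA h1)
  have h1 := h.le_o2_cent E hu hzH
  set K : Subgroup G := H ⊓ centralizer ({z} : Set G) with hK
  have hbK : (b : G) ∈ K := by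
    refine mem_inf.2 ⟨b.2, mem_centralizer_singleton_iff.2 ?_⟩
    have h2 := Nrm.ext_iff.1 hbu
    rw [Nrm.val_smul] at h2
    exact mul_inv_eq_iff_eq_mul.1 h2
  have haO : (a : G) ∈ o2 K := h1 (mem_subgroupOf.1 ha).2.1
  -- `c = b⁻¹ a b a`
  have hcO : ((b⁻¹ * a * b * a : H) : G) ∈ o2 K := by
    refine mul_mem ?_ haO
    have h2 := (mem_normalizer_iff.1 (le_normalizer_o2 K (inv_mem hbK)) (a : G)).1 haO
    rwa [inv_inv] at h2
  obtain ⟨n, hn⟩ := (o2_isPGroup K) ⟨_, hcO⟩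
  obtain ⟨c, hc⟩ : ∃ c : H, c = b⁻¹ * a * b * a := ⟨_, rfl⟩
  have hn' : c ^ (2 ^ n) = 1 := by
    refine Subtype.ext ?_
    have h3 : ((b⁻¹ * a * b * a : H) : G) ^ (2 ^ n) = 1 := congrArg (Subtype.val : o2 K → G) hn
    rw [hc]
    exact h3
  refine ⟨n + 1, fun m => ?_⟩
  have e : (b * a) ^ (2 ^ (n + 1)) = (b * b * c) ^ (2 ^ n) := by
    rw [pow_succ', pow_mul, pow_two, hc]
    congr 1
    group
  rw [e]
  have key : ∀ (l : ℕ) (m : (h.nrm E.toPairA).Mod), ((b * b * c) ^ l) • m = (c ^ l) • m := by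
    intro l
    induction l with
    | zero => intro m; rw [pow_zero, pow_zero]
    | succ l ih =>
      intro m
      rw [pow_succ', pow_succ', mul_smul, mul_smul, ih, mul_smul c, mul_smul b b, hbb]
  rw [key, hn', one_smul]

/-- **The instance of `Five.Fv`.** -/
theorem fv (E : MinA (S : Subgroup G) P H) {z₀ : G} (hz : z₀ ∈ zc (S : Subgroup G)) (hV : z₀ ∈ V₀) (h1 : z₀ ≠ 1) :
    ∃ f : Fin k → (h.nrm E.toPairA).Mod, ∑ i, f i = (h.nrm E.toPairA).of z₀ (zc_le_zl _ _ hz) ∧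
      Fv (TH M V₀ H) (h.Ax E.toPairA) (h.R E.toPairA) f (h.Zv E.toPairA) := by
  have hEx := h.ex E.toPairA
  have hfull := h.full_of E.toPairA hV (zc_le_zl _ _ hz) (h.e_z0 E.toPairA hV hz h1)
  have hfull' := hfull
  obtain ⟨f, hf, he⟩ := hfull
  have hsit : ∀ z, ∀ hz : z ∈ zc (S : Subgroup G),
      (h.nrm E.toPairA).of z (zc_le_zl _ _ hz) ∉ Ic H (h.Ax E.toPairA) →
      RBig.Trans.Sit (Axs H (h.Ax E.toPairA)) (TT (TH M V₀ H) (h.Ax E.toPairA)) (YY H (h.Ax E.toPairA) (h.R E.toPairA))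
        ((h.nrm E.toPairA).of z (zc_le_zl _ _ hz)) := by
    intro z hz hI
    refine h.sit E hz ?_
    by_contra hcon
    push Not at hcon
    apply hI
    rintro _ ⟨x, i, rfl⟩
    exact hcon x i
  refine ⟨f, he.symm, { toEx := hEx, zR := fun i => (hf i).1, z0 := fun i => (hf i).2, sit := ?_, one := ?_, gen := ?_, two := ?_ }⟩
  · rw [← he]
    refine hsit z₀ hz fun hI => ?_
    obtain ⟨g, hg, hi⟩ := hEx.nt ⟨0, h.kpos⟩
    exact hi (hEx.six hg hfull' (hI g hg) _)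
  · intro u hu
    by_cases hI : u ∈ Ic H (h.Ax E.toPairA)
    · exact Or.inl hI
    · exact Or.inr (hsit _ hu hI)
  · exact h.gen E.toPairA
  · exact h.two E

/-- `∑ R_i` is in `V₀` -/
theorem R_le (E : PairA (S : Subgroup G) P H) : (⨆ i, h.R E i) ≤ (h.nrm E).ad V₀ :=
  iSup_le fun _ _ hm => hm.1.1

theorem smul_R (E : PairA (S : Subgroup G) P H) {s : G} (hs : s ∈ (S : Subgroup G)) (i : Fin k) :
    (⟨s, h.SH E hs⟩ : H) • h.R E i ≤ ⨆ j, h.R E j := by
  rw [Nrm.smul_ad]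
  change (h.nrm E).ad (MulAut.conj s • rr M V₀ i) ≤ _
  rw [h.conj_rr hs]
  exact le_iSup (h.R E) _

/-- the `H`-fixed part -/
theorem exists_dec (E : MinA (S : Subgroup G) P H) {z : G} (hz : z ∈ zc (S : Subgroup G)) :
    ∃ f : Fin k → (h.nrm E.toPairA).Mod, (∀ i, f i ∈ h.R E.toPairA i) ∧ ∃ y, ∃ hy : y ∈ zc (S : Subgroup G),
      y ∈ centralizer (H : Set G) ∧ (h.nrm E.toPairA).val (∑ i, f i) ∈ zc (S : Subgroup G) ⊓ V₀ ∧
        z = (h.nrm E.toPairA).val (∑ i, f i) * y ∧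
        (h.nrm E.toPairA).of y (zc_le_zl _ _ hy) ∈ Ic H (h.Ax E.toPairA) := by
  obtain ⟨z₀, h0, hz0, h1⟩ := h.exists_z0
  obtain ⟨f₀, -, D'⟩ := h.fv E hz0 h0 h1
  obtain ⟨f, hf, w, hw, he⟩ := D'.zmem (u := (h.nrm E.toPairA).of z (zc_le_zl _ _ hz)) hz
  have hfix : ∀ s ∈ (S : Subgroup G), s * (h.nrm E.toPairA).val (∑ i, f i) * s⁻¹ = (h.nrm E.toPairA).val (∑ i, f i) ∧
      s * (h.nrm E.toPairA).val w * s⁻¹ = (h.nrm E.toPairA).val w := by
    intro s hs
    obtain ⟨h2, h3⟩ := D'.zfix hf hw (s := ⟨s, h.SH E.toPairA hs⟩) (by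
      rw [← he]
      refine Nrm.ext ?_
      rw [Nrm.val_smul, Nrm.val_of]
      change s * z * s⁻¹ = z
      rw [(mem_zc.1 hz).2.1 s hs, mul_inv_cancel_right]) fun i => h.smul_R E.toPairA hs i
    exact ⟨Nrm.ext_iff.1 h2, Nrm.ext_iff.1 h3⟩
  have hzc : ∀ x, x ∈ zl (S : Subgroup G) H → (∀ s ∈ (S : Subgroup G), s * x * s⁻¹ = x) → x ∈ zc (S : Subgroup G) := by
    intro x hx hs
    refine mem_zc.2 ⟨h.US E.toPairA hx, fun s hs' => mul_inv_eq_iff_eq_mul.1 (hs s hs'), ?_⟩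
    rw [pow_two]
    exact h.sqU E.toPairA hx
  have hwz := hzc _ (Nrm.val_mem _ w) fun s hs => (hfix s hs).2
  have hfz := hzc _ (Nrm.val_mem _ (∑ i, f i)) fun s hs => (hfix s hs).1
  refine ⟨f, hf, (h.nrm E.toPairA).val w, hwz, h.cent_of_Ic E hwz hw, ⟨hfz, ?_⟩, ?_, hw⟩
  · exact h.R_le E.toPairA (sum_mem fun i _ => AddSubgroup.mem_iSup_of_mem i (hf i))
  · have h2 := Nrm.ext_iff.1 he
    rwa [Nrm.val_of, Nrm.val_add] at h2

/-- **(5)** `Z ≤ Z₀ F_H` -/
theorem zdec (E : MinA (S : Subgroup G) P H) :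
    zc (S : Subgroup G) ≤ (zc (S : Subgroup G) ⊓ V₀) ⊔ (zc (S : Subgroup G) ⊓ centralizer (H : Set G)) := by
  intro z hz
  obtain ⟨f, -, y, hy, hyH, hx, rfl, -⟩ := h.exists_dec E hz
  exact mul_mem (mem_sup_left hx) (mem_sup_right ⟨hy, hyH⟩)

/-- `Z₀ ∩ F_H = 1` -/
theorem Z0_F (E : MinA (S : Subgroup G) P H) {x : G} (hx : x ∈ zc (S : Subgroup G)) (hV : x ∈ V₀)
    (hH : x ∈ centralizer (H : Set G)) : x = 1 := by
  by_contra h1
  have hfull := h.full_of E.toPairA hV (zc_le_zl _ _ hx) (h.e_z0 E.toPairA hV hx h1)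
  obtain ⟨g, hg, hi⟩ := (h.ex E.toPairA).nt ⟨0, h.kpos⟩
  have h2 := h.Ic_of_cent E.toPairA (m := (h.nrm E.toPairA).of x (zc_le_zl _ _ hx)) hH
  exact hi ((h.ex E.toPairA).six hg hfull (h2 g hg) _)

/-- **`C_U(N) = F_H`** -/
theorem mem_Ic_iff (E : MinA (S : Subgroup G) P H) {m : (h.nrm E.toPairA).Mod} :
    m ∈ Ic H (h.Ax E.toPairA) ↔ (h.nrm E.toPairA).val m ∈ zc (S : Subgroup G) ⊓ centralizer (H : Set G) := by
  refine ⟨fun hm => ?_, fun hm => h.Ic_of_cent E.toPairA hm.2⟩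
  obtain ⟨z₀, h0, hz0, h1⟩ := h.exists_z0
  obtain ⟨f₀, -, D'⟩ := h.fv E hz0 h0 h1
  set FF : AddSubgroup (h.nrm E.toPairA).Mod :=
    (h.nrm E.toPairA).ad (zc (S : Subgroup G) ⊓ centralizer (H : Set G)) with hFF
  have h2 : (⊤ : AddSubgroup (h.nrm E.toPairA).Mod) ≤ (⨆ i, Uc H (h.Ax E.toPairA) (h.R E.toPairA) i) ⊔ FF := by
    rw [← h.gen E.toPairA, AddSubgroup.closure_le]
    rintro _ ⟨x, u, hu, rfl⟩
    obtain ⟨f, hf, y, hy, hyH, hx, e, hyI⟩ := h.exists_dec E hu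
    have e' : u = ∑ i, f i + (h.nrm E.toPairA).of y (zc_le_zl _ _ hy) := Nrm.ext e
    rw [e', smul_add, Finset.smul_sum]
    refine add_mem (sum_mem fun i _ => ?_) (AddSubgroup.mem_sup_right ?_)
    · obtain ⟨j, hj⟩ := D'.smul_Uc x i
      refine AddSubgroup.mem_sup_left (AddSubgroup.mem_iSup_of_mem j ?_)
      rw [← hj]
      exact AddSubgroup.smul_mem_pointwise_smul _ _ _ (D'.R_le_Uc i (hf i))
    · rw [Nrm.mem_ad, Nrm.val_smul, Nrm.val_of]
      rw [mem_centralizer_iff.1 hyH x x.2, mul_inv_cancel_right]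
      exact ⟨hy, hyH⟩
  obtain ⟨y, hy, w, hw, e⟩ := AddSubgroup.mem_sup.1 (h2 (AddSubgroup.mem_top m))
  have hwI : w ∈ Ic H (h.Ax E.toPairA) := h.Ic_of_cent E.toPairA hw.2
  have h3 : (⨆ i, Uc H (h.Ax E.toPairA) (h.R E.toPairA) i) ≤
      ⨆ g ∈ Axs H (h.Ax E.toPairA), YY H (h.Ax E.toPairA) (h.R E.toPairA) g :=
    iSup_le fun i => iSup₂_le fun g hg => le_iSup₂_of_le g (D'.axSys.mem_A hg) le_rfl
  obtain ⟨f, hf, rfl⟩ := D'.exists_of_mem (h3 hy)
  have h4 := D'.uniq hf (sub_mem hwI hm) (by rw [← e]; abel)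
  have h5 : m = w := (sub_eq_zero.1 h4.2).symm
  rw [h5]
  exact hw

theorem fuseH (E : MinA (S : Subgroup G) P H) : ∀ x ∈ zc (S : Subgroup G) ⊓ V₀, ∀ y ∈ zc (S : Subgroup G) ⊓ V₀,
    x ≠ 1 → y ≠ 1 → ∃ g ∈ H, g * x * g⁻¹ = y := by
  intro x hx y hy hx1 hy1
  obtain ⟨f, hf, D'⟩ := h.fv E hx.1 hx.2 hx1
  obtain ⟨f', hf', D''⟩ := h.fv E hy.1 hy.2 hy1
  obtain ⟨n, hn, e⟩ := D'.fuse (fun i => D'.R_le_Uc i (D'.zR i)) D'.z0 (fun i => D''.R_le_Uc i (D''.zR i)) D''.z0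
  rw [hf, hf'] at e
  exact ⟨n, n.2, Nrm.ext_iff.1 e⟩

theorem nH (E : MinA (S : Subgroup G) P H) : ∀ g ∈ H ⊓ normalizer ((S : Subgroup G) : Set G),
    ∀ x ∈ zc (S : Subgroup G) ⊓ V₀, g * x * g⁻¹ ∈ zc (S : Subgroup G) ⊓ V₀ := by
  intro g hg x hx
  by_cases hx1 : x = 1
  · rw [hx1, mul_one, mul_inv_cancel]
    exact one_mem _
  have hgx : g * x * g⁻¹ ∈ zc (S : Subgroup G) := (mem_normalizer_iff.1 (normalizer_le_normalizer_zc _ hg.2) x).1 hx.1
  refine ⟨hgx, ?_⟩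
  obtain ⟨f, hf, D'⟩ := h.fv E hx.1 hx.2 hx1
  obtain ⟨f', hf', y, hy, hyH, hx', e, hyI⟩ := h.exists_dec E hgx
  -- `g x g⁻¹` is in the sum of the `U_i`
  have h1 : (⟨g, hg.1⟩ : H) • ∑ i, f i ∈ ⨆ g ∈ Axs H (h.Ax E.toPairA), YY H (h.Ax E.toPairA) (h.R E.toPairA) g := by
    rw [Finset.smul_sum]
    refine sum_mem fun i _ => ?_
    obtain ⟨j, hj⟩ := D'.smul_Uc (⟨g, hg.1⟩ : H) i
    have h2 : (⟨g, hg.1⟩ : H) • f i ∈ Uc H (h.Ax E.toPairA) (h.R E.toPairA) j := by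
      rw [← hj]
      exact AddSubgroup.smul_mem_pointwise_smul _ _ _ (D'.R_le_Uc i (D'.zR i))
    exact (iSup₂_le fun g hg => le_iSup₂_of_le g (D'.axSys.mem_A hg) le_rfl :
      Uc H (h.Ax E.toPairA) (h.R E.toPairA) j ≤ _) h2
  obtain ⟨f'', hf'', e''⟩ := D'.exists_of_mem h1
  have e1 : ∑ i, f'' i = ∑ i, f' i + (h.nrm E.toPairA).of y (zc_le_zl _ _ hy) := by
    rw [← e'', hf]
    exact Nrm.ext e
  have h4 := D'.uniq (f := fun i => f' i - f'' i) (fun i => sub_mem (D'.R_le_Uc i (hf' i)) (hf'' i)) hyI (by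
    rw [Finset.sum_sub_distrib, e1]
    abel)
  have h5 : y = 1 := Nrm.eq_zero_iff.1 h4.2
  rw [e, h5, mul_one]
  exact hx'.2

/-- **(6)** `|Z₀| > 2` implies `Z ≤ V₀` -/
theorem zc_le_V0 (E : MinA (S : Subgroup G) P H) (h2 : 2 < Nat.card (zc (S : Subgroup G) ⊓ V₀ : Subgroup G)) :
    zc (S : Subgroup G) ≤ V₀ :=
  (RBig.BigZ.main S h.SP (h.SH E.toPairA) inf_le_left h2 h.zE (h.zdec E) (fun _ hx hP hH => h.EF E.toPairA hx hP hH)
    h.fuseP (h.fuseH E) h.nP (h.nH E)).trans inf_le_right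

/-- **(6)** `|Z₀| = 2` unless `D = 1` -/
theorem card_Z0 (E : MinA (S : Subgroup G) P H) (hD : D ≠ ⊥) :
    Nat.card (zc (S : Subgroup G) ⊓ V₀ : Subgroup G) = 2 := by
  have h1 : Nat.card (zc (S : Subgroup G) ⊓ V₀ : Subgroup G) ≤ 2 := by
    by_contra hcon
    have h2 := h.zc_le_V0 E (by omega)
    apply hD
    rw [eq_bot_iff, ← h.disj]
    exact le_inf (h.D_le_zc.trans h2) le_rfl
  obtain ⟨z₀, h0, hz0, h2⟩ := h.exists_z0
  have h3 : 1 < Nat.card (zc (S : Subgroup G) ⊓ V₀ : Subgroup G) := by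
    rw [Subgroup.one_lt_card_iff_ne_bot]
    intro h4
    have h5 : z₀ ∈ zc (S : Subgroup G) ⊓ V₀ := ⟨hz0, h0⟩
    rw [h4, mem_bot] at h5
    exact h2 h5
  omega

/-- the elements of `Z₀` -/
theorem eq_or (E : MinA (S : Subgroup G) P H) (hD : D ≠ ⊥) {z₀ x : G} (hz : z₀ ∈ zc (S : Subgroup G)) (hV : z₀ ∈ V₀)
    (h1 : z₀ ≠ 1) (hx : x ∈ zc (S : Subgroup G)) (hxV : x ∈ V₀) : x = 1 ∨ x = z₀ := by
  by_contra hcon
  push Not at hcon
  have h2 := h.card_Z0 E hD
  have h3 : ({1, z₀, x} : Set G) ⊆ ((zc (S : Subgroup G) ⊓ V₀ : Subgroup G) : Set G) := by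
    rintro y (rfl | rfl | rfl)
    · exact one_mem _
    · exact ⟨hz, hV⟩
    · exact ⟨hx, hxV⟩
  have h4 := Set.ncard_le_ncard h3 (Set.toFinite _)
  have h5 : ((zc (S : Subgroup G) ⊓ V₀ : Subgroup G) : Set G).ncard = 2 := h2
  have h6 : ({1, z₀, x} : Set G).ncard = 3 := Set.ncard_eq_three.2 ⟨1, z₀, x, h1.symm, hcon.1.symm, hcon.2.symm, rfl⟩
  omega

/-- `C_H(z₀) = C_G(Z)` -/
theorem cent_z0 (E : MinA (S : Subgroup G) P H) (hD : D ≠ ⊥) {z₀ : G} (hz : z₀ ∈ zc (S : Subgroup G)) (hV : z₀ ∈ V₀)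
    (h1 : z₀ ≠ 1) : H ⊓ centralizer ({z₀} : Set G) = CZ (S : Subgroup G) := by
  refine le_antisymm ?_ (le_inf E.long.cz (centralizer_le (Set.singleton_subset_iff.2 hz)))
  intro x hx
  rw [mem_centralizer_iff]
  intro z hz'
  obtain ⟨f, -, y, hy, hyH, hx', rfl, -⟩ := h.exists_dec E hz'
  have h2 : x * (h.nrm E.toPairA).val (∑ i, f i) = (h.nrm E.toPairA).val (∑ i, f i) * x := by
    rcases h.eq_or E hD hz hV h1 hx'.1 hx'.2 with h3 | h3
    · rw [h3, mul_one, one_mul]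
    · rw [h3]
      exact (mem_centralizer_iff.1 hx.2 z₀ rfl).symm
  rw [mul_assoc, ← mem_centralizer_iff.1 hyH x hx.1, ← mul_assoc, ← h2, mul_assoc]

/-- **`Z = ⟨e, f⟩`, `E = ⟨e⟩`, `F_H = ⟨f⟩`, `Z₀ = ⟨e f⟩`.** -/
theorem exists_ef (E : MinA (S : Subgroup G) P H) (hD : D ≠ ⊥) : ∃ e f z₀ : G, e ≠ 1 ∧ f ≠ 1 ∧ e ≠ f ∧ z₀ ≠ 1 ∧
    z₀ = e * f ∧ z₀ ∈ V₀ ∧ z₀ ∈ zc (S : Subgroup G) ∧ e ∈ zc (S : Subgroup G) ∧ f ∈ zc (S : Subgroup G) ∧
    (∀ x, x ∈ zc (S : Subgroup G) ↔ x = 1 ∨ x = e ∨ x = f ∨ x = z₀) ∧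
    (∀ x, x ∈ zc (S : Subgroup G) ∧ x ∈ V₀ ↔ x = 1 ∨ x = z₀) ∧
    (∀ x, x ∈ D ↔ x = 1 ∨ x = e) ∧
    (∀ x, x ∈ zc (S : Subgroup G) ∧ x ∈ centralizer (P : Set G) ↔ x = 1 ∨ x = e) ∧
    (∀ x, x ∈ zc (S : Subgroup G) ∧ x ∈ centralizer (H : Set G) ↔ x = 1 ∨ x = f) := by
  obtain ⟨z₀, h0, hz, h1⟩ := h.exists_z0
  have hcomm : ∀ x ∈ zc (S : Subgroup G), ∀ y ∈ zc (S : Subgroup G), x * y = y * x :=
    MinSimple.VModule.zc_comm _
  have hsq : ∀ x ∈ zc (S : Subgroup G), x * x = 1 := fun x hx => by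
    have := (mem_zc.1 hx).2.2
    rwa [pow_two] at this
  -- every `x ∈ Z` is `1` or `z₀` times an element of `D`, resp. `F_H`
  have hd1 : ∀ x ∈ zc (S : Subgroup G), x ∈ D ∨ z₀ * x ∈ D := by
    intro x hx
    obtain ⟨w, hw, d, hd, rfl⟩ := h.exists_mul (zc_le_zl _ _ hx)
    have hdz := h.D_le_zc hd
    have hwz : w ∈ zc (S : Subgroup G) := by
      have := mul_mem hx (inv_mem hdz)
      rwa [mul_inv_cancel_right] at this
    rcases h.eq_or E hD hz h0 h1 hwz hw with h3 | h3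
    · left; rw [h3, one_mul]; exact hd
    · right; rw [h3, ← mul_assoc, hsq _ hz, one_mul]; exact hd
  have hf1 : ∀ x ∈ zc (S : Subgroup G), x ∈ centralizer (H : Set G) ∨ z₀ * x ∈ centralizer (H : Set G) := by
    intro x hx
    obtain ⟨f, -, y, hy, hyH, hx', e, -⟩ := h.exists_dec E hx
    rcases h.eq_or E hD hz h0 h1 hx'.1 hx'.2 with h3 | h3
    · left; rw [e, h3, one_mul]; exact hyH
    · right; rw [e, h3, ← mul_assoc, hsq _ hz, one_mul]; exact hyH
  obtain ⟨⟨e, heD⟩, he⟩ := Subgroup.ne_bot_iff_exists_ne_one.1 hD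
  have he1 : e ≠ 1 := fun h2 => he (Subtype.ext h2)
  have hez := h.D_le_zc heD
  have heP := h.D_le_cent heD
  have heV : ∀ x ∈ D, x ∈ V₀ → x = 1 := fun x hx hxV => by
    have : x ∈ V₀ ⊓ D := ⟨hxV, hx⟩
    rwa [h.disj, mem_bot] at this
  have hDH : ∀ x ∈ D, x ∈ centralizer (H : Set G) → x = 1 := fun x hx hxH =>
    h.EF E.toPairA (h.D_le_zc hx) (h.D_le_cent hx) hxH
  set f := z₀ * e with hfdef
  have hfz : f ∈ zc (S : Subgroup G) := mul_mem hz hez
  have hfH : f ∈ centralizer (H : Set G) := (hf1 e hez).resolve_left fun h2 => he1 (hDH e heD h2)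
  have hef : z₀ = e * f := by
    rw [hfdef, ← mul_assoc, hcomm e hez z₀ hz, mul_assoc, hsq e hez, mul_one]
  -- `D = {1, e}`
  have hD2 : ∀ x, x ∈ D ↔ x = 1 ∨ x = e := by
    refine fun x => ⟨fun hx => ?_, ?_⟩
    · have hxz := h.D_le_zc hx
      by_cases hx1 : x = 1
      · exact Or.inl hx1
      right
      have h2 : z₀ * x ∈ centralizer (H : Set G) := (hf1 x hxz).resolve_left fun h2 => hx1 (hDH x hx h2)
      have h3 : (z₀ * x) * (z₀ * e)⁻¹ = x * e⁻¹ := by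
        rw [hcomm z₀ hz x hxz, hcomm z₀ hz e hez]; group
      have h4 : x * e⁻¹ = 1 := hDH _ (mul_mem hx (inv_mem heD)) (by rw [← h3]; exact mul_mem h2 (inv_mem hfH))
      exact mul_inv_eq_one.1 h4
    · rintro (rfl | rfl)
      · exact one_mem _
      · exact heD
  have hZ0f : ∀ x, x ∈ zc (S : Subgroup G) ∧ x ∈ centralizer (H : Set G) ↔ x = 1 ∨ x = f := by
    refine fun x => ⟨fun hx => ?_, ?_⟩
    · rcases hd1 x hx.1 with h2 | h2
      · exact Or.inl (hDH x h2 hx.2)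
      · rcases (hD2 _).1 h2 with h3 | h3
        · have h4 : x = z₀ := by
            have h5 := congrArg (fun t => z₀ * t) h3
            simp only [mul_one] at h5
            rwa [← mul_assoc, hsq _ hz, one_mul] at h5
          exact Or.inl (h.Z0_F E hx.1 (h4 ▸ h0) hx.2)
        · right
          have h5 : z₀ * (z₀ * x) = z₀ * e := by rw [h3]
          rwa [← mul_assoc, hsq _ hz, one_mul] at h5
    · rintro (rfl | rfl)
      · exact ⟨one_mem _, one_mem _⟩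
      · exact ⟨hfz, hfH⟩
  have hf0 : f ≠ 1 := fun h2 => by
    have h3 : z₀ = e⁻¹ := eq_inv_of_mul_eq_one_left h2
    exact h1 (heV z₀ (h3 ▸ inv_mem heD) h0)
  refine ⟨e, f, z₀, he1, hf0, fun h2 => he1 (hDH e heD (h2 ▸ hfH)), h1, hef, h0, hz, hez, hfz, ?_, ?_, hD2, ?_, hZ0f⟩
  · refine fun x => ⟨fun hx => ?_, ?_⟩
    · rcases hd1 x hx with h2 | h2
      · rcases (hD2 x).1 h2 with h3 | h3
        · exact Or.inl h3
        · exact Or.inr (Or.inl h3)
      · rcases (hD2 _).1 h2 with h3 | h3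
        · right; right; right
          have h5 := congrArg (fun t => z₀ * t) h3
          simp only [mul_one] at h5
          rwa [← mul_assoc, hsq _ hz, one_mul] at h5
        · right; right; left
          have h5 : z₀ * (z₀ * x) = z₀ * e := by rw [h3]
          rwa [← mul_assoc, hsq _ hz, one_mul] at h5
    · rintro (rfl | rfl | rfl | rfl)
      · exact one_mem _
      · exact hez
      · exact hfz
      · exact hz
  · refine fun x => ⟨fun hx => h.eq_or E hD hz h0 h1 hx.1 hx.2, ?_⟩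
    rintro (rfl | rfl)
    · exact ⟨one_mem _, one_mem _⟩
    · exact ⟨hz, h0⟩
  · intro x
    rw [← hD2, ← h.cent_P, mem_inf]

end Hyp

end Cfsg.Agent.Omega.NOThreeL.RSplit

end

section


/-!
# NO-3L, box R ∩ (A), `q > 2`, `V_P` split (#19602, helper797): (7), the instance of END

`h : Hyp M V₀`, `E : MinA S P H`, `D = C_Z(P) ≠ 1`.

* `gr A B` : the subgroup of `G` of an additive subgroup `B` of the module `U`;
* `Hyp.endC`, `Hyp.endB` : the data of `RSplit/EndB.lean`; `Hyp.qp` : (Q);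
* **`Hyp.false_of_ne`** : a contradiction.
-/

set_option autoImplicit false
set_option linter.unusedSectionVars false

namespace Cfsg.Agent.Omega.NOThreeL.RSplit

open Subgroup Cfsg Cfsg.Agent.Omega.MinPar
open Cfsg.Agent.ZN (zc zl o2)
open Cfsg.Agent.Omega.Frame Cfsg.Agent.Omega.FrameNOFF
open Cfsg.Agent.Omega.Node.NO3L Cfsg.Agent.Omega.NOThreeL.Basic
open Cfsg.Agent.Omega.NoFF.Basic (conj_conj mem_conj conj_le_iff conj_le_centralizer comm_symm comm_mono)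
open Cfsg.Agent.Omega.NOThreeL.Pair (conj_eq_of_mem conj_le_normalizer zl_abel)
open Cfsg.Agent.MinSimple.VModule (zl_le zc_le_zl le_normalizer_zl zc_le o2_isPGroup le_normalizer_o2 le_o2
  normalizer_le_normalizer_zc mem_zc)
open Cfsg.Agent.Omega.FFThm (Off NatK ActsSL)
open Cfsg.Agent.Omega.NOThreeL.ThmAx (Full IsAx TT YY mem_smul IsAx.smul YY_smul_eq)
open Cfsg.Agent.Omega.NOThreeL.RSplit.TransRt (Axs)
open Cfsg.Agent.Omega.NOThreeL.RSplit.Five (Cpt Nc Uc Ic Fv)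
open Cfsg.Agent.Omega.NOThreeL.RSplit.FrameOf (Ptt Vv)
open Cfsg.Agent.Omega.NOThreeL.RSplit.ManyAx (Many)
open Cfsg.Agent.Omega.NOThreeL.RBig.Pts (OneAx)
open Cfsg.Agent.Omega.NOThreeL.RSplit.EndFv (Dc)
open Cfsg.Agent.Omega.NOThreeL.RSplit.EndB (RR EndC EndB)
open scoped Pointwise commutatorElement

universe u

variable {G : Type u} [Group G]

/-- the subgroup of `G` of an additive subgroup of the module -/
def gr {H U : Subgroup G} (A : Nrm H U) (B : AddSubgroup A.Mod) : Subgroup G where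
  carrier := {x | ∃ m ∈ B, A.val m = x}
  one_mem' := ⟨0, zero_mem _, Nrm.val_zero⟩
  mul_mem' := by
    rintro _ _ ⟨m, hm, rfl⟩ ⟨m', hm', rfl⟩
    exact ⟨m + m', add_mem hm hm', Nrm.val_add _ _⟩
  inv_mem' := by
    rintro _ ⟨m, hm, rfl⟩
    exact ⟨-m, neg_mem hm, Nrm.val_neg _⟩

namespace gr

variable {H U : Subgroup G} {A : Nrm H U} {B C : AddSubgroup A.Mod}

theorem mem_iff {x : G} : x ∈ gr A B ↔ ∃ m ∈ B, A.val m = x := Iff.rfl

theorem val_mem {m : A.Mod} : A.val m ∈ gr A B ↔ m ∈ B := by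
  constructor
  · rintro ⟨m', hm', e⟩
    rwa [← Nrm.ext e]
  · exact fun hm => ⟨m, hm, rfl⟩

theorem le_U : gr A B ≤ U := by
  rintro _ ⟨m, -, rfl⟩
  exact Nrm.val_mem _ m

theorem mono (h : B ≤ C) : gr A B ≤ gr A C := by
  rintro _ ⟨m, hm, rfl⟩
  exact ⟨m, h hm, rfl⟩

theorem sup : gr A (B ⊔ C) = gr A B ⊔ gr A C := by
  refine le_antisymm ?_ (sup_le (mono le_sup_left) (mono le_sup_right))
  rintro _ ⟨m, hm, rfl⟩
  obtain ⟨a, ha, b, hb, rfl⟩ := AddSubgroup.mem_sup.1 hm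
  rw [Nrm.val_add]
  exact mul_mem (mem_sup_left ⟨a, ha, rfl⟩) (mem_sup_right ⟨b, hb, rfl⟩)

theorem ad_eq {K : Subgroup G} (hK : K ≤ U) : gr A (A.ad K) = K := by
  ext x
  constructor
  · rintro ⟨m, hm, rfl⟩
    exact hm
  · exact fun hx => ⟨A.of x (hK hx), hx, rfl⟩

end gr

variable {F : Type} [Field F] {k : ℕ}

namespace Hyp

variable [Finite G] {S : Sylow 2 G} {P H D V₀ : Subgroup G}
variable {M : NatK F (S : Subgroup G) P (zl (S : Subgroup G) P) D k} (h : Hyp M V₀)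
include h

variable [CharP F 2]

/-- `H` is generated by `C` and members of `P*(S)` -/
theorem gen' (E : MinA (S : Subgroup G) P H) : RTransv.Gen (S : Subgroup G) H := by
  obtain ⟨H₁, h1, h2, h3, h4⟩ := RTransv.exists_gen E.long
  by_cases h : H₁ = H
  · rwa [h] at h4
  · exact absurd (by rw [← h3]; exact E.min H₁ h2 h1 h) E.ne

/-- `[U, V] = ∏ R_i` -/
theorem RR_eq (E : PairA (S : Subgroup G) P H) :
    RR (S : Subgroup G) P H = gr (h.nrm E) (⨆ i, h.R E i) := by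
  refine le_antisymm ?_ ?_
  · have h1 : RR (S : Subgroup G) P H ≤ ⨆ i, rr M V₀ i := fun r hr => h.ln_le ((h.mem_RR E).1 hr)
    refine h1.trans (iSup_le fun i => ?_)
    rw [← gr.ad_eq (A := h.nrm E) (h.rr_le_U E i)]
    exact gr.mono (le_iSup (h.R E) i)
  · rintro _ ⟨m, hm, rfl⟩
    have h1 : (⨆ i, h.R E i) ≤ (h.nrm E).ad (RR (S : Subgroup G) P H) := by
      refine iSup_le fun i m hm => ?_
      rw [Nrm.mem_ad, h.mem_RR E]
      have hm' : (h.nrm E).val m ∈ rr M V₀ i := hm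
      refine ⟨hm'.1.1, fun j => ?_⟩
      by_cases hj : j = i
      · subst hj
        exact hm'.2
      · rw [hm'.1.2.2 j hj]
        rfl
    exact h1 hm

section fv

variable (E : MinA (S : Subgroup G) P H) (hD : D ≠ ⊥) {z₀ : G} (hz : z₀ ∈ zc (S : Subgroup G)) (hV : z₀ ∈ V₀)
  (h1 : z₀ ≠ 1) {f : Fin k → (h.nrm E.toPairA).Mod}
  (hf : ∑ i, f i = (h.nrm E.toPairA).of z₀ (zc_le_zl _ _ hz))
  (Q : Fv (TH M V₀ H) (h.Ax E.toPairA) (h.R E.toPairA) f (h.Zv E.toPairA))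

/-- `U₁ = [U, N]` -/
abbrev U1 (E : MinA (S : Subgroup G) P H) : Subgroup G :=
  gr (h.nrm E.toPairA) (⨆ i, Uc H (h.Ax E.toPairA) (h.R E.toPairA) i)

include E hD hz hV h1 hf Q

/-- the common data -/
theorem endC : EndC (S : Subgroup G) P H (h.U1 E) z₀ where
  par := h.par
  long := E.long
  ne := fun hc => E.ne (comm_symm hc)
  gen := h.gen' E
  U₁U := gr.le_U
  RU := by
    rw [h.RR_eq E.toPairA]
    exact gr.mono (EndFv.iSup_R_le_Uc Q)
  HU := fun g hg => by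
    refine EndB.mem_norm_of_le ?_
    intro x hx
    rw [mem_conj] at hx
    obtain ⟨m, hm, e⟩ := hx
    refine ⟨(⟨g, hg⟩ : H) • m, EndFv.smul_iSup_Uc Q _ hm, ?_⟩
    rw [Nrm.val_smul, e]
    change g * (g⁻¹ * x * g) * g⁻¹ = x
    group
  ZF := by
    refine (h.zdec E).trans (sup_le_sup_right ?_ _)
    rintro z ⟨hzz, hzV⟩
    rw [h.mem_RR E.toPairA]
    refine ⟨hzV, fun i => ?_⟩
    by_cases hz1 : z = 1
    · rw [hz1, RStr.e_one M]
      rfl
    · exact (h.e_ne hzz hzV hz1 i).2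
  z0 := hz
  z0R := by
    rw [h.mem_RR E.toPairA]
    exact ⟨hV, fun i => (h.e_ne hz hV h1 i).2⟩
  z01 := h1
  pts := fun x hx hxR => by
    rw [h.RR_eq E.toPairA] at hxR ⊢
    have h2 : (⟨x, hx⟩ : H) • ∑ i, f i ∈ ⨆ i, h.R E.toPairA i := by
      rw [← gr.val_mem, hf, Nrm.val_smul, Nrm.val_of]
      exact hxR
    intro y hy
    rw [mem_conj] at hy
    obtain ⟨m, hm, e⟩ := hy
    refine ⟨(⟨x, hx⟩ : H) • m, EndFv.smul_iSup_R Q h2 hm, ?_⟩
    rw [Nrm.val_smul, e]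
    change x * (x⁻¹ * y * x) * x⁻¹ = y
    group

omit hD h1 hV in
theorem mem_C {x : H} (hx : x • ∑ i, f i = ∑ i, f i) : (x : G) ∈ centralizer ({z₀} : Set G) := by
  rw [hf] at hx
  have h2 := Nrm.ext_iff.1 hx
  rw [Nrm.val_smul, Nrm.val_of] at h2
  exact mem_centralizer_singleton_iff.2 (mul_inv_eq_iff_eq_mul.1 h2)

/-- (Q) -/
theorem qp (one : ∀ i, OneAx (Ptt H (h.Ax E.toPairA) (h.R E.toPairA) (Cpt H (h.Ax E.toPairA) (h.R E.toPairA) i)
      (Uc H (h.Ax E.toPairA) (h.R E.toPairA) i))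
    (Vv (TH M V₀ H) (h.Ax E.toPairA) (h.R E.toPairA) (Cpt H (h.Ax E.toPairA) (h.R E.toPairA) i)
      (Uc H (h.Ax E.toPairA) (h.R E.toPairA) i))) : RA.End.QP (S : Subgroup G) P H := by
  intro B hB hCB hBB b hb
  have hBC : B ≤ CZ (S : Subgroup G) := hB.trans (Cfsg.Agent.MinSimple.VModule.o2_le _)
  have hBH : B ≤ H := hBC.trans E.long.cz
  obtain ⟨v, hv, h2⟩ := QuadFv.quad_main Q (h.free E.toPairA) one (B := B.subgroupOf H)
    (fun b hb => by
      rw [hf]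
      refine Nrm.ext ?_
      rw [Nrm.val_smul, Nrm.val_of]
      rw [← mem_centralizer_iff.1 (hBC (mem_subgroupOf.1 hb)) z₀ hz, mul_inv_cancel_right])
    (fun b _ u hu => by
      have h3 := (h.mem_Ic_iff E).1 hu
      refine Nrm.ext ?_
      rw [Nrm.val_smul, mem_centralizer_iff.1 h3.2 b b.2, mul_inv_cancel_right])
    (fun x hx _ b hb => by
      have h3 : (x : G) ∈ CZ (S : Subgroup G) := by
        rw [← h.cent_z0 E hD hz hV h1]
        exact ⟨x.2, h.mem_C E hz hf Q hx⟩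
      exact (mem_normalizer_iff.1 (hCB h3) b).1 hb)
    (fun b hb b' hb' m => by
      refine Nrm.ext ?_
      rw [Nrm.val_smul, Nrm.val_add, Nrm.val_smul]
      have hm : (h.nrm E.toPairA).val m ∈ CZ (S : Subgroup G) := (le_CZ _) (h.US E.toPairA (Nrm.val_mem _ m))
      have h3 : (h.nrm E.toPairA).val m * (b' : G)⁻¹ * ((h.nrm E.toPairA).val m)⁻¹ ∈ B :=
        (mem_normalizer_iff.1 (hCB hm) _).1 (inv_mem hb')
      have h4 : ((h.nrm E.toPairA).val m)⁻¹ = (h.nrm E.toPairA).val m :=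
        inv_eq_of_mul_eq_one_left (h.sqU E.toPairA (Nrm.val_mem _ m))
      have h5 : (b' : G) * (h.nrm E.toPairA).val m * (b' : G)⁻¹ * (h.nrm E.toPairA).val m ∈ B := by
        rw [h4] at h3
        have e : (b' : G) * (h.nrm E.toPairA).val m * (b' : G)⁻¹ * (h.nrm E.toPairA).val m =
            b' * ((h.nrm E.toPairA).val m * (b' : G)⁻¹ * (h.nrm E.toPairA).val m) := by group
        rw [e]
        exact mul_mem hb' h3
      have h6 : (b' : G) * (h.nrm E.toPairA).val m * (b' : G)⁻¹ * (h.nrm E.toPairA).val m * (b : G) =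
        (b : G) * ((b' : G) * (h.nrm E.toPairA).val m * (b' : G)⁻¹ * (h.nrm E.toPairA).val m) :=
        mem_centralizer_iff.1 (hBB (mem_subgroupOf.1 hb)) _ h5
      rw [← h6, mul_inv_cancel_right]) (mem_subgroupOf.2 hb : (⟨b, hBH hb⟩ : H) ∈ B.subgroupOf H)
  have hvV : (v : G) ∈ zl (S : Subgroup G) P := by
    have h3 : (⨆ i, TH M V₀ H i) ≤ (zl (S : Subgroup G) P).subgroupOf H :=
      iSup_le fun i t ht => mem_subgroupOf.2 (mem_subgroupOf.1 ht).2.1
    exact mem_subgroupOf.1 (h3 hv)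
  have h3 : (v : G)⁻¹ * b ∈ centralizer (zl (S : Subgroup G) H : Set G) := by
    rw [mem_centralizer_iff]
    intro u hu
    have h4 := Nrm.ext_iff.1 (h2 ((h.nrm E.toPairA).of u hu))
    rw [Nrm.val_smul, Nrm.val_smul, Nrm.val_of] at h4
    change b * u * b⁻¹ = v * u * (v : G)⁻¹ at h4
    have h5 : (v : G)⁻¹ * (b * u * b⁻¹) * b = u * ((v : G)⁻¹ * b) := by
      rw [h4]
      group
    rw [← h5]
    group
  have e : b = v * ((v : G)⁻¹ * b) := by group
  rw [e]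
  exact mul_mem (mem_sup_left hvV) (mem_sup_right h3)

/-- the data of ONE AXIS -/
theorem endB (one : ∀ i, OneAx (Ptt H (h.Ax E.toPairA) (h.R E.toPairA) (Cpt H (h.Ax E.toPairA) (h.R E.toPairA) i)
      (Uc H (h.Ax E.toPairA) (h.R E.toPairA) i))
    (Vv (TH M V₀ H) (h.Ax E.toPairA) (h.R E.toPairA) (Cpt H (h.Ax E.toPairA) (h.R E.toPairA) i)
      (Uc H (h.Ax E.toPairA) (h.R E.toPairA) i))) {f₀ : G}
    (hf₀ : f₀ ∈ zc (S : Subgroup G) ⊓ centralizer (H : Set G)) (hf1 : f₀ ≠ 1) : ∃ w : G,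
      EndB (S : Subgroup G) P H (h.U1 E) z₀ f₀ w
        (fun i => gr (h.nrm E.toPairA) (Uc H (h.Ax E.toPairA) (h.R E.toPairA) i))
        (fun i => gr (h.nrm E.toPairA) (Dc H (h.Ax E.toPairA) (h.R E.toPairA) i))
        (fun i => gr (h.nrm E.toPairA) (h.R E.toPairA i)) := by
  obtain ⟨w, hw, ho1, ho2, ho3, ho4⟩ := h.exists_opp E.toPairA hf₀ hf1
  refine ⟨w, { toEndC := h.endC E hD hz hV h1 hf Q, indep := ?_, U_le := ?_, le_D := ?_, RR_le := ?_, inter := ?_,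
               trC := ?_, exA := ?_, tr := ?_, hQ := h.qp E hD hz hV h1 hf Q one, hf := hf₀, hw := hw,
               Vw := ho1, Vw' := ho2, op := ho3, opR := ho4 }⟩
  · rintro i _ ⟨m, hm, rfl⟩ h2
    rw [← gr.sup, gr.val_mem] at h2
    rw [gr.val_mem]
    exact EndFv.indep Q hm h2
  · exact fun i => gr.mono (le_iSup (Uc H (h.Ax E.toPairA) (h.R E.toPairA)) i)
  · exact fun i j hij => gr.mono (EndFv.Uc_le_Dc hij)
  · intro i
    rw [h.RR_eq E.toPairA, ← gr.sup]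
    exact gr.mono (EndFv.iSup_R_le Q i)
  · rintro _ ⟨m, hm, rfl⟩ h2
    rw [h.RR_eq E.toPairA, gr.val_mem]
    refine EndFv.inter Q hm fun i => ?_
    have h3 := h2 i
    rwa [← gr.sup, gr.val_mem] at h3
  · intro i j
    obtain ⟨s, hs, hij⟩ := h.exists_S i j
    refine ⟨s, le_CZ _ hs, ?_⟩
    rintro _ ⟨m, hm, rfl⟩ h2
    have hsH : s ∈ H := h.SH E.toPairA hs
    have hA : (⟨s, hsH⟩ : H) • h.Ax E.toPairA i = h.Ax E.toPairA j := by
      rw [Nrm.smul_ad]
      change (h.nrm E.toPairA).ad (MulAut.conj s • centralizer (nn M V₀ i : Set G)) = _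
      rw [smul_centralizer, h.conj_nn (h.SP hs), hij]
    have hR : (⟨s, hsH⟩ : H) • h.R E.toPairA i = h.R E.toPairA j := by
      rw [Nrm.smul_ad]
      change (h.nrm E.toPairA).ad (MulAut.conj s • rr M V₀ i) = _
      rw [h.conj_rr hs, hij]
    have hU := EndFv.smul_Uc_of Q hA
    constructor
    · refine ⟨(⟨s, hsH⟩ : H) • m, ?_, rfl⟩
      rw [← hU]
      exact AddSubgroup.smul_mem_pointwise_smul _ _ _ hm
    · intro h3
      apply h2
      rw [gr.val_mem]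
      have h4 : (⟨s, hsH⟩ : H) • m ∈ h.R E.toPairA j := by
        rw [← gr.val_mem]
        exact h3
      rw [← hR, mem_smul, inv_smul_smul] at h4
      exact h4
  · rintro i _ ⟨m, hm, rfl⟩ hmV h2
    rw [← gr.sup, gr.val_mem] at h2
    obtain ⟨g, hg, rfl⟩ := EndFv.exists_sum hm
    have hgR : g i ∉ h.R E.toPairA i := fun h3 => h2 (EndFv.mem_Dc_sup hg h3)
    have hgA : g i ∈ h.Ax E.toPairA i := by
      have h3 : ∑ j, g j ∈ h.Ax E.toPairA i :=
        (centralizer_le (nn_le_V i) : centralizer (zl (S : Subgroup G) P : Set G) ≤ _) hmV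
      rw [← Finset.add_sum_erase Finset.univ g (Finset.mem_univ i)] at h3
      refine ((h.Ax E.toPairA i).add_mem_cancel_right (sum_mem fun j hj => ?_)).1 h3
      exact Q.Uc_le (Finset.ne_of_mem_erase hj).symm (Fv.self_mem i) (hg j)
    obtain ⟨x, hx1, hx2, hx3, hx4, hx5⟩ := EndFv.exists_sep Q (h.free E.toPairA) (one i) (hg i) hgA hgR
    have hxz : x • ∑ j, f j = ∑ j, f j := by
      rw [Finset.smul_sum]
      refine Finset.sum_congr rfl fun j _ => ?_
      by_cases hj : j = i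
      · subst hj
        exact hx3 _ (Q.zR j)
      · exact hx1 j hj _ (Q.R_le_Uc j (Q.zR j))
    have hxC : (x : G) ∈ CZ (S : Subgroup G) := by
      rw [← h.cent_z0 E hD hz hV h1]
      exact ⟨x.2, h.mem_C E hz hf Q hxz⟩
    have hxm : x • ∑ j, g j = ∑ j, g j + (x • g i - g i) := by
      rw [← Finset.add_sum_erase Finset.univ g (Finset.mem_univ i), smul_add, Finset.smul_sum,
        Finset.sum_congr rfl fun j hj => hx1 j (Finset.ne_of_mem_erase hj) _ (hg j)]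
      abel
    have e : (h.nrm E.toPairA).val (∑ j, g j) * ((x : G) * ((h.nrm E.toPairA).val (∑ j, g j))⁻¹ * (x : G)⁻¹) =
        (h.nrm E.toPairA).val (-(x • g i - g i)) := by
      have h3 : -(x • g i - g i) = ∑ j, g j + x • (-∑ j, g j) := by
        rw [smul_neg, hxm]
        abel
      rw [h3, Nrm.val_add, Nrm.val_smul, Nrm.val_neg]
    refine ⟨x, hxC, ?_, ?_⟩
    · rw [e, gr.val_mem]
      exact neg_mem hx4
    · rw [e, gr.val_mem]
      intro h3
      exact hx5 (by simpa using neg_mem h3)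
  · rintro _ ⟨m, hm, rfl⟩ h2
    obtain ⟨g, hg, rfl⟩ := EndFv.exists_sum hm
    have hg0 : ∀ i, g i ≠ 0 := by
      intro i h3
      apply h2 i
      rw [gr.val_mem]
      exact ⟨g, hg, h3, rfl⟩
    obtain ⟨n, -, hn⟩ := Q.fuse (fun i => Q.R_le_Uc i (Q.zR i)) Q.z0 hg hg0
    refine ⟨n, n.2, ?_⟩
    rw [← hn, hf, Nrm.val_smul, Nrm.val_of]

/-- MANY AXES -/
theorem falseA (many : ∀ i, Many (TH M V₀ H) (h.Ax E.toPairA) (h.R E.toPairA)
    (Cpt H (h.Ax E.toPairA) (h.R E.toPairA) i) (Uc H (h.Ax E.toPairA) (h.R E.toPairA) i)) : False := by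
  have T := h.endC E hD hz hV h1 hf Q
  refine T.falseA h.hc h.data ?_
  rintro _ ⟨m, hm, rfl⟩ h2
  rw [h.RR_eq E.toPairA, gr.val_mem]
  refine EndFv.mem_of_many Q (h.free E.toPairA) many hm fun x hx l => ?_
  rw [Nrm.smul_ad, Nrm.mem_ad, smul_centralizer]
  have h3 : (x : G) * z₀ * (x : G)⁻¹ ∈ RR (S : Subgroup G) P H := by
    rw [h.RR_eq E.toPairA]
    rw [← gr.val_mem, hf, Nrm.val_smul, Nrm.val_of] at hx
    exact hx
  have h4 := h2 x x.2 (EndB.mem_norm_of_le (T.pts x x.2 h3))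
  have h5 : MulAut.conj (x : G) • nn M V₀ l ≤ MulAut.conj (x : G) • zl (S : Subgroup G) P :=
    conj_le_iff.2 (nn_le_V l)
  exact centralizer_le h5 h4

end fv

/-- **(7)** -/
theorem false_of_ne (E : MinA (S : Subgroup G) P H) (hD : D ≠ ⊥) : False := by
  obtain ⟨e, f₀, z₀, he1, hf1, hef, h1, hz0, hV, hz, hez, hfz, -, -, -, -, hF⟩ := h.exists_ef E hD
  obtain ⟨f, hf, Q⟩ := h.fv E hz hV h1
  rcases QuadFv.many_or_one Q (h.free E.toPairA) with hm | ho
  · exact h.falseA E hD hz hV h1 hf Q hm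
  · have hf₀ : f₀ ∈ zc (S : Subgroup G) ⊓ centralizer (H : Set G) := (hF f₀).2 (Or.inr rfl)
    obtain ⟨w, hw⟩ := h.endB E hD hz hV h1 hf Q ho hf₀ hf1
    exact hw.false h.hc h.data (by rw [h.cent_P]; exact hD)

end Hyp

end Cfsg.Agent.Omega.NOThreeL.RSplit

end

end
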